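import Groth.Agent.L24.Count.UnipCount
import Groth.Agent.L08.Borel.GenNilp
import Groth.Agent.L08.Borel.SolvTori
import Groth.Agent.S7951

/-! Groups without subtori are unipotent; their rational points over finite fields. -/

set_option autoImplicit false
set_option backward.isDefEq.respectTransparency.types false
set_option linter.style.haveILetI false
set_option linter.unusedSectionVars false

universe u

open CategoryTheory CategoryTheory.Limits MonoidalCategory CartesianMonoidalCategory MonObj AlgebraicGeometry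
open TensorProduct WithConv
open Groth.L25.Bridge (P bcIso exists_hopf)
open Groth.L08.TorusQuot (SP sp sp_left toPt)
open Groth.L08.Borel (exists_unit_iso)

noncomputable section

namespace Groth.L24.Count

section AlgClosed

variable {K : Type u} [Field K] [IsAlgClosed K] {A : Type u} [CommRing A] [HopfAlgebra K A] [Algebra.FiniteType K A]

/-- A connected smooth affine group without subtori is unipotent. -/
theorem isUnipotent_of_noSubtorus [_root_.IsReduced A] (hconn : ∀ e : A, IsIdempotentElem e → e = 0 ∨ e = 1)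
    [AlgebraicGeometry.Smooth (P K A).hom] [ConnectedSpace (P K A).left] (h : Red.HasNoSubtorus K (P K A)) :
    HopfRep.IsUnipotent K A := by
  haveI : IsAffine (P K A).left := inferInstanceAs (IsAffine (Spec (CommRingCat.of A)))
  haveI : IsAffineHom (P K A).hom := isAffineHom_of_isAffine _
  haveI : QuasiCompact (P K A).hom := inferInstance
  have hcen : ∀ (T : Over (Spec (CommRingCat.of K))) [GrpObj T] (j : T ⟶ P K A) [IsMonHom j] [Mono j],
      Red.IsTorus T → ∀ (X : Over (Spec (CommRingCat.of K))) (t : X ⟶ T) (g : X ⟶ P K A),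
        (t ≫ j) * g = g * (t ≫ j) := by
    intro T _ j _ _ hT X t g
    haveI : IsIso T.hom := h T j hT
    have ht : t = 1 := Over.OverMorphism.ext ((cancel_mono T.hom).1 ((Over.w t).trans (Over.w _).symm))
    rw [ht, MonObj.one_comp, _root_.one_mul, _root_.mul_one]
  haveI : Group.IsNilpotent (𝟙_ (Over (Spec (CommRingCat.of K))) ⟶ P K A) :=
    Groth.L08.Borel.nilpotent_of_unique (Groth.L08.Borel.unique_of_central hcen)
  let φ : WithConv (A →ₐ[K] K) →* (𝟙_ (Over (Spec (CommRingCat.of K))) ⟶ P K A) :=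
    MonoidHom.mk' (fun x => exists_unit_iso.choose.inv ≫ (toPt x : SP K K ⟶ P K A)) fun x y => by
      show _ ≫ Spec.mapMulEquiv (x * y) = _
      rw [map_mul, MonObj.comp_mul]
  have hφ : Function.Injective φ := fun x y e =>
    (Spec.mapMulEquiv (R := K) (S := A) (T := K)).injective ((cancel_epi exists_unit_iso.choose.inv).1 e)
  haveI : Group.IsNilpotent (WithConv (A →ₐ[K] K)) :=
    Group.nilpotent_of_mulEquiv (MonoidHom.ofInjective hφ).symm
  haveI : Group.IsSolvable (WithConv (A →ₐ[K] K)) := inferInstance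
  obtain ⟨B, _, _, ψ, J, _, r, n, hψ, -, hJ, hU, hr, ⟨e⟩⟩ := Groth.L08.Borel.exists_retraction (k := K) hconn
  let q : A →ₐc[K] MonoidAlgebra K (Multiplicative (Fin n → ℤ)) :=
    (e : B →ₐc[K] MonoidAlgebra K (Multiplicative (Fin n → ℤ))).comp r
  have hq : Function.Surjective q := fun z => ⟨ψ (e.symm z), by
    show e (r (ψ (e.symm z))) = z
    rw [show r (ψ (e.symm z)) = e.symm z from congrArg (fun f : B →ₐc[K] B => f (e.symm z)) hr, e.apply_symm_apply]⟩
  haveI : IsClosedImmersion (sp q).left := IsClosedImmersion.spec_of_surjective _ hq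
  haveI : Mono (sp q) := Over.mono_of_mono_left _
  have htriv : IsIso (P K (MonoidAlgebra K (Multiplicative (Fin n → ℤ)))).hom :=
    h _ (sp q) (Groth.L01.Unip.isTorus_P_fin K n)
  change IsIso (Spec.map (CommRingCat.ofHom (algebraMap K (MonoidAlgebra K (Multiplicative (Fin n → ℤ)))))) at htriv
  let φ' := CommRingCat.ofHom (algebraMap K (MonoidAlgebra K (Multiplicative (Fin n → ℤ))))
  haveI : IsIso (Scheme.Spec.map φ'.op) := htriv
  haveI : IsIso φ'.op := isIso_of_fully_faithful Scheme.Spec _
  haveI : IsIso φ' := isIso_of_op φ'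
  have hb := ConcreteCategory.bijective_of_isIso φ'
  have hB : ∀ b : B, ∃ c : K, algebraMap K B c = b := fun b => by
    obtain ⟨c, hc⟩ := hb.2 (e b)
    exact ⟨c, e.injective ((AlgHomClass.commutes e c).trans hc)⟩
  have hbot : J = ⊥ := by
    rw [hJ, eq_bot_iff, Ideal.map_le_iff_le_comap]
    intro b hb'
    obtain ⟨c, rfl⟩ := hB b
    have hc : c = 0 := (Bialgebra.counit_algebraMap c).symm.trans hb'
    simp [hc]
  let q₀ : A →ₐc[K] A ⧸ J := Bialgebra.Quotient.mkBialgHom (R := K) J
  have hq₀ : Function.Injective q₀ := fun a b hab => by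
    have := Ideal.Quotient.eq.1 (show Ideal.Quotient.mk J a = Ideal.Quotient.mk J b from hab)
    rw [hbot, Ideal.mem_bot] at this
    exact sub_eq_zero.1 this
  haveI : Algebra.FiniteType K (A ⧸ J) :=
    Algebra.FiniteType.of_surjective (Ideal.Quotient.mkₐ K J) Ideal.Quotient.mk_surjective
  exact (Groth.Agent.S5422.result K (A ⧸ J)).2.1 A q₀ hq₀ hU

end AlgClosed

variable {k : Type u} [Field k] {kb : Type u} [Field kb] [Algebra k kb] [IsAlgClosure k kb]

/-- The Hopf algebra of a connected smooth affine group without geometric subtori. -/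
theorem exists_hopf_unipotent [PerfectField k] (U : Over (Spec (CommRingCat.of k))) [GrpObj U] [AlgebraicGeometry.Smooth U.hom]
    [IsAffineHom U.hom] [ConnectedSpace U.left] (hU : Red.HasNoSubtorus kb (GalTw.bcK kb U)) :
    ∃ (A : Type u) (_ : CommRing A) (_ : HopfAlgebra k A), Nonempty (Grp.mk U ≅ Grp.mk (P k A)) ∧
      Algebra.FiniteType k A ∧ IsDomain (kb ⊗[k] A) ∧ HopfRep.IsUnipotent k A ∧ AlgebraicGeometry.Smooth (P k A).hom := by
  haveI : IsAlgClosed kb := IsAlgClosure.isAlgClosed k
  haveI : Normal k kb := IsAlgClosure.normal k kb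
  haveI : IsAffine U.left := isAffine_of_isAffineHom U.hom
  obtain ⟨A, _, _, ⟨E⟩⟩ := exists_hopf (R := k) U
  have hiso : IsIso E.inv.hom.hom :=
    ⟨E.hom.hom.hom, congr($(E.inv_hom_id).hom.hom), congr($(E.hom_inv_id).hom.hom)⟩
  haveI : IsIso E.inv.hom.hom.left := inferInstanceAs (IsIso ((Over.forget _).map E.inv.hom.hom))
  haveI hsm : AlgebraicGeometry.Smooth (P k A).hom := by
    rw [← Over.w E.inv.hom.hom]
    exact inferInstanceAs (AlgebraicGeometry.Smooth (E.inv.hom.hom.left ≫ U.hom))
  haveI : Algebra.FiniteType k A := by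
    have h : LocallyOfFiniteType (P k A).hom := inferInstance
    change LocallyOfFiniteType (Spec.map (CommRingCat.ofHom (algebraMap k A))) at h
    rw [HasRingHomProperty.Spec_iff (P := @LocallyOfFiniteType), CommRingCat.hom_ofHom,
      RingHom.finiteType_algebraMap] at h
    exact h
  haveI : _root_.IsReduced A :=
    (affine_isReduced_iff (CommRingCat.of A)).1
      (@Groth.Agent.AV.isReduced_of_smooth_field k _ _ (Spec.map (CommRingCat.ofHom (algebraMap k A))) hsm)
  haveI : ConnectedSpace (PrimeSpectrum A) :=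
    (Scheme.homeoOfIso (asIso E.inv.hom.hom.left)).symm.surjective.connectedSpace (Homeomorph.continuous _)
  have hconn : ∀ e : A, IsIdempotentElem e → e = 0 ∨ e = 1 := fun e he => by
    have hc : IsClopen (PrimeSpectrum.basicOpen e : Set (PrimeSpectrum A)) :=
      PrimeSpectrum.isClopen_iff.2 ⟨e, he, rfl⟩
    rcases isClopen_iff.1 hc with h | h
    · left
      exact (IsNilpotent.eq_zero ((PrimeSpectrum.basicOpen_eq_bot_iff e).1 (TopologicalSpace.Opens.ext h)))
    · right
      have hu : IsUnit e := by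
        by_contra hne
        obtain ⟨m, hm, hem⟩ := exists_max_ideal_of_mem_nonunits (mem_nonunits_iff.2 hne)
        have : (⟨m, hm.isPrime⟩ : PrimeSpectrum A) ∈ PrimeSpectrum.basicOpen e := by
          rw [← SetLike.mem_coe, h]; trivial
        exact this hem
      exact hu.mul_left_cancel (he.eq.trans (_root_.mul_one e).symm)
  -- the geometric fibre
  let E' : Grp.mk (GalTw.bcK kb U) ≅ Grp.mk (P kb (kb ⊗[k] A)) :=
    (Over.pullback (SGA7.pt (K := k) kb).hom).mapGrp.mapIso E ≪≫ bcIso k A kb
  haveI : IsIso E'.inv.hom.hom :=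
    ⟨E'.hom.hom.hom, congr($(E'.inv_hom_id).hom.hom), congr($(E'.hom_inv_id).hom.hom)⟩
  haveI : IsMonHom E'.inv.hom.hom := E'.inv.hom.isMonHom_hom
  haveI : IsIso E'.inv.hom.hom.left := inferInstanceAs (IsIso ((Over.forget _).map E'.inv.hom.hom))
  haveI hsmK : AlgebraicGeometry.Smooth (P kb (kb ⊗[k] A)).hom := by
    haveI : AlgebraicGeometry.Smooth (GalTw.bcK kb U).hom :=
      inferInstanceAs (AlgebraicGeometry.Smooth (pullback.snd U.hom (SGA7.pt (K := k) kb).hom))
    rw [← Over.w E'.inv.hom.hom]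
    exact inferInstanceAs (AlgebraicGeometry.Smooth (E'.inv.hom.hom.left ≫ (GalTw.bcK kb U).hom))
  haveI : _root_.IsReduced (kb ⊗[k] A) :=
    (affine_isReduced_iff (CommRingCat.of (kb ⊗[k] A))).1
      (@Groth.Agent.AV.isReduced_of_smooth_field kb _ _
        (Spec.map (CommRingCat.ofHom (algebraMap kb (kb ⊗[k] A)))) hsmK)
  haveI hdom : IsDomain (kb ⊗[k] A) := Groth.L01.MultConj.isDomain_of_connected hconn
  haveI : ConnectedSpace (P kb (kb ⊗[k] A)).left :=
    inferInstanceAs (ConnectedSpace (PrimeSpectrum (kb ⊗[k] A)))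
  have hns : Red.HasNoSubtorus kb (P kb (kb ⊗[k] A)) := fun T _ j _ _ hT =>
    hU T (j ≫ E'.inv.hom.hom) hT
  have hKU := isUnipotent_of_noSubtorus (A := kb ⊗[k] A) (fun e he =>
    Groth.L01.MultByUnip.eq_zero_or_one_of_idempotent (Bialgebra.counitAlgHom k A) hconn he) hns
  exact ⟨A, _, _, ⟨E⟩, ‹_›, hdom, (Groth.Agent.S7951.result k kb A).2 hKU, hsm⟩

/-- A connected smooth affine group without geometric subtori has `q ^ dim` rational points. -/
theorem card_pts_noSubtorus [Finite k] (U : Over (Spec (CommRingCat.of k))) [GrpObj U] [AlgebraicGeometry.Smooth U.hom]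
    [IsAffineHom U.hom] [ConnectedSpace U.left] (hU : Red.HasNoSubtorus kb (GalTw.bcK kb U))
    (d : ℕ) (hd : topologicalKrullDim ↥U.left = (d : WithBot ℕ∞)) :
    Nat.card (SGA7.Pts (K := k) k U) = Nat.card k ^ d := by
  obtain ⟨A, _, _, ⟨E⟩, hft, hdom, hunip, -⟩ := exists_hopf_unipotent U hU
  let e : U ≅ P k A := (Grp.forget _).mapIso E
  have hdim : ringKrullDim A = (d : WithBot ℕ∞) := by
    rw [← hd, ← PrimeSpectrum.topologicalKrullDim_eq_ringKrullDim]
    exact ((Scheme.homeoOfIso ((Over.forget _).mapIso e)).isHomeomorph.topologicalKrullDim_eq).symm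
  rw [← card_points_of_isUnipotent (kb := kb) d A hunip hdim]
  exact Nat.card_congr
    ((Iso.homToEquiv e).trans (((Spec.mapMulEquiv (R := k) (S := A) (T := k)).symm.toEquiv).trans
      (WithConv.equiv (A →ₐ[k] k))))

end Groth.L24.Count
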