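import Groth.Prelude.Def_AlgGrp
import Groth.Agent.L25.Actions

/-! Pointwise algebra of torsors over the terminal base. -/

set_option autoImplicit false
set_option backward.isDefEq.respectTransparency false
set_option backward.isDefEq.respectTransparency.types false

universe u

open CategoryTheory MonoidalCategory CartesianMonoidalCategory MonObj AlgebraicGeometry Limits

noncomputable section

namespace Groth.L24.Count

variable {S : Scheme.{u}} {G X P T T' : Over S} [GrpObj G]

/-- A point of the group acting on a point. -/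
def sm (a : AlgGrp.Action G X) (g : T ⟶ G) (x : T ⟶ X) : T ⟶ X := lift g x ≫ a.act

variable (a : AlgGrp.Action G X) (g h : T ⟶ G) (x : T ⟶ X)

theorem sm_one : sm a 1 x = x := Groth.L25.Actions.one_act a x

theorem sm_mul : sm a (g * h) x = sm a g (sm a h x) := Groth.L25.Actions.mul_act a g h x

theorem inv_sm : sm a g⁻¹ (sm a g x) = x := Groth.L25.Actions.inv_act a g x

theorem sm_inv : sm a g (sm a g⁻¹ x) = x := Groth.L25.Actions.act_inv a g x

theorem comp_sm (f : T' ⟶ T) : f ≫ sm a g x = sm a (f ≫ g) (f ≫ x) := by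
  rw [sm, sm, ← Category.assoc, comp_lift]

theorem act_eq_sm : a.act = sm a (fst G X) (snd G X) := by
  rw [sm, lift_fst_snd, Category.id_comp]

theorem sm_comp {Y : Over S} (aY : AlgGrp.Action G Y) {f : X ⟶ Y} (hf : a.act ≫ f = (G ◁ f) ≫ aY.act) :
    sm a g x ≫ f = sm aY g (x ≫ f) := by
  rw [sm, sm, Category.assoc, hf, ← Category.assoc, lift_whiskerLeft]

/-- The torsor property over the terminal base. -/
def IsTors (aP : AlgGrp.Action G P) : Prop := IsIso (lift aP.act (snd G P))

theorem isTors_of_cart {B : Over S} {aP : AlgGrp.Action G P} {π : P ⟶ B} (cart : IsPullback aP.act (snd G P) π π)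
    (hB : ∀ (Z : Over S) (f f' : Z ⟶ B), f = f') : IsTors aP := by
  let j := cart.lift (fst P P) (snd P P) (hB _ _ _)
  refine ⟨j, ?_, ?_⟩
  · refine cart.hom_ext ?_ ?_ <;> simp [j]
  · apply CartesianMonoidalCategory.hom_ext <;> simp [j]

variable {aP : AlgGrp.Action G P}

theorem IsTors.cart (hP : IsTors aP) {B : Over S} (π : P ⟶ B) (hB : ∀ (Z : Over S) (f f' : Z ⟶ B), f = f') :
    IsPullback aP.act (snd G P) π π := by
  haveI : IsIso (lift aP.act (snd G P)) := hP
  refine IsPullback.of_iso_pullback ⟨hB _ _ _⟩ ?_ ?_ ?_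
  · exact asIso (lift aP.act (snd G P)) ≪≫
      { hom := pullback.lift (fst P P) (snd P P) (hB _ _ _)
        inv := lift (pullback.fst π π) (pullback.snd π π)
        hom_inv_id := by apply CartesianMonoidalCategory.hom_ext <;> simp
        inv_hom_id := by apply pullback.hom_ext <;> simp }
  · simp
  · simp

/-- The element of the group carrying one point of a torsor to another. -/
def tdiv (hP : IsTors aP) (p q : T ⟶ P) : T ⟶ G :=
  haveI : IsIso (lift aP.act (snd G P)) := hP
  lift q p ≫ inv (lift aP.act (snd G P)) ≫ fst G P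

theorem sm_tdiv (hP : IsTors aP) (p q : T ⟶ P) : sm aP (tdiv hP p q) p = q := by
  haveI : IsIso (lift aP.act (snd G P)) := hP
  have e : lift q p ≫ inv (lift aP.act (snd G P)) ≫ snd G P = p := by
    rw [show inv (lift aP.act (snd G P)) ≫ snd G P = snd P P from by simp, lift_snd]
  calc sm aP (tdiv hP p q) p
      = (lift q p ≫ inv (lift aP.act (snd G P))) ≫ aP.act := by
        rw [sm]
        refine congrArg (· ≫ aP.act) ?_
        apply CartesianMonoidalCategory.hom_ext
        · rw [lift_fst, Category.assoc]; rfl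
        · rw [lift_snd, Category.assoc, e]
    _ = q := by
        rw [Category.assoc, show inv (lift aP.act (snd G P)) ≫ aP.act = fst P P from by simp, lift_fst]

theorem IsTors.inj (hP : IsTors aP) {g h : T ⟶ G} {p : T ⟶ P} (e : sm aP g p = sm aP h p) : g = h := by
  haveI : IsIso (lift aP.act (snd G P)) := hP
  have h1 : lift g p = lift h p := by
    rw [← cancel_mono (lift aP.act (snd G P))]
    apply CartesianMonoidalCategory.hom_ext
    · simpa [sm] using e
    · simp
  simpa using congrArg (· ≫ fst G P) h1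

theorem eq_tdiv (hP : IsTors aP) {g : T ⟶ G} {p q : T ⟶ P} (e : sm aP g p = q) : g = tdiv hP p q :=
  hP.inj (e.trans (sm_tdiv hP p q).symm)

theorem comp_tdiv (hP : IsTors aP) (p q : T ⟶ P) (f : T' ⟶ T) :
    f ≫ tdiv hP p q = tdiv hP (f ≫ p) (f ≫ q) :=
  eq_tdiv hP (by rw [← comp_sm, sm_tdiv])

end Groth.L24.Count
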