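import Groth.Prelude.Def_GalTw
import Groth.Agent.L24.Count.Tors
import Groth.Agent.L14.Stack.FrobCocycle
import Groth.Agent.L11.GalTwist.Split
import Mathlib.AlgebraicGeometry.Sites.Fpqc
import Mathlib.AlgebraicGeometry.Morphisms.FlatMono
import Mathlib.AlgebraicGeometry.Morphisms.LocalFlatDescent
import Mathlib.AlgebraicGeometry.ResidueField
import Mathlib.FieldTheory.Galois.Infinite

/-! Points with values in intermediate fields of an algebraic closure of a finite field. -/

set_option autoImplicit false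
set_option linter.style.haveILetI false
set_option backward.isDefEq.respectTransparency false
set_option backward.isDefEq.respectTransparency.types false

universe u

open CategoryTheory MonoidalCategory CartesianMonoidalCategory MonObj AlgebraicGeometry Limits

noncomputable section

namespace Groth.L24.Count

variable {k : Type u} [Field k] {kb : Type u} [Field kb] [Algebra k kb] {Y Z : Over (Spec (CommRingCat.of k))}

/-- A covering good for descent. -/
def Good (f : Y ⟶ Z) : Prop := Flat f.left ∧ Surjective f.left ∧ QuasiCompact f.left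

theorem Good.cancel {W : Over (Spec (CommRingCat.of k))} {f : Y ⟶ Z} (hf : Good f) {a b : Z ⟶ W}
    (h : f ≫ a = f ≫ b) : a = b := by
  haveI := hf.1; haveI := hf.2.1; haveI := hf.2.2
  exact Over.OverMorphism.ext ((cancel_epi f.left).1 (congrArg (fun m => m.left) h))

theorem Good.desc {W : Over (Spec (CommRingCat.of k))} {f : Y ⟶ Z} (hf : Good f) (F : Y ⟶ W)
    (h : ∀ (T : Over (Spec (CommRingCat.of k))) (a₁ a₂ : T ⟶ Y), a₁ ≫ f = a₂ ≫ f → a₁ ≫ F = a₂ ≫ F) :
    ∃ g : Z ⟶ W, f ≫ g = F := by
  haveI := hf.1; haveI := hf.2.1; haveI := hf.2.2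
  haveI : EffectiveEpi f.left := inferInstance
  exact (Groth.L25.Actions.existsUnique_desc f F h).exists

theorem Good.of_isPullback {P W : Over (Spec (CommRingCat.of k))} {p₁ : P ⟶ Y} {p₂ : P ⟶ Z} {f : Y ⟶ W}
    {g : Z ⟶ W} (h : IsPullback p₁ p₂ f g) (hg : Good g) : Good p₁ := by
  have h' := (h.map (Over.forget _)).flip
  exact ⟨MorphismProperty.of_isPullback (P := @Flat) h' hg.1,
    MorphismProperty.of_isPullback (P := @Surjective) h' hg.2.1,
    MorphismProperty.of_isPullback (P := @QuasiCompact) h' hg.2.2⟩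

theorem flat_spec {A B : Type u} [Field A] [CommRing B] (f : A →+* B) : Flat (Spec.map (CommRingCat.ofHom f)) := by
  algebraize [f]
  rw [Flat.SpecMap_iff]
  exact (RingHom.flat_algebraMap_iff (R := A) (S := B)).2 inferInstance

theorem quasiCompact_spec {A B : Type u} [CommRing A] [CommRing B] (f : A →+* B) :
    QuasiCompact (Spec.map (CommRingCat.ofHom f)) :=
  haveI : IsAffineHom (Spec.map (CommRingCat.ofHom f)) := isAffineHom_of_isAffine _
  inferInstance

theorem good_spec {A B : Type u} [Field A] [Algebra k A] [Field B] [Algebra k B] (f : SGA7.pt (K := k) B ⟶ SGA7.pt A)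
    {φ : A →+* B} (hφ : f.left = Spec.map (CommRingCat.ofHom φ)) : Good f := by
  refine ⟨hφ ▸ flat_spec φ, hφ ▸ ⟨fun x => ⟨Classical.arbitrary (PrimeSpectrum B), Subsingleton.elim (α := PrimeSpectrum A) _ _⟩⟩, hφ ▸ quasiCompact_spec φ⟩

theorem good_toUnit (L : Type u) [Field L] [Algebra k L] : Good (toUnit (SGA7.pt (K := k) L)) := by
  have h : (toUnit (SGA7.pt (K := k) L)).left = Spec.map (CommRingCat.ofHom (algebraMap k L)) :=
    (Category.comp_id _).symm.trans (Over.w (toUnit (SGA7.pt (K := k) L)))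
  refine ⟨h ▸ flat_spec _, h ▸ ⟨fun x => ⟨Classical.arbitrary (PrimeSpectrum L), Subsingleton.elim (α := PrimeSpectrum k) _ _⟩⟩, h ▸ quasiCompact_spec _⟩

/-- The inclusion of an intermediate field, on spectra. -/
def inc (E : IntermediateField k kb) : SGA7.pt (K := k) kb ⟶ SGA7.pt E :=
  Over.homMk (Spec.map (CommRingCat.ofHom (algebraMap E kb))) (by
    show Spec.map _ ≫ Spec.map _ = Spec.map _
    rw [← Spec.map_comp, ← CommRingCat.ofHom_comp]
    rfl)

/-- The inclusion of two intermediate fields, on spectra. -/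
def incLE {E E' : IntermediateField k kb} (h : E ≤ E') : SGA7.pt (K := k) E' ⟶ SGA7.pt E :=
  Over.homMk (Spec.map (CommRingCat.ofHom (IntermediateField.inclusion h : E →+* E'))) (by
    show Spec.map _ ≫ Spec.map _ = Spec.map _
    rw [← Spec.map_comp, ← CommRingCat.ofHom_comp]
    rfl)

theorem inc_incLE {E E' : IntermediateField k kb} (h : E ≤ E') : inc E' ≫ incLE h = inc E := by
  apply Over.OverMorphism.ext
  show Spec.map _ ≫ Spec.map _ = Spec.map _
  rw [← Spec.map_comp, ← CommRingCat.ofHom_comp]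
  rfl

theorem inc_cancel (E : IntermediateField k kb) {a b : SGA7.Pts (K := k) E Y} (h : inc E ≫ a = inc E ≫ b) : a = b :=
  (good_spec (inc E) rfl).cancel h

/-- A point is defined over an intermediate field. -/
def DefOver (E : IntermediateField k kb) (p : SGA7.Pts kb Y) : Prop := ∃ q : SGA7.Pts E Y, inc E ≫ q = p

theorem DefOver.mono {E E' : IntermediateField k kb} (h : E ≤ E') {p : SGA7.Pts kb Y} (hp : DefOver E p) :
    DefOver E' p := by
  obtain ⟨q, rfl⟩ := hp
  exact ⟨incLE h ≫ q, by rw [← Category.assoc, inc_incLE]⟩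

theorem DefOver.comp {E : IntermediateField k kb} {p : SGA7.Pts kb Y} (hp : DefOver E p) (f : Y ⟶ Z) :
    DefOver E (p ≫ f) := by
  obtain ⟨q, rfl⟩ := hp
  exact ⟨q ≫ f, (Category.assoc _ _ _).symm⟩

/-- A point is of finite level. -/
def IsFin (p : SGA7.Pts kb Y) : Prop := ∃ E : IntermediateField k kb, FiniteDimensional k E ∧ DefOver E p

theorem IsFin.comp {p : SGA7.Pts kb Y} (hp : IsFin p) (f : Y ⟶ Z) : IsFin (p ≫ f) :=
  hp.imp fun _ h => ⟨h.1, h.2.comp f⟩

theorem specAut_inc (E : IntermediateField k kb) [Normal k E] (σ : kb ≃ₐ[k] kb) :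
    SGA7.specAut σ ≫ inc E = inc E ≫ SGA7.specAut (σ.restrictNormal E) := by
  apply Over.OverMorphism.ext
  show Spec.map _ ≫ Spec.map _ = Spec.map _ ≫ Spec.map _
  rw [← Spec.map_comp, ← Spec.map_comp, ← CommRingCat.ofHom_comp, ← CommRingCat.ofHom_comp]
  exact congrArg (fun t => Spec.map (CommRingCat.ofHom t))
    (RingHom.ext fun x => (σ.restrictNormal_commutes E x).symm)

theorem smul_defOver (E : IntermediateField k kb) [Normal k E] (σ : kb ≃ₐ[k] kb) (q : SGA7.Pts E Y) :
    σ • (inc E ≫ q : SGA7.Pts kb Y) = inc E ≫ (σ.restrictNormal E • q) := by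
  show SGA7.specAut σ ≫ inc E ≫ q = inc E ≫ SGA7.specAut _ ≫ q
  rw [← Category.assoc, specAut_inc, Category.assoc]

theorem DefOver.smul_eq {E : IntermediateField k kb} {p : SGA7.Pts kb Y} (hp : DefOver E p) {σ τ : kb ≃ₐ[k] kb}
    (h : ∀ x ∈ E, σ x = τ x) : σ • p = τ • p := by
  obtain ⟨q, rfl⟩ := hp
  show SGA7.specAut σ ≫ inc E ≫ q = SGA7.specAut τ ≫ inc E ≫ q
  rw [← Category.assoc, ← Category.assoc]
  refine congrArg (· ≫ q) (Over.OverMorphism.ext ?_)
  show Spec.map _ ≫ Spec.map _ = Spec.map _ ≫ Spec.map _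
  rw [← Spec.map_comp, ← Spec.map_comp, ← CommRingCat.ofHom_comp, ← CommRingCat.ofHom_comp]
  exact congrArg (fun t => Spec.map (CommRingCat.ofHom t)) (RingHom.ext fun x => h x.1 x.2)

/-- A point fixed by the generator of the Galois group of a finite level is defined there. -/
theorem defOver_of_fixed (E : IntermediateField k kb) (σ : kb ≃ₐ[k] kb)
    (hσ : ∀ x, σ x = x → x ∈ E) (p : SGA7.Pts kb Y) (hp : σ • p = p) : DefOver E p := by
  let φ : CommRingCat.of kb ⟶ CommRingCat.of kb := CommRingCat.ofHom (σ : kb →+* kb)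
  let p' : Spec (CommRingCat.of kb) ⟶ Y.left := p.left
  let x := p' (IsLocalRing.closedPoint kb)
  let i : Y.left.residueField x ⟶ CommRingCat.of kb := Scheme.descResidueField (Scheme.stalkClosedPointTo p')
  have hi : Spec.map i ≫ Y.left.fromSpecResidueField x = p' :=
    Scheme.descResidueField_stalkClosedPointTo_fromSpecResidueField kb Y.left p'
  have hp' : Spec.map φ ≫ p' = p' := congrArg (fun T => CommaMorphism.left T) hp
  have hiφ : i ≫ φ = i := Spec.map_injective (by
    rw [← cancel_mono (Y.left.fromSpecResidueField x), Spec.map_comp, Category.assoc, hi, hp'])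
  have hmem : ∀ y, i.hom y ∈ E := fun y => by
    have h1 : σ (i.hom y) = i.hom y := congrArg (fun T : Y.left.residueField x ⟶ CommRingCat.of kb => T.hom y) hiφ
    exact hσ _ h1
  let j : Y.left.residueField x ⟶ CommRingCat.of E := CommRingCat.ofHom (i.hom.codRestrict E.toSubring hmem)
  let q : Spec (CommRingCat.of E) ⟶ Y.left := Spec.map j ≫ Y.left.fromSpecResidueField x
  have hq : (inc E).left ≫ q = p' := by
    show Spec.map _ ≫ Spec.map j ≫ _ = _
    rw [← Category.assoc, ← Spec.map_comp, ← hi]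
    rfl
  refine ⟨Over.homMk q ?_, Over.OverMorphism.ext hq⟩
  haveI := (good_spec (inc E) rfl).1; haveI := (good_spec (inc E) rfl).2.1; haveI := (good_spec (inc E) rfl).2.2
  rw [← cancel_epi (inc E).left, ← Category.assoc, hq]
  exact (Over.w p).trans (Over.w (inc E)).symm

/-- Points of a scheme locally of finite type over the algebraic closure are of finite level. -/
theorem isFin [Algebra.IsAlgebraic k kb] [LocallyOfFiniteType Y.hom] (p : SGA7.Pts kb Y) : IsFin p := by
  let p' : Spec (CommRingCat.of kb) ⟶ Y.left := p.left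
  obtain ⟨W, hW, hxW, -⟩ := exists_isAffineOpen_mem_and_subset (x := p' (IsLocalRing.closedPoint kb))
    (U := (⊤ : Y.left.Opens)) trivial
  have hr : Set.range p' ⊆ Set.range hW.fromSpec := by
    rw [hW.range_fromSpec]
    rintro _ ⟨z, rfl⟩
    rw [show z = IsLocalRing.closedPoint kb from Subsingleton.elim (α := PrimeSpectrum kb) _ _]
    exact hxW
  let l := IsOpenImmersion.lift hW.fromSpec p' hr
  let f : Γ(Y.left, W) →+* kb := (Spec.preimage l).hom
  have hf : Spec.map (CommRingCat.ofHom f) ≫ hW.fromSpec = p' := by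
    rw [show Spec.map (CommRingCat.ofHom f) = l from Spec.map_preimage l, IsOpenImmersion.lift_fac]
  let b : k →+* Γ(Y.left, W) := (Spec.preimage (hW.fromSpec ≫ Y.hom)).hom
  have hb : Spec.map (CommRingCat.ofHom b) = hW.fromSpec ≫ Y.hom := Spec.map_preimage _
  letI := b.toAlgebra
  haveI : LocallyOfFiniteType (Spec.map (CommRingCat.ofHom b)) := by rw [hb]; infer_instance
  haveI : Algebra.FiniteType k Γ(Y.left, W) := RingHom.finiteType_algebraMap.1
    ((HasRingHomProperty.Spec_iff (P := @LocallyOfFiniteType) (φ := CommRingCat.ofHom b)).1 inferInstance)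
  have hfb : f.comp b = algebraMap k kb := by
    have h1 : CommRingCat.ofHom b ≫ CommRingCat.ofHom f = CommRingCat.ofHom (algebraMap k kb) :=
      Spec.map_injective (by rw [Spec.map_comp, hb, ← Category.assoc, hf]; exact Over.w p)
    exact congrArg CommRingCat.Hom.hom h1
  let fa : Γ(Y.left, W) →ₐ[k] kb := { f with commutes' := fun r => RingHom.congr_fun hfb r }
  obtain ⟨s, hs⟩ := (‹Algebra.FiniteType k Γ(Y.left, W)›).out
  let E : IntermediateField k kb := IntermediateField.adjoin k (fa '' s)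
  haveI : FiniteDimensional k E :=
    IntermediateField.finiteDimensional_adjoin (S := fa '' s) fun _ _ => Algebra.IsIntegral.isIntegral _
  have hle : fa.range ≤ E.toSubalgebra := by
    rw [← Algebra.map_top, ← hs, AlgHom.map_adjoin]
    exact Algebra.adjoin_le (IntermediateField.subset_adjoin k _)
  let j : Γ(Y.left, W) →+* E := f.codRestrict E.toSubring fun y => hle ⟨y, rfl⟩
  refine ⟨E, inferInstance, Over.homMk (Spec.map (CommRingCat.ofHom j) ≫ hW.fromSpec) ?_, Over.OverMorphism.ext ?_⟩
  · show (Spec.map _ ≫ _) ≫ Y.hom = Spec.map _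
    rw [Category.assoc, ← hb, ← Spec.map_comp, ← CommRingCat.ofHom_comp]
    exact congrArg (fun t => Spec.map (CommRingCat.ofHom t))
      (RingHom.ext fun r => Subtype.ext (RingHom.congr_fun hfb r))
  · show Spec.map _ ≫ Spec.map _ ≫ _ = p'
    rw [← Category.assoc, ← Spec.map_comp, ← hf]
    rfl

theorem eq_of_galois {E : Type u} [Field E] [Algebra k E] [FiniteDimensional k E] [IsGalois k E]
    {h₁ h₂ : SGA7.pt (K := k) E ⊗ SGA7.pt E ⟶ Y}
    (h : ∀ σ : E ≃ₐ[k] E, lift (𝟙 _) (SGA7.specAut σ) ≫ h₁ = lift (𝟙 _) (SGA7.specAut σ) ≫ h₂) : h₁ = h₂ := by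
  haveI := L27.Quot.isIso_torsor (Groth.L11.GalTwist.isQuot_ptHom (k := k) E) (Groth.L11.GalTwist.free_specAction E)
  apply Over.OverMorphism.ext
  refine (cancel_epi (Sigma.desc fun g : E ≃ₐ[k] E => pullback.lift (𝟙 _) (Groth.L11.GalTwist.specAction E g).hom
      ((Category.id_comp _).trans ((Groth.L11.GalTwist.isQuot_ptHom (k := k) E).inv g).symm))).1 ?_
  refine Sigma.hom_ext _ _ fun g => ?_
  rw [Sigma.ι_desc_assoc, Sigma.ι_desc_assoc]
  have e : (lift (𝟙 (SGA7.pt (K := k) E)) (SGA7.specAut g⁻¹)).left =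
      pullback.lift (𝟙 _) (Groth.L11.GalTwist.specAction E g).hom
        ((Category.id_comp _).trans ((Groth.L11.GalTwist.isQuot_ptHom (k := k) E).inv g).symm) := by
    apply pullback.hom_ext
    · rw [pullback.lift_fst]
      exact congrArg (fun t => t.left) (lift_fst (𝟙 (SGA7.pt (K := k) E)) (SGA7.specAut g⁻¹))
    · rw [pullback.lift_snd, Groth.L11.GalTwist.specAction_hom]
      exact congrArg (fun t => t.left) (lift_snd (𝟙 (SGA7.pt (K := k) E)) (SGA7.specAut g⁻¹))
  rw [← e]
  exact congrArg (fun t => t.left) (h g⁻¹)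

end Groth.L24.Count
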