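import Groth.Agent.L11.GalTwist.Morph
import Mathlib.CategoryTheory.Monoidal.Cartesian.Mon

/-! Constant morphisms of base changes attached to points. -/

set_option autoImplicit false
set_option linter.style.haveILetI false
set_option linter.unusedSectionVars false
set_option backward.isDefEq.respectTransparency false
set_option backward.isDefEq.respectTransparency.types false

universe u

open CategoryTheory CategoryTheory.Limits MonoidalCategory CartesianMonoidalCategory MonObj AlgebraicGeometry
open GalTw Groth.L11.GalTwist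

noncomputable section

namespace Groth.L24.Count

variable {k : Type u} [Field k] {K : Type u} [Field K] [Algebra k K]
  {G A T T' : Over (Spec (CommRingCat.of k))} [GrpObj G]

theorem bcMap_mul (g h : T ⟶ G) : bcMap (K := K) (g * h) = bcMap g * bcMap h :=
  (Over.pullback (ptHom (k := k) K)).homMonoidHom.map_mul g h

theorem bcMap_one : bcMap (K := K) (1 : T ⟶ G) = 1 :=
  (Over.pullback (ptHom (k := k) K)).homMonoidHom.map_one

theorem bcMap_inv (g : T ⟶ G) : bcMap (K := K) g⁻¹ = (bcMap g)⁻¹ :=
  map_inv (Over.pullback (ptHom (k := k) K)).homMonoidHom g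

theorem bcMap_comp (f : T' ⟶ T) (g : T ⟶ A) : bcMap (K := K) (f ≫ g) = bcMap f ≫ bcMap g :=
  (Over.pullback (ptHom (k := k) K)).map_comp f g

variable (k K) in
/-- The diagonal section of the base change of the point. -/
def diag : 𝟙_ (Over (Spec (CommRingCat.of K))) ⟶ bcK K (SGA7.pt (K := k) K) :=
  secOfPt K (𝟙 (SGA7.pt (K := k) K))

theorem diag_bcMap (q : SGA7.Pts K A) : diag k K ≫ bcMap q = secOfPt K q := by
  apply Over.OverMorphism.ext
  apply pullback.hom_ext
  · rw [Over.comp_left, Category.assoc, bcMap_left_fst, ← Category.assoc, secOfPt_left, pullback.lift_fst]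
    exact (congrArg (· ≫ q.left) (pullback.lift_fst _ _ _)).trans (Category.id_comp _)
  · exact (Over.w (diag k K ≫ bcMap q)).trans (Over.w (secOfPt K q)).symm

theorem secOfPt_mul (g h : SGA7.Pts K G) : secOfPt K (g * h) = secOfPt K g * secOfPt K h := by
  rw [← diag_bcMap, bcMap_mul, MonObj.comp_mul, diag_bcMap, diag_bcMap]

theorem secOfPt_comp (q : SGA7.Pts K T) (f : T ⟶ A) : secOfPt K (q ≫ f) = secOfPt K q ≫ bcMap f := by
  rw [← diag_bcMap, bcMap_comp, ← Category.assoc, diag_bcMap]

theorem secOfPt_injective {q q' : SGA7.Pts K A} (h : secOfPt K q = secOfPt K q') : q = q' := by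
  have := congrArg (fun s => s.left ≫ pullback.fst A.hom (SGA7.pt (K := k) K).hom) h
  simp only [secOfPt_left, pullback.lift_fst] at this
  exact Over.OverMorphism.ext this

theorem exists_secOfPt_eq (s : 𝟙_ (Over (Spec (CommRingCat.of K))) ⟶ bcK K A) :
    ∃ q : SGA7.Pts K A, secOfPt K q = s := by
  refine ⟨Over.homMk (s.left ≫ pullback.fst A.hom (ptHom (k := k) K)) ?_, ?_⟩
  · rw [Category.assoc, pullback.condition, ← Category.assoc]
    exact (congrArg (· ≫ ptHom (k := k) K) (Over.w s)).trans (Category.id_comp _)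
  · apply Over.OverMorphism.ext
    apply pullback.hom_ext
    · exact pullback.lift_fst _ _ _
    · exact (Over.w _).trans (Over.w s).symm

/-- The constant morphism at a point. -/
def cst (T : Over (Spec (CommRingCat.of k))) (q : SGA7.Pts K A) : bcK K T ⟶ bcK K A :=
  toUnit _ ≫ secOfPt K q

theorem cst_mul (g h : SGA7.Pts K G) : cst T (g * h) = cst T g * cst T h := by
  rw [cst, secOfPt_mul, MonObj.comp_mul]; rfl

theorem cst_one : cst T (1 : SGA7.Pts K G) = (1 : bcK K T ⟶ bcK K G) := by
  have := cst_mul (T := T) (1 : SGA7.Pts K G) 1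
  rw [_root_.one_mul] at this
  exact mul_eq_left.1 this.symm

theorem cst_inv (g : SGA7.Pts K G) : cst T g⁻¹ = (cst T g)⁻¹ := by
  refine eq_inv_of_mul_eq_one_left ?_
  rw [← cst_mul, inv_mul_cancel, cst_one]

theorem comp_cst {T₁ : Over (Spec (CommRingCat.of k))} (f : bcK K T₁ ⟶ bcK K T) (q : SGA7.Pts K A) :
    f ≫ cst T q = cst T₁ q := by
  rw [cst, cst, ← Category.assoc, toUnit_unique (f ≫ toUnit _) (toUnit _)]

theorem twHom_cst (σ : K ≃ₐ[k] K) (q : SGA7.Pts K A) : twHom σ (cst T q) = cst T (σ • q) := by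
  apply Over.OverMorphism.ext
  have ht : (toUnit (bcK K T)).left = pullback.snd T.hom (SGA7.pt (K := k) K).hom :=
    (Category.comp_id _).symm.trans (Over.w (toUnit (bcK K T)))
  apply pullback.hom_ext
  · simp only [twHom_left, cst, Over.comp_left, Category.assoc, galMap_fst, secOfPt_left, pullback.lift_fst, ht,
      galMap_snd_assoc]
    rfl
  · simp only [twHom_left, cst, Over.comp_left, Category.assoc, galMap_snd, secOfPt_left, pullback.lift_snd, ht,
      galMap_snd_assoc, pullback.lift_snd_assoc]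
    show _ ≫ specMap K σ ≫ 𝟙 (Spec (CommRingCat.of K)) ≫ specMap K σ⁻¹ = _
    rw [Category.id_comp, ← specMap_mul, mul_inv_cancel, specMap_one]
    rfl

theorem cst_injective {q q' : SGA7.Pts K A} (h : cst (𝟙_ (Over (Spec (CommRingCat.of k)))) q = cst _ q') :
    q = q' := by
  apply secOfPt_injective
  have := congrArg (secOfPt K (toUnit (SGA7.pt (K := k) K)) ≫ ·) h
  simp only [cst, ← Category.assoc] at this
  rwa [toUnit_unique (secOfPt K (toUnit (SGA7.pt (K := k) K)) ≫ toUnit _) (𝟙 _), Category.id_comp,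
    Category.id_comp] at this

theorem twHom_hom_inv (σ : K ≃ₐ[k] K) (v : bcK K T ⟶ bcK K G) : twHom σ v⁻¹ = (twHom σ v)⁻¹ :=
  map_inv (MonoidHom.mk' (fun w : bcK K T ⟶ bcK K G => twHom σ w) (fun a b => twHom_mul_hom G σ a b)) v

end Groth.L24.Count
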