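import Groth.Agent.L24.Count.Const

/-! Morphisms of base changes as morphisms from a product with the point, and change of the level. -/

set_option autoImplicit false
set_option linter.style.haveILetI false
set_option linter.unusedSectionVars false
set_option backward.isDefEq.respectTransparency false
set_option backward.isDefEq.respectTransparency.types false

universe u

open CategoryTheory CategoryTheory.Limits MonoidalCategory CartesianMonoidalCategory MonObj AlgebraicGeometry
open GalTw Groth.L11.GalTwist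

noncomputable section

namespace Groth.L24.Count

variable {k : Type u} [Field k] {K : Type u} [Field K] [Algebra k K] {K' : Type u} [Field K'] [Algebra k K']
  {T A B : Over (Spec (CommRingCat.of k))}

/-- The morphism from the product with the point attached to a morphism of base changes. -/
def fl (f : bcK K T ⟶ bcK K A) : T ⊗ SGA7.pt (K := k) K ⟶ A :=
  Over.homMk (f.left ≫ pullback.fst A.hom (SGA7.pt (K := k) K).hom) (by
    show (f.left ≫ pullback.fst A.hom (SGA7.pt (K := k) K).hom) ≫ A.hom =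
      pullback.fst T.hom (SGA7.pt (K := k) K).hom ≫ T.hom
    rw [Category.assoc, pullback.condition, pullback.condition, ← Category.assoc]
    exact congrArg (· ≫ (SGA7.pt (K := k) K).hom) (Over.w f))

theorem fl_left (f : bcK K T ⟶ bcK K A) :
    (fl f).left = f.left ≫ pullback.fst A.hom (SGA7.pt (K := k) K).hom := rfl

/-- The converse. -/
def ufl (h : T ⊗ SGA7.pt (K := k) K ⟶ A) : bcK K T ⟶ bcK K A :=
  Over.homMk (pullback.lift h.left (pullback.snd T.hom (SGA7.pt (K := k) K).hom)
    ((Over.w h).trans pullback.condition)) (pullback.lift_snd _ _ _)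

theorem fl_ufl (h : T ⊗ SGA7.pt (K := k) K ⟶ A) : fl (ufl h) = h :=
  Over.OverMorphism.ext (pullback.lift_fst _ _ _)

theorem fl_injective {f g : bcK K T ⟶ bcK K A} (h : fl f = fl g) : f = g :=
  Over.OverMorphism.ext (pullback.hom_ext (congrArg (fun q => q.left) h) ((Over.w f).trans (Over.w g).symm))

theorem fl_comp (f : bcK K T ⟶ bcK K A) (g : bcK K A ⟶ bcK K B) :
    fl (f ≫ g) = lift (fl f) (snd T (SGA7.pt (K := k) K)) ≫ fl g := by
  apply Over.OverMorphism.ext
  have e : (lift (fl f) (snd T (SGA7.pt (K := k) K))).left = f.left := by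
    apply pullback.hom_ext
    · exact congrArg (fun q => q.left) (lift_fst (fl f) (snd T (SGA7.pt (K := k) K)))
    · exact (congrArg (fun q => q.left) (lift_snd (fl f) (snd T (SGA7.pt (K := k) K)))).trans (Over.w f).symm
  rw [Over.comp_left, e, fl_left, fl_left, Over.comp_left, Category.assoc]

theorem fl_id : fl (𝟙 (bcK K T)) = fst T (SGA7.pt (K := k) K) := Over.OverMorphism.ext (Category.id_comp _)

theorem fl_bcMap (h : T ⟶ A) : fl (bcMap (K := K) h) = fst T (SGA7.pt (K := k) K) ≫ h :=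
  Over.OverMorphism.ext (bcMap_left_fst h)

theorem fl_comp_bcMap (f : bcK K T ⟶ bcK K A) (h : A ⟶ B) : fl (f ≫ bcMap h) = fl f ≫ h := by
  rw [fl_comp, fl_bcMap, lift_fst_assoc]

theorem fl_cst (q : SGA7.Pts K A) : fl (cst T q) = snd T (SGA7.pt (K := k) K) ≫ q := by
  apply Over.OverMorphism.ext
  have ht : (toUnit (bcK K T)).left = pullback.snd T.hom (SGA7.pt (K := k) K).hom :=
    (Category.comp_id _).symm.trans (Over.w (toUnit (bcK K T)))
  rw [fl_left, cst, Over.comp_left, Category.assoc, secOfPt_left, pullback.lift_fst, ht]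
  rfl

theorem fl_twHom (σ : K ≃ₐ[k] K) (f : bcK K T ⟶ bcK K A) :
    fl (twHom σ f) = (T ◁ SGA7.specAut σ) ≫ fl f := by
  apply Over.OverMorphism.ext
  have e : (T ◁ SGA7.specAut σ).left = galMap K σ T := by
    apply pullback.hom_ext
    · rw [galMap_fst]
      exact congrArg (fun q => q.left) (whiskerLeft_fst T (SGA7.specAut σ))
    · rw [galMap_snd]
      exact congrArg (fun q => q.left) (whiskerLeft_snd T (SGA7.specAut σ))
  rw [Over.comp_left, e, fl_left, fl_left, twHom_left, Category.assoc, Category.assoc, galMap_fst]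

section Grp

variable [GrpObj A]

theorem fl_mul (f g : bcK K T ⟶ bcK K A) : fl (f * g) = fl f * fl g := by
  let F := Over.pullback (SGA7.pt (K := k) K).hom
  let w : bcK K T ⟶ bcK K (A ⊗ A) := lift f g ≫ Functor.LaxMonoidal.μ F A A
  have hw : f * g = w ≫ bcMap μ := by rw [Hom.mul_def]; exact (Category.assoc _ _ _).symm
  have h1 : w ≫ bcMap (fst A A) = f := by
    simp only [w, Category.assoc]
    erw [Functor.Monoidal.μ_fst, lift_fst]
  have h2 : w ≫ bcMap (snd A A) = g := by
    simp only [w, Category.assoc]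
    erw [Functor.Monoidal.μ_snd, lift_snd]
  have e : fl w = lift (fl f) (fl g) := by
    apply CartesianMonoidalCategory.hom_ext
    · rw [lift_fst, ← fl_comp_bcMap, h1]
    · rw [lift_snd, ← fl_comp_bcMap, h2]
  rw [hw, fl_comp_bcMap, e, ← Hom.mul_def]

theorem fl_one : fl (1 : bcK K T ⟶ bcK K A) = 1 := by
  have h := fl_mul (1 : bcK K T ⟶ bcK K A) 1
  rw [_root_.one_mul] at h
  exact mul_eq_left.1 h.symm

theorem fl_inv (f : bcK K T ⟶ bcK K A) : fl f⁻¹ = (fl f)⁻¹ := by
  refine eq_inv_of_mul_eq_one_left ?_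
  rw [← fl_mul, inv_mul_cancel, fl_one]

end Grp

/-- The point of the target attached to a point of the source. -/
def ev (f : bcK K T ⟶ bcK K A) (y : SGA7.Pts K T) : SGA7.Pts K A := lift y (𝟙 _) ≫ fl f

theorem secOfPt_comp_hom (f : bcK K T ⟶ bcK K A) (y : SGA7.Pts K T) :
    secOfPt K y ≫ f = secOfPt K (ev f y) := by
  apply Over.OverMorphism.ext
  apply pullback.hom_ext
  · rw [Over.comp_left, Category.assoc, ← fl_left, secOfPt_left, secOfPt_left, pullback.lift_fst]
    have e : (lift y (𝟙 (SGA7.pt (K := k) K))).left = pullback.lift y.left (𝟙 _)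
        (by rw [Category.id_comp]; exact Over.w y) := by
      apply pullback.hom_ext
      · rw [pullback.lift_fst]
        exact congrArg (fun q => q.left) (lift_fst y (𝟙 (SGA7.pt (K := k) K)))
      · rw [pullback.lift_snd]
        exact congrArg (fun q => q.left) (lift_snd y (𝟙 (SGA7.pt (K := k) K)))
    rw [ev, Over.comp_left, e]
  · exact (Over.w (secOfPt K y ≫ f)).trans (Over.w (secOfPt K (ev f y))).symm

/-- Change of the level along a morphism of points. -/
def up (j : SGA7.pt (K := k) K' ⟶ SGA7.pt K) (f : bcK K T ⟶ bcK K A) : bcK K' T ⟶ bcK K' A :=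
  ufl ((T ◁ j) ≫ fl f)

variable (j : SGA7.pt (K := k) K' ⟶ SGA7.pt K)

theorem fl_up (f : bcK K T ⟶ bcK K A) : fl (up j f) = (T ◁ j) ≫ fl f := fl_ufl _

theorem up_id : up j (𝟙 (bcK K T)) = 𝟙 _ := by
  apply fl_injective
  rw [fl_up, fl_id, fl_id, whiskerLeft_fst]

theorem up_comp (f : bcK K T ⟶ bcK K A) (g : bcK K A ⟶ bcK K B) : up j (f ≫ g) = up j f ≫ up j g := by
  apply fl_injective
  rw [fl_up, fl_comp, fl_comp, fl_up, fl_up, ← Category.assoc, ← Category.assoc]
  congr 1
  apply CartesianMonoidalCategory.hom_ext <;> simp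

theorem ev_up (f : bcK K T ⟶ bcK K A) (y : SGA7.Pts K' T) : ev (up j f) y = lift y j ≫ fl f := by
  rw [ev, fl_up, ← Category.assoc]
  congr 1
  apply CartesianMonoidalCategory.hom_ext <;> simp

/-- The change of level of an isomorphism. -/
def upIso (φ : bcK K T ≅ bcK K A) : bcK K' T ≅ bcK K' A where
  hom := up j φ.hom
  inv := up j φ.inv
  hom_inv_id := by rw [← up_comp, φ.hom_inv_id, up_id]
  inv_hom_id := by rw [← up_comp, φ.inv_hom_id, up_id]

/-- A homomorphism of base changes of groups, on products with the point. -/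
theorem fl_mul_of_isMonHom [GrpObj T] [GrpObj A] (f : bcK K T ⟶ bcK K A) [IsMonHom f]
    {Z : Over (Spec (CommRingCat.of k))} (a b : Z ⟶ T) (c : Z ⟶ SGA7.pt (K := k) K) :
    lift (a * b) c ≫ fl f = (lift a c ≫ fl f) * (lift b c ≫ fl f) := by
  have h : bcMap μ[T] ≫ f = (bcMap (fst T T) ≫ f) * (bcMap (snd T T) ≫ f) := by
    have e : bcMap (K := K) μ[T] = bcMap (fst T T) * bcMap (snd T T) := by
      rw [← bcMap_mul, Hom.mul_def, lift_fst_snd, Category.id_comp]
    rw [e, MonObj.mul_comp]
  have h' := congrArg fl h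
  rw [fl_mul, fl_comp, fl_comp, fl_comp, fl_bcMap, fl_bcMap, fl_bcMap] at h'
  have h2 := congrArg (fun q => lift (lift a b) c ≫ q) h'
  simpa only [MonObj.comp_mul, comp_lift_assoc, lift_fst_assoc, lift_snd, lift_fst, lift_snd_assoc, Hom.mul_def]
    using h2

theorem isMonHom_up [GrpObj T] [GrpObj A] (f : bcK K T ⟶ bcK K A) [IsMonHom f] : IsMonHom (up j f) := by
  let F := Over.pullback (SGA7.pt (K := k) K').hom
  have h1 : μ[bcK K' T] = Functor.LaxMonoidal.μ F T T ≫ bcMap μ[T] := rfl
  have h2 : bcMap μ[T] ≫ up j f = (bcMap (fst T T) ≫ up j f) * (bcMap (snd T T) ≫ up j f) := by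
    apply fl_injective
    rw [fl_mul, fl_comp, fl_comp, fl_comp, fl_bcMap, fl_bcMap, fl_bcMap, fl_up, ← Category.assoc, ← Category.assoc,
      ← Category.assoc]
    have e : ∀ a : T ⊗ T ⟶ T, lift (fst (T ⊗ T) (SGA7.pt (K := k) K') ≫ a) (snd (T ⊗ T) (SGA7.pt (K := k) K')) ≫
        (T ◁ j) = lift (fst (T ⊗ T) _ ≫ a) (snd (T ⊗ T) _ ≫ j) := fun a => by
      apply CartesianMonoidalCategory.hom_ext <;> simp
    rw [e, e, e]
    have := fl_mul_of_isMonHom f (fst (T ⊗ T) (SGA7.pt (K := k) K') ≫ fst T T)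
      (fst (T ⊗ T) (SGA7.pt (K := k) K') ≫ snd T T) (snd (T ⊗ T) (SGA7.pt (K := k) K') ≫ j)
    refine Eq.trans ?_ this
    rw [← MonObj.comp_mul, show fst T T * snd T T = μ[T] by rw [Hom.mul_def, lift_fst_snd, Category.id_comp]]
  refine { one_hom := ?_, mul_hom := ?_ }
  · have h3 : fl (bcMap (K := K') η[T] ≫ up j f) = fl (bcMap (K := K') η[A]) := by
      rw [fl_comp, fl_bcMap, fl_bcMap, fl_up, ← Category.assoc]
      have e : lift (fst (𝟙_ _) (SGA7.pt (K := k) K') ≫ η[T]) (snd _ _) ≫ (T ◁ j) =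
          lift (1 : 𝟙_ _ ⊗ SGA7.pt (K := k) K' ⟶ T) (snd _ _ ≫ j) := by
        apply CartesianMonoidalCategory.hom_ext
        · simp [Hom.one_def, toUnit_unique (fst (𝟙_ (Over (Spec (CommRingCat.of k)))) (SGA7.pt (K := k) K')) (toUnit _)]
        · simp
      rw [e]
      have := fl_mul_of_isMonHom f (1 : 𝟙_ _ ⊗ SGA7.pt (K := k) K' ⟶ T) 1 (snd _ _ ≫ j)
      rw [_root_.one_mul] at this
      rw [mul_eq_left.1 this.symm, Hom.one_def, toUnit_unique (fst _ _) (toUnit _)]
    show (Functor.LaxMonoidal.ε F ≫ bcMap η[T]) ≫ up j f = Functor.LaxMonoidal.ε F ≫ bcMap η[A]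
    rw [Category.assoc, fl_injective h3]
  · rw [h1, Category.assoc, h2, MonObj.comp_mul, ← Category.assoc, ← Category.assoc]
    erw [Functor.Monoidal.μ_fst, Functor.Monoidal.μ_snd]
    rw [Hom.mul_def]
    congr 1

end Groth.L24.Count
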