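import Groth.Agent.L24.Count.Points
import Groth.Prelude.Def_AlgSt5
import Mathlib.FieldTheory.Finite.GaloisField

/-! Equivariant maps out of a torsor over a finite field. -/

set_option autoImplicit false
set_option linter.style.haveILetI false
set_option linter.unusedSectionVars false
set_option backward.isDefEq.respectTransparency false
set_option backward.isDefEq.respectTransparency.types false

universe u

open CategoryTheory MonoidalCategory CartesianMonoidalCategory MonObj AlgebraicGeometry Limits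

noncomputable section

namespace Groth.L24.Count

variable {k : Type u} [Field k] [Finite k] {kb : Type u} [Field kb] [Algebra k kb] [IsAlgClosure k kb]

variable (k kb) in
/-- The Frobenius of the algebraic closure. -/
def frob : kb ≃ₐ[k] kb :=
  haveI := Fintype.ofFinite k
  haveI : Algebra.IsAlgebraic k kb := IsAlgClosure.isAlgebraic
  FiniteField.frobeniusAlgEquivOfAlgebraic k kb

theorem frob_apply (x : kb) : frob k kb x = x ^ Nat.card k := by
  letI := Fintype.ofFinite k
  rw [Nat.card_eq_fintype_card]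
  rfl

theorem exists_frob_pow_smul {Y : Over (Spec (CommRingCat.of k))} (E : IntermediateField k kb) [FiniteDimensional k E]
    (σ : kb ≃ₐ[k] kb) : ∃ m : ℕ, (∀ x ∈ E, σ x = (frob k kb ^ m) x) ∧
      ∀ p : SGA7.Pts kb Y, DefOver E p → σ • p = (frob k kb ^ m) • p := by
  obtain ⟨m, hm⟩ := Groth.L14.Stack.exists_eq_pow_on (frob k kb) frob_apply E σ
  exact ⟨m, hm, fun p hp => hp.smul_eq hm⟩

variable {G P Y : Over (Spec (CommRingCat.of k))} [GrpObj G] {aP : AlgGrp.Action G P} {aY : AlgGrp.Action G Y}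

theorem smul_sm (σ : kb ≃ₐ[k] kb) (g : SGA7.Pts kb G) (y : SGA7.Pts kb Y) :
    σ • sm aY g y = sm aY (σ • g) (σ • y) := comp_sm aY g y (SGA7.specAut σ)

/-- The standard covering of a torsor by a point. -/
theorem good_orbit (hP : IsTors aP) {E : Type u} [Field E] [Algebra k E] (p : SGA7.Pts (K := k) E P) :
    Good (sm aP (fst G (SGA7.pt E)) (snd G (SGA7.pt E) ≫ p)) := by
  have cart := hP.cart (toUnit P) fun Z f f' => toUnit_unique f f'
  have h := (AlgSt.isPullback_whiskerLeft (G := G) p).paste_horiz cart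
  rw [toUnit_unique (p ≫ toUnit P) (toUnit _)] at h
  have h2 := Good.of_isPullback h (good_toUnit E)
  rwa [show (G ◁ p) ≫ aP.act = sm aP (fst G _) (snd G _ ≫ p) from by
    rw [sm]; congr 1] at h2

/-- Uniqueness of equivariant maps out of a torsor. -/
theorem equivariant_ext (hP : IsTors aP) {p : SGA7.Pts kb P} (hp : IsFin p) {f f' : P ⟶ Y}
    (hf : aP.act ≫ f = (G ◁ f) ≫ aY.act) (hf' : aP.act ≫ f' = (G ◁ f') ≫ aY.act) (h : p ≫ f = p ≫ f') : f = f' := by
  obtain ⟨E, -, q, rfl⟩ := hp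
  have h' : q ≫ f = q ≫ f' := inc_cancel E (by rw [← Category.assoc, h, Category.assoc])
  refine (good_orbit hP q).cancel ?_
  rw [sm_comp _ _ _ aY hf, sm_comp _ _ _ aY hf', Category.assoc, h', Category.assoc]

/-- An equivariant map out of a torsor is determined by a twisted fixed point. -/
theorem exists_equivariant (hP : IsTors aP) {p : SGA7.Pts kb P} (hp : IsFin p) {y : SGA7.Pts kb Y} (hy : IsFin y)
    (a : SGA7.Pts kb G) (hap : sm aP a (frob k kb • p) = p) (hay : sm aY a (frob k kb • y) = y) :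
    ∃ f : P ⟶ Y, (aP.act ≫ f = (G ◁ f) ≫ aY.act) ∧ p ≫ f = y := by
  haveI : Algebra.IsAlgebraic k kb := IsAlgClosure.isAlgebraic
  obtain ⟨E₁, hE₁, hp₁⟩ := hp
  obtain ⟨E₂, hE₂, hy₂⟩ := hy
  let E := E₁ ⊔ E₂
  haveI : FiniteDimensional k E := inferInstanceAs (FiniteDimensional k (E₁ ⊔ E₂ : IntermediateField k kb))
  haveI : Finite E := Module.finite_of_finite k
  haveI : IsGalois k E := GaloisField.instIsGaloisOfFinite
  have hpE : DefOver E p := hp₁.mono le_sup_left
  have hyE : DefOver E y := hy₂.mono le_sup_right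
  -- the relation along the Galois group
  have key : ∀ (σ : kb ≃ₐ[k] kb) (d : SGA7.Pts kb G), sm aP d p = σ • p → sm aY d y = σ • y := by
    have hm : ∀ (m : ℕ) (d : SGA7.Pts kb G), sm aP d p = (frob k kb ^ m) • p → sm aY d y = (frob k kb ^ m) • y := by
      intro m
      induction m with
      | zero =>
        intro d hd
        rw [pow_zero, one_smul] at hd ⊢
        rw [hP.inj (hd.trans (sm_one aP p).symm), sm_one]
      | succ m ih =>
        intro d hd
        let d' := tdiv hP p ((frob k kb ^ m) • p)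
        have h1 := ih d' (sm_tdiv hP _ _)
        have ep : frob k kb • p = sm aP a⁻¹ p := by
          conv_rhs => rw [← hap, inv_sm]
        have ey : frob k kb • y = sm aY a⁻¹ y := by
          conv_rhs => rw [← hay, inv_sm]
        rw [pow_succ, mul_smul] at hd ⊢
        have e : d = (frob k kb ^ m) • a⁻¹ * d' := hP.inj (p := p) (by
          rw [hd, ep, smul_sm, sm_mul, sm_tdiv])
        rw [e, sm_mul, h1, ey, smul_sm]
    intro σ d hd
    obtain ⟨m, hm1, -⟩ := exists_frob_pow_smul (Y := Y) E σ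
    rw [hpE.smul_eq hm1] at hd
    rw [hyE.smul_eq hm1]
    exact hm m d hd
  obtain ⟨pE, hpE'⟩ := hpE
  obtain ⟨yE, hyE'⟩ := hyE
  let W := SGA7.pt (K := k) E ⊗ SGA7.pt E
  let d : W ⟶ G := tdiv hP (fst _ _ ≫ pE) (snd _ _ ≫ pE)
  have hW : sm aY d (fst _ _ ≫ yE) = snd _ _ ≫ yE := by
    refine eq_of_galois fun σ => ?_
    obtain ⟨σ', rfl⟩ := AlgEquiv.restrictNormalHom_surjective kb σ
    rw [comp_sm, ← Category.assoc, lift_fst, Category.id_comp, ← Category.assoc, lift_snd]
    refine inc_cancel E ?_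
    rw [comp_sm, hyE']
    have h2 : inc E ≫ SGA7.specAut (AlgEquiv.restrictNormalHom (F := k) (K₁ := kb) E σ') ≫ yE = σ' • y := by
      rw [← hyE', ← Category.assoc]
      exact ((congrArg (· ≫ yE) (specAut_inc E σ')).symm.trans (Category.assoc _ _ _))
    rw [h2]
    refine key σ' _ ?_
    rw [← hpE']
    conv_rhs => rw [smul_defOver]
    rw [← comp_sm]
    refine congrArg (inc E ≫ ·) ?_
    have h3 : lift (𝟙 (SGA7.pt (K := k) E)) (SGA7.specAut (AlgEquiv.restrictNormalHom (F := k) (K₁ := kb) E σ')) ≫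
        sm aP d (fst _ _ ≫ pE) = SGA7.specAut (σ'.restrictNormal E) ≫ pE := by
      rw [sm_tdiv, ← Category.assoc, lift_snd]
      rfl
    rw [comp_sm, ← Category.assoc, lift_fst, Category.id_comp] at h3
    exact h3
  let q := sm aP (fst G (SGA7.pt E)) (snd G (SGA7.pt E) ≫ pE)
  let F := sm aY (fst G (SGA7.pt E)) (snd G (SGA7.pt E) ≫ yE)
  obtain ⟨f, hf⟩ := (good_orbit hP pE).desc F fun T a₁ a₂ h => by
    change a₁ ≫ q = a₂ ≫ q at h
    simp only [q, F, comp_sm] at h ⊢
    let g₁ := a₁ ≫ fst G (SGA7.pt E)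
    let g₂ := a₂ ≫ fst G (SGA7.pt E)
    let s₁ := a₁ ≫ snd G (SGA7.pt E)
    let s₂ := a₂ ≫ snd G (SGA7.pt E)
    rw [← Category.assoc, ← Category.assoc] at h ⊢
    change sm aP g₁ (s₁ ≫ pE) = sm aP g₂ (s₂ ≫ pE) at h
    show sm aY g₁ (s₁ ≫ yE) = sm aY g₂ (s₂ ≫ yE)
    have h1 : sm aP (g₂⁻¹ * g₁) (s₁ ≫ pE) = s₂ ≫ pE := by rw [sm_mul, h, inv_sm]
    have h2 := eq_tdiv hP h1
    have h3 : lift s₁ s₂ ≫ d = g₂⁻¹ * g₁ := by
      rw [comp_tdiv, lift_fst_assoc, lift_snd_assoc, h2]
    have h4 := congrArg (lift s₁ s₂ ≫ ·) hW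
    simp only [comp_sm, lift_fst_assoc, lift_snd_assoc, h3] at h4
    rw [← h4, ← sm_mul, mul_inv_cancel_left]
  refine ⟨f, ?_, ?_⟩
  · refine (Good.of_isPullback (AlgSt.isPullback_whiskerLeft (G := G) _) (good_orbit hP pE)).cancel ?_
    show (G ◁ q) ≫ aP.act ≫ f = (G ◁ q) ≫ (G ◁ f) ≫ aY.act
    rw [← MonoidalCategory.whiskerLeft_comp_assoc, hf, ← Category.assoc]
    let g := fst G (G ⊗ SGA7.pt (K := k) E)
    let h := snd G (G ⊗ SGA7.pt (K := k) E) ≫ fst G _
    let s := snd G (G ⊗ SGA7.pt (K := k) E) ≫ snd G _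
    have e1 : (G ◁ q) ≫ aP.act = lift (g * h) s ≫ q := by
      rw [act_eq_sm aP, comp_sm, whiskerLeft_fst, whiskerLeft_snd]
      simp only [q, comp_sm, ← Category.assoc, lift_fst, lift_snd]
      rw [sm_mul]
    have e2 : (G ◁ F) ≫ aY.act = lift (g * h) s ≫ F := by
      rw [act_eq_sm aY, comp_sm, whiskerLeft_fst, whiskerLeft_snd]
      simp only [F, comp_sm, ← Category.assoc, lift_fst, lift_snd]
      rw [sm_mul]
    rw [e1, e2, Category.assoc, hf]
  · rw [← hpE', ← hyE', Category.assoc]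
    refine congrArg (inc E ≫ ·) ?_
    have := congrArg (lift (1 : SGA7.pt E ⟶ G) (𝟙 _) ≫ ·) hf
    simp only [q, F, ← Category.assoc, comp_sm, lift_fst, lift_snd, Category.id_comp, sm_one] at this
    exact this

end Groth.L24.Count
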