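import Groth.Agent.L24.Count.Const
import Groth.Agent.L24.Count.Equivariant
import Mathlib.RingTheory.IntegralClosure.IntegrallyClosed

/-! Rational points as Frobenius fixed points; rational points of twists. -/

set_option autoImplicit false
set_option linter.style.haveILetI false
set_option linter.unusedSectionVars false
set_option backward.isDefEq.respectTransparency false
set_option backward.isDefEq.respectTransparency.types false

universe u

open CategoryTheory CategoryTheory.Limits MonoidalCategory CartesianMonoidalCategory MonObj AlgebraicGeometry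
open GalTw Groth.L11.GalTwist

noncomputable section

namespace Groth.L24.Count

variable {k : Type u} [Field k] [Finite k] (kb : Type u) [Field kb] [Algebra k kb] [IsAlgClosure k kb]
  {G X Y : Over (Spec (CommRingCat.of k))} [GrpObj G]

variable (k) in
/-- The projection of the geometric point to the point. -/
def base : SGA7.pt (K := k) kb ⟶ SGA7.pt k :=
  Over.homMk (Spec.map (CommRingCat.ofHom (algebraMap k kb))) (by
    show Spec.map _ ≫ Spec.map _ = Spec.map _
    rw [← Spec.map_comp, ← CommRingCat.ofHom_comp]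
    rfl)

theorem specAut_base (σ : kb ≃ₐ[k] kb) : SGA7.specAut σ ≫ base k kb = base k kb :=
  Over.OverMorphism.ext (SGA7.spec_map_algEquiv_comp σ)

theorem mem_bot_of_frob {x : kb} (hx : frob k kb x = x) : x ∈ (⊥ : IntermediateField k kb) := by
  classical
  letI := Fintype.ofFinite k
  rw [frob_apply, Nat.card_eq_fintype_card] at hx
  by_contra hc
  rw [IntermediateField.mem_bot] at hc
  simp only [Set.mem_range, not_exists] at hc
  let s : Finset kb := Finset.univ.image (algebraMap k kb)
  have hs : ∀ z ∈ insert x s, (Polynomial.X ^ Fintype.card k - Polynomial.X : Polynomial kb).IsRoot z := by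
    intro z hz
    rcases Finset.mem_insert.1 hz with rfl | hz
    · simp [hx]
    · obtain ⟨c, -, rfl⟩ := Finset.mem_image.1 hz
      simp [← map_pow, FiniteField.pow_card]
  have hne := FiniteField.X_pow_card_sub_X_ne_zero kb (p := Fintype.card k) Fintype.one_lt_card
  have h1 : (insert x s).card ≤ (Polynomial.X ^ Fintype.card k - Polynomial.X : Polynomial kb).natDegree :=
    Polynomial.card_le_degree_of_subset_roots fun z hz => (Polynomial.mem_roots hne).2 (hs z hz)
  rw [FiniteField.X_pow_card_sub_X_natDegree_eq kb Fintype.one_lt_card,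
    Finset.card_insert_of_notMem (fun h => by obtain ⟨c, -, e⟩ := Finset.mem_image.1 h; exact hc c e),
    Finset.card_image_of_injective _ (algebraMap k kb).injective, Finset.card_univ] at h1
  omega

theorem base_bijective : Function.Bijective (fun r : SGA7.Pts (K := k) k Y =>
    (⟨base k kb ≫ r, (Category.assoc _ _ _).symm.trans (congrArg (· ≫ r) (specAut_base kb (frob k kb)))⟩ :
      {y : SGA7.Pts kb Y // frob k kb • y = y})) := by
  refine ⟨fun r r' h => (good_spec (base k kb) rfl).cancel (congrArg Subtype.val h), fun y => ?_⟩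
  obtain ⟨q, hq⟩ := defOver_of_fixed (⊥ : IntermediateField k kb) (frob k kb) (fun x hx => mem_bot_of_frob kb hx) y.1 y.2
  let e : SGA7.pt (K := k) k ⟶ SGA7.pt (⊥ : IntermediateField k kb) :=
    Over.homMk (Spec.map (CommRingCat.ofHom ((IntermediateField.botEquiv k kb).toAlgHom : (⊥ : IntermediateField k kb) →+* k))) (by
      show Spec.map _ ≫ Spec.map _ = Spec.map _
      rw [← Spec.map_comp, ← CommRingCat.ofHom_comp]
      exact congrArg (fun t => Spec.map (CommRingCat.ofHom t)) (AlgHom.comp_algebraMap _))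
  have he : base k kb ≫ e = inc (⊥ : IntermediateField k kb) := by
    apply Over.OverMorphism.ext
    show Spec.map _ ≫ Spec.map _ = Spec.map _
    rw [← Spec.map_comp, ← CommRingCat.ofHom_comp]
    refine congrArg (fun t => Spec.map (CommRingCat.ofHom t)) (RingHom.ext fun c => ?_)
    obtain ⟨r, rfl⟩ := (IntermediateField.botEquiv k kb).symm.surjective c
    show algebraMap k kb (IntermediateField.botEquiv k kb ((IntermediateField.botEquiv k kb).symm r)) = _
    rw [AlgEquiv.apply_symm_apply, IntermediateField.botEquiv_symm]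
    rfl
  exact ⟨e ≫ q, Subtype.ext (by show base k kb ≫ e ≫ q = y.1; rw [← Category.assoc, he, hq])⟩

theorem nat_card_rational : Nat.card (SGA7.Pts (K := k) k Y) = Nat.card {y : SGA7.Pts kb Y // frob k kb • y = y} :=
  Nat.card_congr (Equiv.ofBijective _ (base_bijective kb))

variable {kb}

theorem cst_actK (aX : AlgGrp.Action G X) (g : SGA7.Pts kb G) (x : SGA7.Pts kb X)
    (T : Over (Spec (CommRingCat.of k))) : cst T x ≫ actK kb aX g = cst T (sm aX g x) := by
  rw [cst, cst, Category.assoc]
  congr 1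
  apply Over.OverMorphism.ext
  apply pullback.hom_ext
  · simp only [Over.comp_left, Category.assoc, actK, Over.homMk_left, pullback.lift_fst, secOfPt_left]
    let s : SGA7.pt (K := k) kb ⟶ X ⊗ SGA7.pt (K := k) kb := lift x (𝟙 _)
    have hs : s.left = pullback.lift x.left (𝟙 _) (by rw [Category.id_comp]; exact Over.w x) := by
      apply pullback.hom_ext
      · rw [pullback.lift_fst]; exact congrArg (fun t => t.left) (lift_fst x (𝟙 (SGA7.pt (K := k) kb)))
      · rw [pullback.lift_snd]; exact congrArg (fun t => t.left) (lift_snd x (𝟙 (SGA7.pt (K := k) kb)))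
    rw [← hs]
    suffices hh : s ≫ (lift (snd X _ ≫ g) (fst X _) ≫ aX.act) = sm aX g x from congrArg (fun t => t.left) hh
    show s ≫ lift (snd X _ ≫ g) (fst X _) ≫ aX.act = sm aX g x
    rw [sm, ← Category.assoc, comp_lift, lift_snd_assoc, Category.id_comp, lift_fst]
  · exact (Over.w _).trans (Over.w (secOfPt kb (sm aX g x))).symm

theorem cst_innK (g x : SGA7.Pts kb G) (T : Over (Spec (CommRingCat.of k))) :
    cst T x ≫ innK kb g = cst T (g * x * g⁻¹) := by
  show cst T x ≫ (cst G g * 𝟙 (bcK kb G) * (cst G g)⁻¹) = _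
  rw [MonObj.comp_mul, MonObj.comp_mul, GrpObj.comp_inv, comp_cst, Category.comp_id, cst_mul, cst_mul, cst_inv]

/-- The bijection on geometric points induced by an isomorphism over the algebraic closure. -/
theorem exists_pts_equiv {Z : Over (Spec (CommRingCat.of k))} (φ : bcK kb Y ≅ bcK kb Z)
    (c : (kb ≃ₐ[k] kb) → (bcK kb Z ⟶ bcK kb Z)) (f : (kb ≃ₐ[k] kb) → SGA7.Pts kb Z → SGA7.Pts kb Z)
    (hc : ∀ σ, (cocycle φ σ).hom = c σ) (hf : ∀ σ z, cst (𝟙_ _) z ≫ c σ = cst (𝟙_ _) (f σ z)) :
    ∃ e : SGA7.Pts kb Y ≃ SGA7.Pts kb Z, ∀ (σ : kb ≃ₐ[k] kb) (y : SGA7.Pts kb Y), e (σ • y) = f σ (σ • e y) := by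
  choose e he using fun y : SGA7.Pts kb Y => exists_secOfPt_eq (secOfPt kb y ≫ φ.hom)
  choose e' he' using fun z : SGA7.Pts kb Z => exists_secOfPt_eq (secOfPt kb z ≫ φ.inv)
  have hcst : ∀ y, cst (𝟙_ (Over (Spec (CommRingCat.of k)))) y ≫ φ.hom = cst _ (e y) := fun y => by
    rw [cst, cst, he, Category.assoc]
  refine ⟨⟨e, e', fun y => secOfPt_injective (by rw [he', he, Category.assoc, φ.hom_inv_id, Category.comp_id]),
    fun z => secOfPt_injective (by rw [he, he', Category.assoc, φ.inv_hom_id, Category.comp_id])⟩, fun σ y => ?_⟩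
  apply cst_injective
  show cst (𝟙_ _) (e (σ • y)) = cst (𝟙_ _) (f σ (σ • e y))
  rw [← hcst, ← hf, ← twHom_cst, ← twHom_cst, ← hcst, twHom_comp, Category.assoc, ← hc σ, cocycle_apply_hom]
  congr 1
  exact ((twIso σ φ).hom_inv_id_assoc φ.hom).symm

theorem nat_card_actTwist {aX : AlgGrp.Action G X} (z : GpH1.OneCocycle (kb ≃ₐ[k] kb) (SGA7.Pts kb G))
    (h : IsActTwist kb aX z Y) :
    Nat.card (SGA7.Pts (K := k) k Y) =
      Nat.card {x : SGA7.Pts kb X // sm aX (z (frob k kb)) (frob k kb • x) = x} := by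
  obtain ⟨φ, hφ⟩ := h
  obtain ⟨e, he⟩ := exists_pts_equiv φ _ (fun σ x => sm aX (z σ) x) hφ (fun σ x => cst_actK aX (z σ) x _)
  rw [nat_card_rational kb]
  refine Nat.card_congr (e.subtypeEquiv fun y => ?_)
  rw [← he, e.injective.eq_iff]

theorem nat_card_innTwist {G' : Over (Spec (CommRingCat.of k))} [GrpObj G']
    (z : GpH1.OneCocycle (kb ≃ₐ[k] kb) (SGA7.Pts kb G)) (h : IsInnTwist kb G z G') :
    Nat.card (SGA7.Pts (K := k) k G') =
      Nat.card {g : SGA7.Pts kb G // g * z (frob k kb) * (frob k kb • g)⁻¹ = z (frob k kb)} := by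
  obtain ⟨φ, -, hφ⟩ := h
  obtain ⟨e, he⟩ := exists_pts_equiv φ _ (fun σ x => z σ * x * (z σ)⁻¹) hφ (fun σ x => cst_innK (z σ) x _)
  rw [nat_card_rational kb]
  refine Nat.card_congr (e.subtypeEquiv fun y => ?_)
  rw [← e.injective.eq_iff, he, mul_inv_eq_iff_eq_mul, mul_inv_eq_iff_eq_mul, eq_comm]

end Groth.L24.Count
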