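import Groth.Agent.L24.Count.Separate
import Groth.Agent.L08.Points
import Groth.Agent.L01.UnipSplit.Basic
import Groth.Agent.S7966
import Groth.Agent.L08.Borel.SolvTori
import Groth.Agent.L21.CurvFib.DimExt
import Mathlib.RingTheory.Ideal.GoingUp

/-! The reduced form over a finite field of a geometric subgroup stable under the Galois action. -/

set_option autoImplicit false
set_option linter.style.haveILetI false
set_option linter.unusedSectionVars false
set_option maxHeartbeats 1000000

universe u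

open TensorProduct WithConv
open Groth.L01.UnipSplit (pre_mul pre_one)
open Groth.L08 (pinv pinv_mul mul_pinv)

noncomputable section

namespace Groth.L24.Count

variable {k : Type u} [Field k] {L : Type u} [Field L] [Algebra k L]
  {C : Type u} [CommRing C] [HopfAlgebra k C]

/-- Extension of a point to the base change. -/
def ext (y : C →ₐ[k] L) : L ⊗[k] C →ₐ[L] L :=
  Algebra.TensorProduct.lift (AlgHom.id L L) y fun _ _ => Commute.all _ _

theorem ext_one_tmul (y : C →ₐ[k] L) (a : C) : ext y ((1 : L) ⊗ₜ[k] a) = y a := by simp [ext]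

theorem ext_comp_incl (w : L ⊗[k] C →ₐ[L] L) : ext ((w.restrictScalars k).comp Algebra.TensorProduct.includeRight) = w := by
  refine Algebra.TensorProduct.ext (AlgHom.ext fun c => ?_) (AlgHom.ext fun a => ?_)
  · show ext _ (c ⊗ₜ[k] (1 : C)) = w (c ⊗ₜ[k] (1 : C))
    rw [show c ⊗ₜ[k] (1 : C) = algebraMap L (L ⊗[k] C) c from rfl, AlgHom.commutes, AlgHom.commutes]
  · exact ext_one_tmul _ a

theorem ext_mul (y y' : WithConv (C →ₐ[k] L)) :
    toConv (ext (y * y').ofConv) = toConv (ext y.ofConv) * toConv (ext y'.ofConv) := by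
  refine WithConv.ofConv_injective (Algebra.TensorProduct.ext (AlgHom.ext fun c => ?_) (AlgHom.ext fun a => ?_))
  · show ext _ (c ⊗ₜ[k] (1 : C)) = (toConv (ext y.ofConv) * toConv (ext y'.ofConv)).ofConv (c ⊗ₜ[k] (1 : C))
    rw [show c ⊗ₜ[k] (1 : C) = algebraMap L (L ⊗[k] C) c from rfl, AlgHom.commutes, AlgHom.commutes]
  · show ext (y * y').ofConv ((1 : L) ⊗ₜ[k] a) =
      (toConv (ext y.ofConv) * toConv (ext y'.ofConv)).ofConv ((1 : L) ⊗ₜ[k] a)
    rw [ext_one_tmul, AlgHom.convMul_apply, AlgHom.convMul_apply, Groth.Agent.S7966.comul_one_tmul]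
    induction Coalgebra.comul (R := k) a with
    | zero => simp
    | add p q hp hq => simp only [TensorProduct.tmul_add, map_add, hp, hq]
    | tmul p q => simp [ext]

theorem ext_one : toConv (ext (1 : WithConv (C →ₐ[k] L)).ofConv) = 1 := by
  refine WithConv.ofConv_injective (Algebra.TensorProduct.ext (AlgHom.ext fun c => ?_) (AlgHom.ext fun a => ?_))
  · show ext _ (c ⊗ₜ[k] (1 : C)) = (1 : WithConv (L ⊗[k] C →ₐ[L] L)).ofConv (c ⊗ₜ[k] (1 : C))
    rw [show c ⊗ₜ[k] (1 : C) = algebraMap L (L ⊗[k] C) c from rfl, AlgHom.commutes, AlgHom.commutes]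
  · show ext _ ((1 : L) ⊗ₜ[k] a) = (1 : WithConv (L ⊗[k] C →ₐ[L] L)).ofConv ((1 : L) ⊗ₜ[k] a)
    rw [ext_one_tmul, AlgHom.convOne_apply, AlgHom.convOne_apply]
    simp [Algebra.smul_def]

variable {D : Type u} [CommRing D] [HopfAlgebra L D] (q : L ⊗[k] C →ₐc[L] D)

/-- A point lies in the geometric subgroup. -/
def InSub (y : C →ₐ[k] L) : Prop := ∀ z, q z = 0 → ext y z = 0

variable {q} (hq : Function.Surjective q)

include hq

theorem InSub.factor {y : C →ₐ[k] L} (h : InSub q y) : ∃ d : D →ₐ[L] L, d.comp (q : L ⊗[k] C →ₐ[L] D) = ext y :=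
  ⟨AlgHom.liftOfSurjective (q : L ⊗[k] C →ₐ[L] D) hq (ext y) fun z hz => h z hz,
    AlgHom.ext fun z => AlgHom.liftOfSurjective_apply (q : L ⊗[k] C →ₐ[L] D) hq (ext y) (fun z hz => h z hz) z⟩

theorem InSub.of_factor {y : C →ₐ[k] L} (d : D →ₐ[L] L) (hd : d.comp (q : L ⊗[k] C →ₐ[L] D) = ext y) : InSub q y :=
  fun z hz => by rw [← hd]; show d (q z) = 0; rw [hz, map_zero]

theorem InSub.mul {y y' : WithConv (C →ₐ[k] L)} (h : InSub q y.ofConv) (h' : InSub q y'.ofConv) :
    InSub q (y * y').ofConv := by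
  obtain ⟨d, hd⟩ := h.factor hq
  obtain ⟨d', hd'⟩ := h'.factor hq
  refine InSub.of_factor hq (toConv d * toConv d').ofConv ?_
  have := congrArg WithConv.ofConv (pre_mul q (toConv d) (toConv d'))
  refine this.trans ?_
  show (toConv (d.comp (q : L ⊗[k] C →ₐ[L] D)) * toConv (d'.comp (q : L ⊗[k] C →ₐ[L] D))).ofConv = _
  rw [hd, hd', ← ext_mul]

theorem InSub.one : InSub q (1 : WithConv (C →ₐ[k] L)).ofConv :=
  InSub.of_factor hq (1 : WithConv (D →ₐ[L] L)).ofConv (by
    have := congrArg WithConv.ofConv (pre_one (R := L) q)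
    exact this.trans (congrArg WithConv.ofConv ext_one.symm))

theorem InSub.inv {y : WithConv (C →ₐ[k] L)} (h : InSub q y.ofConv) : InSub q (pinv y).ofConv := by
  obtain ⟨d, hd⟩ := h.factor hq
  refine InSub.of_factor hq (pinv (toConv d)).ofConv ?_
  have e : toConv ((pinv (toConv d)).ofConv.comp (q : L ⊗[k] C →ₐ[L] D)) * toConv (ext y.ofConv) = 1 := by
    have e1 := pre_mul q (pinv (toConv d)) (toConv d)
    rw [pinv_mul, pre_one] at e1
    refine Eq.trans ?_ e1.symm
    show _ = _ * toConv (d.comp (q : L ⊗[k] C →ₐ[L] D))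
    rw [hd]
  have e2 : toConv (ext y.ofConv) * toConv (ext (pinv y).ofConv) = 1 := by
    rw [← ext_mul, mul_pinv, ext_one]
  refine congrArg WithConv.ofConv ?_
  calc toConv ((pinv (toConv d)).ofConv.comp (q : L ⊗[k] C →ₐ[L] D))
      = toConv ((pinv (toConv d)).ofConv.comp (q : L ⊗[k] C →ₐ[L] D)) *
          (toConv (ext y.ofConv) * toConv (ext (pinv y).ofConv)) := by rw [e2, mul_one]
    _ = toConv (ext (pinv y).ofConv) := by rw [← mul_assoc, e, one_mul]

variable [PerfectField k] [IsAlgClosure k L] [Algebra.FiniteType k C]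

/-- The reduced form over the base field of a stable geometric subgroup. -/
theorem exists_form (hst : ∀ (σ : L ≃ₐ[k] L) (y : C →ₐ[k] L), InSub q y → InSub q ((σ : L →ₐ[k] L).comp y)) :
    ∃ (R : Type u) (_ : CommRing R) (_ : HopfAlgebra k R) (π : C →ₐc[k] R) (q' : D →ₐc[L] L ⊗[k] R),
      Function.Surjective π ∧ Function.Surjective q' ∧ Algebra.FiniteType k R ∧ IsReduced R ∧
      (∀ y : C →ₐ[k] L, InSub q y ↔ ∀ a, π a = 0 → y a = 0) ∧ ringKrullDim R = ringKrullDim D := by
  classical
  haveI : IsAlgClosed L := IsAlgClosure.isAlgClosed k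
  haveI : Algebra.IsAlgebraic k L := IsAlgClosure.isAlgebraic
  haveI : Algebra.FiniteType L (L ⊗[k] C) := inferInstance
  let qa : L ⊗[k] C →ₐ[L] D := q
  let J : Ideal (L ⊗[k] C) := RingHom.ker qa
  have hJ : ∀ z, z ∈ J.radical → ∀ y : C →ₐ[k] L, InSub q y → ext y z = 0 := by
    intro z ⟨n, hn⟩ y hy
    exact pow_eq_zero_iff'.1 ((map_pow (ext y) z n).symm.trans (hy _ hn)) |>.1
  let incl : C →ₐ[k] L ⊗[k] C := Algebra.TensorProduct.includeRight
  let I : Ideal C := J.radical.comap incl
  have hpts : ∀ y : C →ₐ[k] L, InSub q y ↔ ∀ a ∈ I, y a = 0 := by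
    refine fun y => ⟨fun hy a ha => ?_, fun hy => ?_⟩
    · rw [← ext_one_tmul y a]
      exact hJ _ ha y hy
    · -- a point over the maximal ideal of `y`
      haveI : Algebra.IsIntegral k L := Algebra.IsAlgebraic.isIntegral
      let comm : C ⊗[k] L ≃ₐ[k] L ⊗[k] C := Algebra.TensorProduct.comm k C L
      let J' : Ideal (C ⊗[k] L) := J.radical.comap comm
      haveI : (RingHom.ker y).IsPrime := RingHom.ker_isPrime y
      obtain ⟨Q, hQJ, hQp, hQ⟩ := Ideal.exists_ideal_over_prime_of_isIntegral (RingHom.ker y) J' fun a ha => by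
        rw [RingHom.mem_ker]
        refine hy a ?_
        show (1 : L) ⊗ₜ[k] a ∈ J.radical
        have h1 : comm (algebraMap C (C ⊗[k] L) a) = (1 : L) ⊗ₜ[k] a := by simp [comm]
        rw [← h1]
        exact ha
      haveI := hQp
      let Q' : Ideal (L ⊗[k] C) := Q.comap comm.symm
      haveI : Q'.IsPrime := Ideal.comap_isPrime _ _
      obtain ⟨m, hm, hQm⟩ := Ideal.exists_le_maximal Q' (Ideal.IsPrime.ne_top inferInstance)
      obtain ⟨w, hw⟩ := exists_point_of_maximal (k := L) (L := L) m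
      let y' : C →ₐ[k] L := (w.restrictScalars k).comp incl
      have hy' : InSub q y' := fun z hz => by
        rw [ext_comp_incl]
        have hzm : z ∈ m := hQm (by
          show comm.symm z ∈ Q
          exact hQJ (show comm (comm.symm z) ∈ J.radical by rw [AlgEquiv.apply_symm_apply]; exact Ideal.le_radical hz))
        rw [← hw] at hzm
        exact hzm
      have hker : RingHom.ker y' = RingHom.ker y := by
        have hle : RingHom.ker y ≤ RingHom.ker y' := fun a ha => by
          have h1 : algebraMap C (C ⊗[k] L) a ∈ Q := by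
            rw [← hQ] at ha; exact ha
          have h2 : (1 : L) ⊗ₜ[k] a ∈ m := hQm (by
            show comm.symm ((1 : L) ⊗ₜ[k] a) ∈ Q
            have h3 : comm.symm ((1 : L) ⊗ₜ[k] a) = algebraMap C (C ⊗[k] L) a := by simp [comm]
            rw [h3]; exact h1)
          rw [← hw] at h2
          exact h2
        haveI : (RingHom.ker y).IsMaximal := by
          let Y := C ⧸ RingHom.ker y
          let f : Y →ₐ[k] L := Ideal.Quotient.liftₐ _ y fun _ ha => ha
          have hf : Function.Injective f := (injective_iff_map_eq_zero f).2 fun a ha => by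
            obtain ⟨r, rfl⟩ := Ideal.Quotient.mk_surjective a
            exact Ideal.Quotient.eq_zero_iff_mem.2 ha
          haveI : Algebra.IsIntegral k Y := ⟨fun a => (isIntegral_algHom_iff f hf).1 (Algebra.IsIntegral.isIntegral _)⟩
          exact Ideal.Quotient.maximal_of_isField _ (isField_of_isIntegral_of_isField' (R := k) (S := Y) (Field.toIsField k))
        exact ((‹(RingHom.ker y).IsMaximal›).eq_of_le (RingHom.ker_ne_top _) hle).symm
      obtain ⟨σ, rfl⟩ := exists_conj_of_ker_eq y' y hker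
      exact hst σ y' hy'
  have hred : IsReduced (C ⧸ I) := by
    rw [← Ideal.isRadical_iff_quotient_reduced]
    exact (J.radical_isRadical).comap incl
  haveI := hred
  haveI : Algebra.FiniteType k (C ⧸ I) :=
    Algebra.FiniteType.of_surjective (Ideal.Quotient.mkₐ k I) Ideal.Quotient.mk_surjective
  have hptR : ∀ y : (C ⧸ I) →ₐ[k] L, InSub q (y.comp (Ideal.Quotient.mkₐ k I)) := fun y =>
    (hpts _).2 fun a ha => by
      show y (Ideal.Quotient.mk I a) = 0
      rw [Ideal.Quotient.eq_zero_iff_mem.2 ha, map_zero]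
  have hIε : ∀ a ∈ I, Coalgebra.counit (R := k) a = 0 := fun a ha => (algebraMap k L).injective (by
    have h1 := (hpts _).1 (InSub.one hq) a ha
    rw [AlgHom.convOne_apply] at h1
    rw [map_zero]
    exact h1)
  haveI hI : I.IsHopfIdeal k := by
    refine { toIsCoideal := ⟨fun a ha => hIε a ha, fun a ha => ?_⟩, antipode_mem := fun a ha => ?_ }
    · show Algebra.TensorProduct.map (Ideal.Quotient.mkₐ k I) (Ideal.Quotient.mkₐ k I) (Coalgebra.comul (R := k) a) = 0
      refine eq_zero_of_forall_pair (L := L) fun y y' => ?_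
      have hprod := (hpts _).1 (InSub.mul hq (y := toConv (y.comp (Ideal.Quotient.mkₐ k I)))
        (y' := toConv (y'.comp (Ideal.Quotient.mkₐ k I))) (hptR y) (hptR y')) a ha
      rw [AlgHom.convMul_apply] at hprod
      refine Eq.trans ?_ hprod
      induction Coalgebra.comul (R := k) a with
      | zero => simp
      | add p r hp hr => simp only [map_add, hp, hr]
      | tmul p r => simp
    · change HopfAlgebra.antipodeAlgHom k C a ∈ I
      rw [← Ideal.Quotient.eq_zero_iff_mem]
      refine eq_zero_of_forall_point (k := k) (L := L) fun y => ?_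
      exact (hpts _).1 (InSub.inv hq (y := toConv (y.comp (Ideal.Quotient.mkₐ k I))) (hptR y)) a ha
  let π : C →ₐc[k] C ⧸ I := Bialgebra.Quotient.mkBialgHom (R := k) I
  have hπ : ∀ a, π a = 0 ↔ a ∈ I := fun a => Ideal.Quotient.eq_zero_iff_mem
  -- the geometric comparison
  let πL : L ⊗[k] C →ₐc[L] L ⊗[k] (C ⧸ I) := Bialgebra.TensorProduct.map (BialgHom.id L L) π
  let πa : L ⊗[k] C →ₐ[L] L ⊗[k] (C ⧸ I) := πL
  haveI : IsReduced (L ⊗[k] (C ⧸ I)) := isReduced_bc (C ⧸ I)
  haveI : Algebra.FiniteType L (L ⊗[k] (C ⧸ I)) := inferInstance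
  have hπLs : Function.Surjective πL := fun z => by
    induction z with
    | zero => exact ⟨0, map_zero _⟩
    | add p r hp hr =>
      obtain ⟨p', rfl⟩ := hp
      obtain ⟨r', rfl⟩ := hr
      exact ⟨p' + r', map_add _ _ _⟩
    | tmul c x =>
      obtain ⟨x', rfl⟩ := Ideal.Quotient.mk_surjective x
      exact ⟨c ⊗ₜ x', rfl⟩
  have hle : ∀ z, q z = 0 → πL z = 0 := fun z hz => by
    refine eq_zero_of_forall_point (k := L) (L := L) fun w => ?_
    have hIn : InSub q ((((w.comp πa)).restrictScalars k).comp incl) := (hpts _).2 fun a ha => by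
      show w ((1 : L) ⊗ₜ[k] (Ideal.Quotient.mk I a)) = 0
      rw [Ideal.Quotient.eq_zero_iff_mem.2 ha, TensorProduct.tmul_zero, map_zero]
    have := hIn z hz
    rw [ext_comp_incl] at this
    exact this
  obtain ⟨q', hq'⟩ := Groth.L08.Borel.exists_desc_bialg q hq πL hle
  have hq's : Function.Surjective q' := fun z => by
    obtain ⟨x, rfl⟩ := hπLs z
    exact ⟨q x, hq' x⟩
  refine ⟨C ⧸ I, inferInstance, inferInstance, π, q', Ideal.Quotient.mk_surjective, hq's, inferInstance, hred,
    fun y => (hpts y).trans (forall_congr' fun a => by rw [hπ]), ?_⟩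
  haveI : Algebra.FiniteType L D := Algebra.FiniteType.of_surjective qa hq
  let D' := D ⧸ nilradical D
  haveI : IsReduced D' := by
    rw [← Ideal.isRadical_iff_quotient_reduced]
    exact Ideal.radical_isRadical _
  haveI : Algebra.FiniteType L D' := Algebra.FiniteType.of_surjective (Ideal.Quotient.mkₐ L (nilradical D)) Ideal.Quotient.mk_surjective
  have hnil : RingHom.ker (q' : D →+* L ⊗[k] (C ⧸ I)) ≤ nilradical D := fun x hx => by
    obtain ⟨z, rfl⟩ := hq x
    rw [← Ideal.Quotient.eq_zero_iff_mem]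
    refine eq_zero_of_forall_point (k := L) (L := L) fun w => ?_
    let w₀ : L ⊗[k] C →ₐ[L] L := (w.comp (Ideal.Quotient.mkₐ L (nilradical D))).comp qa
    let y : C →ₐ[k] L := (w₀.restrictScalars k).comp incl
    have hy : InSub q y := InSub.of_factor hq (w.comp (Ideal.Quotient.mkₐ L (nilradical D))) (ext_comp_incl w₀).symm
    let yR : (C ⧸ I) →ₐ[k] L := Ideal.Quotient.liftₐ I y ((hpts y).1 hy)
    let wR : L ⊗[k] (C ⧸ I) →ₐ[L] L := Algebra.TensorProduct.lift (AlgHom.id L L) yR fun _ _ => Commute.all _ _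
    have e : wR.comp πa = w₀ := by
      rw [← ext_comp_incl (wR.comp πa), ← ext_comp_incl w₀]
      congr 1
      refine AlgHom.ext fun a => ?_
      show wR ((1 : L) ⊗ₜ[k] Ideal.Quotient.mk I a) = y a
      simp [wR, yR]
    show w₀ z = 0
    rw [← e]
    show wR (πL z) = 0
    rw [← hq', show q' (q z) = 0 from hx, map_zero]
  have h1 : ringKrullDim (L ⊗[k] (C ⧸ I)) = ringKrullDim (C ⧸ I) := by
    rw [← ringKrullDim_eq_of_ringEquiv (Algebra.TensorProduct.comm k (C ⧸ I) L).toRingEquiv]
    exact Groth.L21.CurvFib.ringKrullDim_tensor_field k L (C ⧸ I)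
  rw [← h1]
  refine le_antisymm (ringKrullDim_le_of_surjective (q' : D →+* L ⊗[k] (C ⧸ I)) hq's) ?_
  rw [show ringKrullDim D = ringKrullDim (D ⧸ nilradical D) from by
    rw [ringKrullDim_quotient, ringKrullDim, show PrimeSpectrum.zeroLocus (nilradical D : Set D) = Set.univ from
      Set.eq_univ_iff_forall.2 fun p => nilradical_le_prime p.asIdeal]
    exact (Order.krullDim_eq_of_orderIso OrderIso.Set.univ).symm]
  let f : D →+* L ⊗[k] (C ⧸ I) := (q' : D →+* L ⊗[k] (C ⧸ I))
  let φ : (D ⧸ RingHom.ker f) →+* (D ⧸ nilradical D) := Ideal.Quotient.factor hnil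
  let e : (D ⧸ RingHom.ker f) ≃+* L ⊗[k] (C ⧸ I) := RingHom.quotientKerEquivOfSurjective (f := f) hq's
  rw [← ringKrullDim_eq_of_ringEquiv e]
  exact ringKrullDim_le_of_surjective φ (Ideal.Quotient.factor_surjective hnil)

end Groth.L24.Count
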