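import Groth.Prelude.Def_GalTw2
import Groth.Prelude.Def_AlgGrp
import Mathlib.AlgebraicGeometry.AlgClosed.Basic
import Mathlib.AlgebraicGeometry.Morphisms.Immersion
import Mathlib.AlgebraicGeometry.Morphisms.ClosedImmersion

/-! A representing monomorphism of the stabiliser of a geometric point is a closed immersion. -/

set_option autoImplicit false
set_option backward.isDefEq.respectTransparency false
set_option backward.isDefEq.respectTransparency.types false
set_option linter.style.haveILetI false

universe u

open CategoryTheory MonoidalCategory CartesianMonoidalCategory AlgebraicGeometry Limits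
open GalTw

noncomputable section

namespace Groth.L24.Count

variable {k : Type u} [Field k] {kb : Type u} [Field kb] [Algebra k kb] [IsAlgClosed kb]
  {G X : Over (Spec (CommRingCat.of k))} [GrpObj G] (aX : AlgGrp.Action G X)

/-- The constant morphism to the geometric point. -/
def cT (T : Over (Spec (CommRingCat.of kb))) :
    (Over.map (SGA7.pt (K := k) kb).hom).obj T ⟶ SGA7.pt (K := k) kb :=
  Over.homMk T.hom rfl

theorem adj_left {G : Over (Spec (CommRingCat.of k))} (T : Over (Spec (CommRingCat.of kb)))
    (g : (Over.map (SGA7.pt (K := k) kb).hom).obj T ⟶ G) :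
    ((Over.mapPullbackAdj (SGA7.pt (K := k) kb).hom).homEquiv T G g).left =
      pullback.lift g.left T.hom (Over.w g) := by
  simp [Over.mapPullbackAdj]

/-- The defining property of a stabiliser. -/
def RepStab (x : SGA7.Pts kb X) {S : Over (Spec (CommRingCat.of kb))} (s : S ⟶ bcK kb G) : Prop :=
  ∀ (T : Over (Spec (CommRingCat.of kb))) (g : (Over.map (SGA7.pt (K := k) kb).hom).obj T ⟶ G),
    (∃ g' : T ⟶ S, g' ≫ s = (Over.mapPullbackAdj (SGA7.pt (K := k) kb).hom).homEquiv T G g) ↔
      lift g (cT T ≫ x) ≫ aX.act = cT T ≫ x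

variable {aX}

theorem RepStab.isClosedImmersion [LocallyOfFiniteType X.hom] {x : SGA7.Pts kb X}
    {S : Over (Spec (CommRingCat.of kb))} {s : S ⟶ bcK kb G} [Mono s] (h : RepStab aX x s) :
    IsClosedImmersion s.left := by
  let P := SGA7.pt (K := k) kb
  let adj := Over.mapPullbackAdj P.hom
  let XK := pullback X.hom P.hom
  let sx : Spec (CommRingCat.of kb) ⟶ XK := pullback.lift x.left (𝟙 _) (by rw [Category.id_comp]; exact Over.w x)
  let p2 : XK ⟶ Spec (CommRingCat.of kb) := pullback.snd X.hom P.hom
  haveI : LocallyOfFiniteType p2 := inferInstanceAs (LocallyOfFiniteType (pullback.snd X.hom P.hom))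
  have hsx : sx ≫ p2 = 𝟙 _ := pullback.lift_snd _ _ _
  haveI : IsImmersion (sx ≫ p2) := by rw [hsx]; infer_instance
  haveI : IsImmersion sx := IsImmersion.of_comp sx p2
  haveI : IsClosedImmersion sx := IsClosedImmersion.of_isPreimmersion sx (by
    have hr : Set.range sx = {sx (IsLocalRing.closedPoint kb)} := Set.eq_singleton_iff_unique_mem.2
      ⟨⟨_, rfl⟩, by rintro _ ⟨w, rfl⟩; rw [Subsingleton.elim (α := PrimeSpectrum kb) w (IsLocalRing.closedPoint kb)]⟩
    rw [hr]
    exact ((pointEquivClosedPoint p2) ⟨sx, hsx⟩).2)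
  -- the universal point and the orbit morphism
  let B := bcK kb G
  let g₀ : (Over.map P.hom).obj B ⟶ G := Over.homMk (pullback.fst G.hom P.hom) pullback.condition
  let o : B.left ⟶ XK := pullback.lift (lift g₀ (cT B ≫ x) ≫ aX.act).left B.hom
    (Over.w (lift g₀ (cT B ≫ x) ≫ aX.act))
  let z : pullback o sx ⟶ B.left := pullback.fst o sx
  let ZO : Over (Spec (CommRingCat.of kb)) := Over.mk (z ≫ B.hom)
  let zO : ZO ⟶ B := Over.homMk z rfl
  haveI : IsClosedImmersion z := MorphismProperty.pullback_fst (P := @IsClosedImmersion) o sx ‹_›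
  haveI : Mono zO := Over.mono_of_mono_left zO
  -- the condition for a morphism into the base change
  have cond : ∀ (T : Over (Spec (CommRingCat.of kb))) (v : T ⟶ B),
      lift ((adj.homEquiv T G).symm v) (cT T ≫ x) ≫ aX.act = cT T ≫ x ↔ v.left ≫ o = T.hom ≫ sx := by
    intro T v
    have e1 : (adj.homEquiv T G).symm v = (Over.map P.hom).map v ≫ g₀ := by
      rw [Equiv.symm_apply_eq]
      apply Over.OverMorphism.ext
      rw [adj_left]
      apply pullback.hom_ext
      · exact (pullback.lift_fst _ _ _).symm
      · exact (Over.w v).trans (pullback.lift_snd _ _ _).symm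
    have e2 : cT (k := k) T = (Over.map P.hom).map v ≫ cT B := Over.OverMorphism.ext (Over.w v).symm
    constructor
    · intro hh
      apply pullback.hom_ext
      · rw [Category.assoc, pullback.lift_fst, Category.assoc, pullback.lift_fst]
        have := congrArg (fun t => t.left) hh
        rw [e1, e2, Category.assoc, ← comp_lift, Category.assoc] at this
        refine Eq.trans this ?_
        exact congrArg (fun t => t ≫ x.left) (Over.w v)
      · rw [Category.assoc, pullback.lift_snd, Category.assoc, hsx, Category.comp_id]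
        exact Over.w v
    · intro hh
      apply Over.OverMorphism.ext
      have := congrArg (fun t => t ≫ pullback.fst X.hom P.hom) hh
      simp only [Category.assoc] at this
      rw [pullback.lift_fst, pullback.lift_fst] at this
      rw [e1, e2, Category.assoc, ← comp_lift, Category.assoc]
      refine Eq.trans this ?_
      exact (congrArg (fun t => t ≫ x.left) (Over.w v)).symm
  -- comparison
  obtain ⟨g', hg'⟩ : ∃ g' : ZO ⟶ S, g' ≫ s = zO := by
    obtain ⟨g', hg'⟩ := (h ZO ((adj.homEquiv ZO G).symm zO)).2 ((cond ZO zO).2 (by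
      show z ≫ o = (z ≫ B.hom) ≫ sx
      have hc : z ≫ o = pullback.snd o sx ≫ sx := pullback.condition
      have hs : pullback.snd o sx = z ≫ B.hom := by
        have := congrArg (· ≫ p2) hc
        simp only [Category.assoc, hsx, Category.comp_id] at this
        rw [← this, pullback.lift_snd]
      rw [hc, hs]))
    exact ⟨g', hg'.trans (Equiv.apply_symm_apply _ _)⟩
  have hs : s.left ≫ o = S.hom ≫ sx := (cond S s).1 ((h S ((adj.homEquiv S G).symm s)).1
    ⟨𝟙 S, by rw [Category.id_comp]; exact (Equiv.apply_symm_apply _ _).symm⟩)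
  let f : S ⟶ ZO := Over.homMk (pullback.lift s.left S.hom hs) (by
    show pullback.lift _ _ _ ≫ z ≫ B.hom = S.hom
    rw [← Category.assoc, pullback.lift_fst]
    exact Over.w s)
  have hf : f ≫ zO = s := Over.OverMorphism.ext (pullback.lift_fst _ _ _)
  haveI : IsIso f := ⟨g', by rw [← cancel_mono s, Category.assoc, hg', hf, Category.id_comp],
    by rw [← cancel_mono zO, Category.assoc, hf, hg', Category.id_comp]⟩
  haveI : IsIso f.left := inferInstanceAs (IsIso ((Over.forget _).map f))
  rw [← hf]
  exact inferInstanceAs (IsClosedImmersion (f.left ≫ z))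

theorem RepStab.point_iff {x : SGA7.Pts kb X} {S : Over (Spec (CommRingCat.of kb))} {s : S ⟶ bcK kb G}
    (h : RepStab aX x s) (g : SGA7.Pts kb G) :
    (∃ t : 𝟙_ (Over (Spec (CommRingCat.of kb))) ⟶ S, t ≫ s = secOfPt kb g) ↔ lift g x ≫ aX.act = x := by
  let P := SGA7.pt (K := k) kb
  let T : Over (Spec (CommRingCat.of kb)) := 𝟙_ _
  let c : (Over.map P.hom).obj T ⟶ P := cT T
  haveI : IsIso c.left := by show IsIso (𝟙 (Spec (CommRingCat.of kb))); infer_instance
  haveI : IsIso ((Over.forget _).map c) := ‹IsIso c.left›
  haveI : IsIso c := isIso_of_reflects_iso c (Over.forget _)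
  have e : (Over.mapPullbackAdj P.hom).homEquiv T G (c ≫ g) = secOfPt kb g := by
    apply Over.OverMorphism.ext
    rw [adj_left, secOfPt_left]
    apply pullback.hom_ext
    · refine (pullback.lift_fst _ _ _).trans (Eq.trans ?_ (pullback.lift_fst _ _ _).symm)
      exact Category.id_comp _
    · exact (pullback.lift_snd _ _ _).trans (pullback.lift_snd _ _ _).symm
  rw [← e]
  refine (h T (c ≫ g)).trans ?_
  rw [← comp_lift, Category.assoc]
  exact cancel_epi c

end Groth.L24.Count
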