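import Groth.Agent.L24.Count.TwistPts
import Groth.Agent.L24.Count.StabForm
import Groth.Agent.L24.Count.StabImm
import Groth.Agent.L24.Count.Tors

/-! The form over the base field of the stabiliser of a geometric point with stable orbit. -/

set_option autoImplicit false
set_option backward.isDefEq.respectTransparency false
set_option backward.isDefEq.respectTransparency.types false
set_option linter.style.haveILetI false
set_option linter.unusedSectionVars false
set_option maxHeartbeats 1000000

universe u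

open CategoryTheory MonoidalCategory CartesianMonoidalCategory MonObj AlgebraicGeometry Limits
open GalTw TensorProduct WithConv
open Groth.L25.Bridge (P bcIso exists_hopf)
open Groth.L08.TorusQuot (SP sp sp_left toPt toPt_pre exists_sp pre ofPt)
open Groth.L08.Borel (unitToSpec)
open Groth.L14.Stack (exists_eq_pow_on)

noncomputable section

namespace Groth.L24.Count

section Points

variable {k : Type u} [Field k] {L : Type u} [Field L] [Algebra k L] {C : Type u} [CommRing C] [HopfAlgebra k C]

/-- A point of an affine group as a morphism. -/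
def ptE : WithConv (C →ₐ[k] L) ≃* SGA7.Pts L (P k C) := Spec.mapMulEquiv

theorem smul_ptE (σ : L ≃ₐ[k] L) (y : C →ₐ[k] L) :
    σ • ptE (toConv y) = ptE (toConv ((σ : L →ₐ[k] L).comp y)) := by
  apply Over.OverMorphism.ext
  show Spec.map _ ≫ Spec.map _ = Spec.map _
  rw [← Spec.map_comp, ← CommRingCat.ofHom_comp]
  rfl

theorem toPt_ext (y : C →ₐ[k] L) :
    toPt (toConv (ext y)) =
      (toUnit (SP L L) ≫ secOfPt L (ptE (toConv y))) ≫ (bcIso k C L).hom.hom.hom := by
  have ht : (toUnit (SP L L)).left = 𝟙 _ := by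
    refine ((Category.comp_id _).symm.trans (Over.w (toUnit (SP L L)))).trans ?_
    show Spec.map (CommRingCat.ofHom (algebraMap L L)) = 𝟙 _
    rw [Algebra.algebraMap_self]
    exact Spec.map_id _
  apply Over.OverMorphism.ext
  rw [Over.comp_left, Over.comp_left, secOfPt_left, ht, Category.id_comp]
  show Spec.map (CommRingCat.ofHom (ext y).toRingHom) = _ ≫ (pullbackSymmetry _ _ ≪≫ pullbackSpecIso' k L C).hom
  rw [← Iso.comp_inv_eq]
  apply pullback.hom_ext
  · refine Eq.trans ?_ (pullback.lift_fst _ _ _).symm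
    rw [Iso.trans_inv, Category.assoc, Category.assoc, pullbackSymmetry_inv_comp_fst]
    show Spec.map _ ≫ (pullbackSpecIso k L C).inv ≫ pullback.snd _ _ = Spec.map _
    rw [pullbackSpecIso_inv_snd, ← Spec.map_comp, ← CommRingCat.ofHom_comp]
    exact congrArg (fun f => Spec.map (CommRingCat.ofHom f)) (RingHom.ext fun a => ext_one_tmul y a)
  · refine Eq.trans ?_ (pullback.lift_snd _ _ _).symm
    rw [Iso.trans_inv, Category.assoc, Category.assoc, pullbackSymmetry_inv_comp_snd]
    show Spec.map _ ≫ (pullbackSpecIso k L C).inv ≫ pullback.fst _ _ = 𝟙 _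
    rw [pullbackSpecIso_inv_fst, ← Spec.map_comp, ← CommRingCat.ofHom_comp]
    refine Eq.trans (congrArg (fun f => Spec.map (CommRingCat.ofHom f)) (?_ : _ = RingHom.id L)) (Spec.map_id _)
    exact RingHom.ext fun a => (ext y).commutes a

theorem smooth_P {F : Type u} [Field F] [PerfectField F] (R : Type u) [CommRing R] [HopfAlgebra F R]
    [_root_.IsReduced R] (hR : Algebra.FiniteType F R) : AlgebraicGeometry.Smooth (P F R).hom := by
  haveI : LocallyOfFiniteType (P F R).hom := by
    show LocallyOfFiniteType (Spec.map (CommRingCat.ofHom (algebraMap F R)))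
    rw [HasRingHomProperty.Spec_iff (P := @LocallyOfFiniteType), CommRingCat.hom_ofHom,
      RingHom.finiteType_algebraMap]
    exact hR
  haveI : IsReduced (P F R).left := inferInstanceAs (IsReduced (Spec (CommRingCat.of R)))
  letI : GrpObj (Over.mk (P F R).hom) := (inferInstance : GrpObj (P F R))
  exact Groth.L25.GrpDeriv.smooth_of_perfectField (P F R).hom

end Points

theorem surjective_of_isClosedImmersion {R A : Type u} [CommRing R] [CommRing A] (f : R →+* A)
    [IsClosedImmersion (Spec.map (CommRingCat.ofHom f))] : Function.Surjective f := by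
  have h := (IsClosedImmersion.isAffine_surjective_of_isAffine (Spec.map (CommRingCat.ofHom f))).2
  intro a
  obtain ⟨b, hb⟩ := h ((Scheme.ΓSpecIso (CommRingCat.of A)).inv.hom a)
  refine ⟨(Scheme.ΓSpecIso (CommRingCat.of R)).hom.hom b, ?_⟩
  have e := congrArg (fun m => m.hom b) (Scheme.ΓSpecIso_naturality (CommRingCat.ofHom f))
  refine e.symm.trans ?_
  show (Scheme.ΓSpecIso (CommRingCat.of A)).hom.hom ((Spec.map (CommRingCat.ofHom f)).appTop.hom b) = a
  rw [hb]
  exact congrArg (fun m => m.hom a) (Scheme.ΓSpecIso (CommRingCat.of A)).inv_hom_id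

variable {k : Type u} [Field k] [Finite k] {kb : Type u} [Field kb] [Algebra k kb] [IsAlgClosure k kb]
  {G X : Over (Spec (CommRingCat.of k))} [GrpObj G] [LocallyOfFiniteType G.hom] [IsAffineHom G.hom]
  [LocallyOfFiniteType X.hom] (aX : AlgGrp.Action G X)

/-- The form over the base field of the reduced stabiliser, twisted by a moving element. -/
theorem exists_stabGroup (b : SGA7.Pts kb G) (x : SGA7.Pts kb X) (hbx : sm aX b (frob k kb • x) = x)
    (S : Over (Spec (CommRingCat.of kb))) [GrpObj S] (s : S ⟶ bcK kb G) [IsMonHom s] [Mono s]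
    (hS : RepStab aX x s) (hSu : Red.HasNoSubtorus kb S) (d : ℕ)
    (hd : topologicalKrullDim ↥S.left = (d : WithBot ℕ∞)) :
    ∃ (M : Over (Spec (CommRingCat.of k))) (_ : GrpObj M), AlgebraicGeometry.Smooth M.hom ∧ IsAffineHom M.hom ∧
      Red.HasNoSubtorus kb (bcK kb M) ∧ topologicalKrullDim ↥M.left = (d : WithBot ℕ∞) ∧
      ∃ θ : SGA7.Pts kb M →* SGA7.Pts kb G, Function.Injective θ ∧
        (∀ g, (∃ y, θ y = g) ↔ sm aX g x = x) ∧
        ∀ y, θ (frob k kb • y) = b * (frob k kb • θ y) * b⁻¹ := by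
  haveI : IsAlgClosed kb := IsAlgClosure.isAlgClosed k
  haveI : Algebra.IsAlgebraic k kb := IsAlgClosure.isAlgebraic
  haveI := Fintype.ofFinite k
  haveI : PerfectField k := PerfectField.ofFinite
  obtain ⟨C, _, _, hft, Φ, e, hΦm, hbij, hsec, hπ⟩ := exists_twistPts G b
  haveI := hΦm
  -- the geometric subgroup
  haveI : IsClosedImmersion s.left := hS.isClosedImmersion
  haveI : IsAffineHom (bcK kb G).hom :=
    MorphismProperty.pullback_snd (P := @IsAffineHom) G.hom (SGA7.pt (K := k) kb).hom ‹IsAffineHom G.hom›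
  haveI : IsAffine (bcK kb G).left := isAffine_of_isAffineHom (bcK kb G).hom
  haveI : IsAffine S.left := isAffine_of_isAffineHom s.left
  obtain ⟨D, _, _, ⟨ES⟩⟩ := exists_hopf (R := kb) S
  let eS : S ≅ P kb D := (Grp.forget _).mapIso ES
  haveI : IsMonHom eS.inv := ES.inv.hom.isMonHom_hom
  let β : bcK kb (P k C) ≅ P kb (kb ⊗[k] C) := (Grp.forget _).mapIso (bcIso k C kb)
  haveI : IsMonHom β.hom := (bcIso k C kb).hom.hom.isMonHom_hom
  let g₀ : P kb D ⟶ P kb (kb ⊗[k] C) := eS.inv ≫ s ≫ Φ.inv ≫ β.hom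
  obtain ⟨q, hq₀⟩ := exists_sp g₀
  haveI : IsIso eS.inv.left := inferInstanceAs (IsIso ((Over.forget _).map eS.inv))
  haveI : IsIso Φ.inv.left := inferInstanceAs (IsIso ((Over.forget _).map Φ.inv))
  haveI : IsIso β.hom.left := inferInstanceAs (IsIso ((Over.forget _).map β.hom))
  haveI : IsClosedImmersion (sp q).left := by
    rw [hq₀]
    exact inferInstanceAs (IsClosedImmersion (eS.inv.left ≫ s.left ≫ Φ.inv.left ≫ β.hom.left))
  have hq : Function.Surjective q := by
    haveI : IsClosedImmersion (Spec.map (CommRingCat.ofHom (q : kb ⊗[k] C →+* D))) :=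
      inferInstanceAs (IsClosedImmersion (sp q).left)
    exact surjective_of_isClosedImmersion (q : kb ⊗[k] C →+* D)
  have hunit : toUnit (SP kb kb) ≫ unitToSpec = 𝟙 _ := Groth.L08.Borel.hom_ext_base _ _
  -- membership
  have hmem : ∀ y : C →ₐ[k] kb, InSub q y ↔ sm aX (e (ptE (toConv y))) x = x := by
    intro y
    have key : toPt (toConv (ext y)) =
        toUnit (SP kb kb) ≫ secOfPt kb (e (ptE (toConv y))) ≫ Φ.inv ≫ β.hom := by
      rw [← hsec, Category.assoc, Φ.hom_inv_id_assoc, ← Category.assoc]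
      exact toPt_ext y
    refine Iff.trans ⟨fun h => ?_, fun ⟨t, ht⟩ => ?_⟩ (hS.point_iff (e (ptE (toConv y))))
    · obtain ⟨dd, hdd⟩ := h.factor hq
      refine ⟨unitToSpec ≫ toPt (toConv dd) ≫ eS.inv, ?_⟩
      have h1 : toPt (toConv (ext y)) = toPt (toConv dd) ≫ sp q := by
        rw [← toPt_pre]
        exact congrArg (fun f => toPt (toConv f)) hdd.symm
      rw [hq₀, key] at h1
      have h2 : secOfPt kb (e (ptE (toConv y))) ≫ Φ.inv ≫ β.hom =
          ((unitToSpec ≫ toPt (toConv dd) ≫ eS.inv) ≫ s) ≫ Φ.inv ≫ β.hom := by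
        have h3 := congrArg (fun m => unitToSpec ≫ m) h1
        simp only [g₀, Category.assoc] at h3 ⊢
        rwa [← Category.assoc unitToSpec (toUnit _), toUnit_unique (unitToSpec ≫ toUnit _) (𝟙 _),
          Category.id_comp] at h3
      exact ((cancel_mono (Φ.inv ≫ β.hom)).1 h2).symm
    · refine InSub.of_factor hq (ofPt (toUnit (SP kb kb) ≫ t ≫ eS.hom)).ofConv ?_
      have h1 : toPt (pre q (ofPt (toUnit (SP kb kb) ≫ t ≫ eS.hom))) = toPt (toConv (ext y)) := by
        rw [toPt_pre, Groth.L08.TorusQuot.toPt_ofPt, hq₀, key]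
        simp only [g₀, Category.assoc, Iso.hom_inv_id_assoc]
        rw [reassoc_of% ht]
      exact congrArg WithConv.ofConv ((Spec.mapMulEquiv (R := kb) (S := kb ⊗[k] C) (T := kb)).injective h1)
  -- stability
  haveI : LocallyOfFiniteType (P k C).hom := by
    show LocallyOfFiniteType (Spec.map (CommRingCat.ofHom (algebraMap k C)))
    rw [HasRingHomProperty.Spec_iff (P := @LocallyOfFiniteType), CommRingCat.hom_ofHom,
      RingHom.finiteType_algebraMap]
    exact hft
  have hst : ∀ (σ : kb ≃ₐ[k] kb) (y : C →ₐ[k] kb), InSub q y → InSub q ((σ : kb →ₐ[k] kb).comp y) := by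
    intro σ y hy
    rw [hmem] at hy ⊢
    rw [← smul_ptE]
    obtain ⟨E, hE, hp⟩ := isFin (ptE (toConv y))
    obtain ⟨m, hm⟩ := exists_eq_pow_on (frob k kb) frob_apply E σ
    rw [hp.smul_eq hm]
    clear hm hp
    induction m with
    | zero => rwa [pow_zero, one_smul]
    | succ m ih =>
      rw [pow_succ', mul_smul, hπ]
      conv_lhs => rw [← hbx]
      rw [sm_mul, sm_mul, inv_sm, ← smul_sm, ih, hbx]
  obtain ⟨R, _, _, π, q', hπs, hq's, hRft, hRred, hpts, hdim⟩ := exists_form hq hst
  let M := P k R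
  haveI := hRred
  have hsm : AlgebraicGeometry.Smooth M.hom := smooth_P R hRft
  haveI : IsAffine M.left := inferInstanceAs (IsAffine (Spec (CommRingCat.of R)))
  haveI : IsClosedImmersion (sp π).left := IsClosedImmersion.spec_of_surjective _ hπs
  haveI : Mono (sp π) := Over.mono_of_mono_left _
  haveI : IsClosedImmersion (sp q').left := IsClosedImmersion.spec_of_surjective _ hq's
  haveI : Mono (sp q') := Over.mono_of_mono_left _
  let βR : bcK kb M ≅ P kb (kb ⊗[k] R) := (Grp.forget _).mapIso (bcIso k R kb)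
  haveI : IsMonHom βR.hom := (bcIso k R kb).hom.hom.isMonHom_hom
  refine ⟨M, inferInstance, hsm, isAffineHom_of_isAffine _,
    fun T _ j _ _ hT => hSu T (j ≫ βR.hom ≫ sp q' ≫ eS.inv) hT, ?_, e.comp (GalTw.ptsMap (sp π)), ?_, ?_, ?_⟩
  · haveI : IsIso eS.hom.left := inferInstanceAs (IsIso ((Over.forget _).map eS.hom))
    have h1 : topologicalKrullDim (PrimeSpectrum D) = (d : WithBot ℕ∞) := by
      rw [← hd]
      exact ((Scheme.homeoOfIso (asIso eS.hom.left)).isHomeomorph.topologicalKrullDim_eq).symm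
    rw [PrimeSpectrum.topologicalKrullDim_eq_ringKrullDim, ← hdim,
      ← PrimeSpectrum.topologicalKrullDim_eq_ringKrullDim] at h1
    exact h1
  · exact hbij.1.comp fun y y' h => (cancel_mono (sp π)).1 h
  · intro g
    obtain ⟨p, rfl⟩ := hbij.2 g
    let y := (ptE.symm p).ofConv
    have hp : ptE (toConv y) = p := ptE.apply_symm_apply p
    rw [← hp, ← hmem, hpts]
    constructor
    · rintro ⟨p', hp'⟩ a ha
      have hp'' : p' ≫ sp π = ptE (toConv y) := hbij.1 hp'
      obtain ⟨y', rfl⟩ := ptE.surjective p'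
      have h1 : toPt (pre π y') = ptE (toConv y) := (toPt_pre π y').trans hp''
      have h2 : pre π y' = toConv y := ptE.injective h1
      show (toConv y).ofConv a = 0
      rw [← h2, Groth.L08.TorusQuot.pre_apply, ha, map_zero]
    · intro h
      let y' : R →ₐ[k] kb := AlgHom.liftOfSurjective (π : C →ₐ[k] R) hπs y fun a ha => h a ha
      refine ⟨ptE (toConv y'), ?_⟩
      show e (ptE (toConv y') ≫ sp π) = e (ptE (toConv y))
      congr 1
      refine (toPt_pre π (toConv y')).symm.trans (congrArg (fun f => ptE (toConv f)) ?_)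
      exact AlgHom.ext fun a => AlgHom.liftOfSurjective_apply (π : C →ₐ[k] R) hπs y (fun a ha => h a ha) a
  · intro y
    show e ((frob k kb • y) ≫ sp π) = b * (frob k kb • e (y ≫ sp π)) * b⁻¹
    rw [show (frob k kb • y : SGA7.Pts kb M) ≫ sp π = frob k kb • (y ≫ sp π : SGA7.Pts kb (P k C)) from
      Category.assoc _ _ _, hπ]

end Groth.L24.Count
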