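import Groth.Agent.L24.Count.Tors
import Groth.Agent.L24.Count.Points
import Groth.Agent.L25.RatConn
import Mathlib.AlgebraicGeometry.AlgClosed.Basic
import Mathlib.AlgebraicGeometry.Morphisms.Finite
import Mathlib.AlgebraicGeometry.Morphisms.QuasiFinite
import Mathlib.Topology.JacobsonSpace

/-! A connected group fixes the geometric points of a finite scheme. -/

set_option autoImplicit false
set_option backward.isDefEq.respectTransparency.types false
set_option linter.style.haveILetI false

universe u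

open CategoryTheory CategoryTheory.Limits MonoidalCategory CartesianMonoidalCategory MonObj AlgebraicGeometry

noncomputable section

namespace Groth.L24.Count

variable {k : Type u} [Field k] {kb : Type u} [Field kb] [Algebra k kb] [IsAlgClosed kb]

theorem sm_eq_of_connected {F N E : Over (Spec (CommRingCat.of k))} [GrpObj F] [GrpObj N] [ConnectedSpace N.left]
    [IsFinite E.hom] (aE : AlgGrp.Action F E) (j : N ⟶ F) [IsMonHom j] (n : SGA7.Pts kb N) (e : SGA7.Pts kb E) :
    sm aE (n ≫ j) e = e := by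
  let P := SGA7.pt (K := k) kb
  let cp := IsLocalRing.closedPoint kb
  haveI : GeometricallyConnected N.hom :=
    Groth.L25.RatConn.geometricallyConnected_of_section N.hom η[N].left (Over.w η[N])
  haveI : ConnectedSpace (pullback N.hom P.hom : Scheme.{u}) :=
    GeometricallyConnected.geometrically_connectedSpace _ _ _ (IsPullback.of_hasPullback N.hom P.hom)
  haveI : PreconnectedSpace (N ⊗ P).left :=
    inferInstanceAs (PreconnectedSpace (pullback N.hom P.hom : Scheme.{u}))
  let s : (E ⊗ P).left ⟶ Spec (CommRingCat.of kb) := (snd E P).left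
  haveI : IsFinite s := MorphismProperty.pullback_snd (P := @IsFinite) E.hom P.hom ‹IsFinite E.hom›
  haveI : Finite (E ⊗ P).left := by
    haveI : Subsingleton ↥(Spec (CommRingCat.of kb)) := inferInstanceAs (Subsingleton (PrimeSpectrum kb))
    exact Set.finite_univ_iff.1 ((s.finite_preimage_singleton cp).subset fun z _ => Subsingleton.elim (s z) cp)
  haveI : JacobsonSpace (E ⊗ P).left := LocallyOfFiniteType.jacobsonSpace s
  haveI : DiscreteTopology (E ⊗ P).left := inferInstance
  let ψ : N ⊗ P ⟶ E ⊗ P := lift (sm aE (fst N P ≫ j) (snd N P ≫ e)) (snd N P)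
  have hval : ∀ m : SGA7.Pts kb N, lift m (𝟙 P) ≫ ψ = lift (sm aE (m ≫ j) e) (𝟙 P) := fun m => by
    simp only [ψ, comp_lift, lift_snd, comp_sm, lift_fst_assoc, lift_snd_assoc, Category.id_comp]
    rw [Category.id_comp]
  have hc : ψ.left ((lift n (𝟙 P)).left cp) = ψ.left ((lift (1 : SGA7.Pts kb N) (𝟙 P)).left cp) :=
    (isPreconnected_univ.image ψ.left ψ.left.continuous.continuousOn).subsingleton ⟨_, trivial, rfl⟩ ⟨_, trivial, rfl⟩
  have h1 : (lift (sm aE (n ≫ j) e) (𝟙 P)).left cp = (lift e (𝟙 P)).left cp := by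
    have e1 : lift (1 : SGA7.Pts kb N) (𝟙 P) ≫ ψ = lift e (𝟙 P) := by rw [hval, MonObj.one_comp, sm_one]
    rw [← hval, ← e1]
    exact hc
  have hs : ∀ g : SGA7.Pts kb E, (lift g (𝟙 P)).left ≫ s = 𝟙 _ := fun g =>
    congrArg (fun t => t.left) (lift_snd g (𝟙 P))
  have h2 : (lift (sm aE (n ≫ j) e) (𝟙 P)).left = (lift e (𝟙 P)).left :=
    congrArg Subtype.val ((pointEquivClosedPoint s).injective (a₁ := ⟨_, hs _⟩) (a₂ := ⟨_, hs _⟩) (Subtype.ext h1))
  have h3 := congrArg (· ≫ fst E P) (Over.OverMorphism.ext h2 : lift (sm aE (n ≫ j) e) (𝟙 P) = lift e (𝟙 P))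
  simpa using h3

end Groth.L24.Count

namespace Groth.L24.Count

variable {k : Type u} [Field k] (kb : Type u) [Field kb] [Algebra k kb] [IsAlgClosed kb]

theorem finite_pts_of_isFinite (E : Over (Spec (CommRingCat.of k))) [IsFinite E.hom] :
    Finite (SGA7.Pts kb E) := by
  let P := SGA7.pt (K := k) kb
  let s : (E ⊗ P).left ⟶ Spec (CommRingCat.of kb) := (snd E P).left
  haveI : IsFinite s := MorphismProperty.pullback_snd (P := @IsFinite) E.hom P.hom ‹IsFinite E.hom›
  let cp := IsLocalRing.closedPoint kb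
  haveI : Finite (E ⊗ P).left := by
    haveI : Subsingleton ↥(Spec (CommRingCat.of kb)) := inferInstanceAs (Subsingleton (PrimeSpectrum kb))
    exact Set.finite_univ_iff.1 ((s.finite_preimage_singleton cp).subset fun z _ => Subsingleton.elim (s z) cp)
  have hs : ∀ g : SGA7.Pts kb E, (lift g (𝟙 P)).left ≫ s = 𝟙 _ := fun g =>
    congrArg (fun t => t.left) (lift_snd g (𝟙 P))
  refine Finite.of_injective (fun g : SGA7.Pts kb E => (lift g (𝟙 P)).left cp) fun g g' h => ?_
  have h2 : (lift g (𝟙 P)).left = (lift g' (𝟙 P)).left :=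
    congrArg Subtype.val ((pointEquivClosedPoint s).injective (a₁ := ⟨_, hs _⟩) (a₂ := ⟨_, hs _⟩) (Subtype.ext h))
  have h3 := congrArg (· ≫ fst E P) (Over.OverMorphism.ext h2 : lift g (𝟙 P) = lift g' (𝟙 P))
  simpa using h3

end Groth.L24.Count
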