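import Mathlib.GroupTheory.GroupAction.Quotient
import Mathlib.GroupTheory.Index
import Mathlib.GroupTheory.QuotientGroup.Basic
import Mathlib.Data.Rat.Defs
import Mathlib.Algebra.BigOperators.Ring.Finset
import Mathlib.Tactic.Group
import Mathlib.Algebra.Order.Field.Rat
import Mathlib.Tactic.Push
import Mathlib.Tactic.FieldSimp
import Mathlib.Tactic.Ring

/-! The mass of twisted conjugacy classes of a group extension by a subgroup satisfying Lang's theorem. -/

set_option autoImplicit false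
set_option linter.unusedSectionVars false

universe u

noncomputable section

namespace Groth.L24.Count.Mass

/-- A group acting on itself by twisted conjugation. -/
def Tw {F : Type u} [Group F] (_θ : F →* F) : Type u := F

variable {F : Type u} [Group F] (θ : F →* F)

/-- The identification. -/
def tw : F ≃ Tw θ := Equiv.refl F

instance [Finite F] : Finite (Tw θ) := Finite.of_equiv F (tw θ)

instance : MulAction F (Tw θ) where
  smul g a := tw θ (g * (tw θ).symm a * (θ g)⁻¹)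
  one_smul a := (tw θ).symm.injective (by
    show 1 * (tw θ).symm a * (θ 1)⁻¹ = (tw θ).symm a
    simp)
  mul_smul g h a := (tw θ).symm.injective (by
    show g * h * (tw θ).symm a * (θ (g * h))⁻¹ = g * (h * (tw θ).symm a * (θ h)⁻¹) * (θ g)⁻¹
    rw [map_mul]; group)

theorem smul_tw (g a : F) : g • tw θ a = tw θ (g * a * (θ g)⁻¹) := rfl

/-- Orbit-stabiliser as a weighted mass formula. -/
theorem sum_stabilizer [Finite F] [Fintype F] [Fintype (MulAction.orbitRel.Quotient F (Tw θ))] (φ : F → ℚ)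
    (hφ : ∀ g a : F, φ (g * a * (θ g)⁻¹) = φ a) :
    ∑ ω : MulAction.orbitRel.Quotient F (Tw θ),
      φ ((tw θ).symm ω.out) * ((Nat.card (MulAction.stabilizer F ω.out) : ℚ))⁻¹ =
        (Nat.card F : ℚ)⁻¹ * ∑ a, φ a := by
  classical
  letI : Fintype (Tw θ) := Fintype.ofEquiv F (tw θ)
  letI : ∀ ω : MulAction.orbitRel.Quotient F (Tw θ), Fintype (F ⧸ MulAction.stabilizer F ω.out) :=
    fun ω => Fintype.ofFinite _
  let e := MulAction.selfEquivSigmaOrbitsQuotientStabilizer F (Tw θ)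
  have h1 : ∑ a, φ a = ∑ p : Σ ω : MulAction.orbitRel.Quotient F (Tw θ), F ⧸ MulAction.stabilizer F ω.out,
      φ ((tw θ).symm (e.symm p)) := by
    rw [e.symm.sum_comp (fun a => φ ((tw θ).symm a))]
    exact ((tw θ).symm.sum_comp φ).symm
  have h2 : ∀ (ω : MulAction.orbitRel.Quotient F (Tw θ)) (y : F ⧸ MulAction.stabilizer F ω.out),
      φ ((tw θ).symm (e.symm ⟨ω, y⟩)) = φ ((tw θ).symm ω.out) := fun ω y => by
    induction y using QuotientGroup.induction_on with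
    | H g =>
      show φ ((tw θ).symm (g • ω.out)) = _
      exact hφ g _
  rw [h1, Fintype.sum_sigma]
  simp only [h2, Finset.sum_const, nsmul_eq_mul, Finset.card_univ]
  rw [Finset.mul_sum]
  refine Finset.sum_congr rfl fun ω _ => ?_
  rw [← Nat.card_eq_fintype_card, Subgroup.card_eq_card_quotient_mul_card_subgroup (MulAction.stabilizer F ω.out),
    Nat.cast_mul]
  have hq : (Nat.card (F ⧸ MulAction.stabilizer F ω.out) : ℚ) ≠ 0 := Nat.cast_ne_zero.2 Nat.card_pos.ne'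
  field_simp

/-- The twisted stabiliser. -/
abbrev Fix {G : Type u} [Group G] (π : G →* G) (a : G) : Type u := {g : G // g * a * (π g)⁻¹ = a}

theorem exists_mass_weighted {G : Type u} [Group G] (π : G →* G) (N : Subgroup G) [N.Normal] [Finite (G ⧸ N)]
    (hπ : ∀ x ∈ N, π x ∈ N) (Q : ℕ) (hlang : ∀ (a x : G), x ∈ N → ∃ g ∈ N, g * a * (π g)⁻¹ = x * a)
    (hQ : ∀ a : G, Nat.card {u : N // (u : G) * a * (π u)⁻¹ = a} = Q) :
    ∃ (n : ℕ) (c : Fin n → G), (∀ i j, (∃ g : G, g * c i * (π g)⁻¹ = c j) → i = j) ∧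
      (∀ b, ∃ j, ∃ g : G, g * b * (π g)⁻¹ = c j) ∧
      ∀ [Fintype (G ⧸ N)] (φ : G ⧸ N → ℚ),
        (∀ g a : G, φ ((g * a * (π g)⁻¹ : G) : G ⧸ N) = φ (a : G ⧸ N)) →
          ∑ j, φ (c j : G ⧸ N) * ((Nat.card (Fix π (c j)) : ℚ))⁻¹ =
            (Q : ℚ)⁻¹ * ((Nat.card (G ⧸ N) : ℚ)⁻¹ * ∑ f, φ f) := by
  classical
  let θ : (G ⧸ N) →* (G ⧸ N) := QuotientGroup.map N N π fun x hx => hπ x hx
  haveI : Fintype (MulAction.orbitRel.Quotient (G ⧸ N) (Tw θ)) := Fintype.ofFinite _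
  have hmk : ∀ g a : G, tw θ ((g * a * (π g)⁻¹ : G) : G ⧸ N) = (g : G ⧸ N) • tw θ (a : G ⧸ N) := fun g a => by
    rw [smul_tw]
    rfl
  have hlift : ∀ a b : G, (a : G ⧸ N) = (b : G ⧸ N) → ∃ g ∈ N, g * a * (π g)⁻¹ = b := fun a b e => by
    obtain ⟨g, hg, h⟩ := hlang a (b * a⁻¹) (by
      rw [← QuotientGroup.eq_one_iff, QuotientGroup.mk_mul, QuotientGroup.mk_inv, e, mul_inv_cancel])
    exact ⟨g, hg, by rw [h, inv_mul_cancel_right]⟩
  let rep : MulAction.orbitRel.Quotient (G ⧸ N) (Tw θ) → G := fun ω => ((tw θ).symm ω.out).out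
  have hrep : ∀ ω, tw θ (rep ω : G ⧸ N) = ω.out := fun ω => by
    rw [show ((rep ω : G) : G ⧸ N) = (tw θ).symm ω.out from Quotient.out_eq _, Equiv.apply_symm_apply]
  have hcard : ∀ ω, Nat.card (Fix π (rep ω)) =
      Nat.card (MulAction.stabilizer (G ⧸ N) ω.out) * Q := fun ω => by
    set a := rep ω with ha
    rw [← hQ a, ← Nat.card_prod]
    have hsur : ∀ f : MulAction.stabilizer (G ⧸ N) ω.out, ∃ g : Fix π a, ((g.1 : G) : G ⧸ N) = f.1 := by
      rintro ⟨f, hf⟩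
      obtain ⟨g, rfl⟩ := QuotientGroup.mk_surjective f
      rw [MulAction.mem_stabilizer_iff, ← hrep, ← hmk] at hf
      obtain ⟨g', hg'N, hg'⟩ := hlift _ _ ((tw θ).injective hf)
      refine ⟨⟨g' * g, ?_⟩, ?_⟩
      · rw [map_mul]
        refine Eq.trans ?_ hg'
        simp only [ha]
        group
      · show ((g' * g : G) : G ⧸ N) = g
        rw [QuotientGroup.mk_mul, (QuotientGroup.eq_one_iff _).2 hg'N, one_mul]
    choose s hs using hsur
    have hmul : ∀ g h : G, g * a * (π g)⁻¹ = a → h * a * (π h)⁻¹ = a → (g * h) * a * (π (g * h))⁻¹ = a :=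
      fun g h hg hh => by
        rw [map_mul, show g * h * a * (π g * π h)⁻¹ = g * (h * a * (π h)⁻¹) * (π g)⁻¹ by group, hh, hg]
    refine (Nat.card_congr (Equiv.ofBijective
      (fun p : MulAction.stabilizer (G ⧸ N) ω.out × {u : N // (u : G) * a * (π u)⁻¹ = a} =>
        (⟨(p.2.1 : G) * (s p.1).1, hmul _ _ p.2.2 (s p.1).2⟩ : Fix π a)) ⟨?_, ?_⟩)).symm
    · rintro ⟨f, u⟩ ⟨f', u'⟩ e
      have e' := congrArg Subtype.val e
      have ef := congrArg (fun y : G => (y : G ⧸ N)) e'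
      simp only [QuotientGroup.mk_mul, (QuotientGroup.eq_one_iff _).2 u.1.2,
        (QuotientGroup.eq_one_iff _).2 u'.1.2, one_mul, hs] at ef
      obtain rfl : f = f' := Subtype.ext ef
      obtain rfl : u = u' := Subtype.ext (Subtype.ext (mul_right_cancel e'))
      rfl
    · intro g
      have hf : ((g.1 : G) : G ⧸ N) ∈ MulAction.stabilizer (G ⧸ N) ω.out := by
        rw [MulAction.mem_stabilizer_iff, ← hrep, ← hmk]
        exact congrArg (fun y : G => tw θ (y : G ⧸ N)) g.2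
      have hu : g.1 * (s ⟨_, hf⟩).1⁻¹ ∈ N := by
        rw [← QuotientGroup.eq_one_iff, QuotientGroup.mk_mul, QuotientGroup.mk_inv, hs, mul_inv_cancel]
      refine ⟨⟨⟨_, hf⟩, ⟨⟨_, hu⟩, ?_⟩⟩, Subtype.ext (by simp)⟩
      show g.1 * (s ⟨_, hf⟩).1⁻¹ * a * (π (g.1 * (s ⟨_, hf⟩).1⁻¹))⁻¹ = a
      refine hmul _ _ g.2 ?_
      conv_lhs => arg 1; arg 2; rw [← (s ⟨_, hf⟩).2]
      rw [map_inv]
      group
  let e := Fintype.equivFin (MulAction.orbitRel.Quotient (G ⧸ N) (Tw θ))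
  refine ⟨_, fun i => rep (e.symm i), fun i l hil => ?_, fun b => ⟨e (Quotient.mk'' (tw θ (b : G ⧸ N))), ?_⟩, ?_⟩
  · obtain ⟨g, hg⟩ := hil
    refine e.symm.injective ?_
    rw [← (e.symm i).out_eq, ← (e.symm l).out_eq]
    refine (Quotient.sound ?_).symm
    exact ⟨(g : G ⧸ N), by
      rw [← hrep, ← hrep]
      exact (hmk g _).symm.trans (congrArg (fun y : G => tw θ (y : G ⧸ N)) hg)⟩
  · show ∃ g : G, g * b * (π g)⁻¹ = rep (e.symm (e (Quotient.mk'' (tw θ (b : G ⧸ N)))))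
    rw [e.symm_apply_apply]
    set ω : MulAction.orbitRel.Quotient (G ⧸ N) (Tw θ) := Quotient.mk'' (tw θ (b : G ⧸ N)) with hω
    obtain ⟨f, hf⟩ : MulAction.orbitRel (G ⧸ N) (Tw θ) ω.out (tw θ (b : G ⧸ N)) :=
      Quotient.mk_out (s := MulAction.orbitRel (G ⧸ N) (Tw θ)) (tw θ (b : G ⧸ N))
    obtain ⟨g, rfl⟩ := QuotientGroup.mk_surjective f
    change (g : G ⧸ N) • tw θ (b : G ⧸ N) = ω.out at hf
    rw [← hmk, ← hrep] at hf
    obtain ⟨g', -, hg'⟩ := hlift _ _ ((tw θ).injective hf)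
    exact ⟨g' * g, by rw [map_mul, ← hg']; group⟩
  · intro _ φ hφ
    have hφ' : ∀ f a : G ⧸ N, φ (f * a * (θ f)⁻¹) = φ a := by
      intro f a
      obtain ⟨g, rfl⟩ := QuotientGroup.mk_surjective f
      obtain ⟨a, rfl⟩ := QuotientGroup.mk_surjective a
      exact hφ g a
    rw [← sum_stabilizer θ φ hφ', Finset.mul_sum, ← e.sum_comp]
    refine Finset.sum_congr rfl fun ω _ => ?_
    simp only [Equiv.symm_apply_apply, hcard, Nat.cast_mul, mul_inv]
    rw [show ((rep ω : G) : G ⧸ N) = (tw θ).symm ω.out from Quotient.out_eq _]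
    ring

theorem exists_mass {G : Type u} [Group G] (π : G →* G) (N : Subgroup G) [N.Normal] [Finite (G ⧸ N)]
    (hπ : ∀ x ∈ N, π x ∈ N) (Q : ℕ) (hlang : ∀ (a x : G), x ∈ N → ∃ g ∈ N, g * a * (π g)⁻¹ = x * a)
    (hQ : ∀ a : G, Nat.card {u : N // (u : G) * a * (π u)⁻¹ = a} = Q) :
    ∃ (n : ℕ) (c : Fin n → G), (∀ i j, (∃ g : G, g * c i * (π g)⁻¹ = c j) → i = j) ∧
      (∀ b, ∃ j, ∃ g : G, g * b * (π g)⁻¹ = c j) ∧ ∑ j, ((Nat.card (Fix π (c j)) : ℚ))⁻¹ = (Q : ℚ)⁻¹ := by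
  obtain ⟨n, c, h1, h2, h3⟩ := exists_mass_weighted π N hπ Q hlang hQ
  letI := Fintype.ofFinite (G ⧸ N)
  refine ⟨n, c, h1, h2, ?_⟩
  have := h3 (fun _ => 1) fun _ _ => rfl
  simp only [one_mul, Finset.sum_const, Finset.card_univ, nsmul_eq_mul, mul_one, ← Nat.card_eq_fintype_card] at this
  rwa [inv_mul_cancel₀ (Nat.cast_ne_zero.2 Nat.card_pos.ne'), mul_one] at this

/-- Twisted fixed points of a finite set, averaged over the group, count the stable orbits. -/
theorem sum_fixed [Fintype F] {Ω : Type u} [Finite Ω] [MulAction F Ω] (τ : Ω → Ω) (hτ : ∀ (g : F) e, τ (g • e) = θ g • τ e)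
    {J : Type*} [Fintype J] (x : J → Ω) (hdis : ∀ i j, (∃ g : F, g • x i = x j) → i = j)
    (hfix : ∀ j, ∃ b : F, b • τ (x j) = x j)
    (hall : ∀ (e : Ω), (∃ b : F, b • τ e = e) → ∃ (j : J) (g : F), g • x j = e) :
    (∑ f : F, (Nat.card {e : Ω // f • τ e = e} : ℚ)) = (Fintype.card J : ℚ) * (Nat.card F : ℚ) := by
  classical
  letI := Fintype.ofFinite Ω
  choose b hb using hfix
  let g : ∀ j, MulAction.orbit F (x j) → F := fun j y => (MulAction.mem_orbit_iff.1 y.2).choose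
  have hg : ∀ j y, g j y • x j = (y : Ω) := fun j y => (MulAction.mem_orbit_iff.1 y.2).choose_spec
  let Φ : (Σ j, MulAction.orbit F (x j) × MulAction.stabilizer F (x j)) → Σ f : F, {e : Ω // f • τ e = e} :=
    fun p => ⟨g p.1 p.2.1 * p.2.2.1 * b p.1 * (θ (g p.1 p.2.1))⁻¹, (p.2.1 : Ω), by
      conv_lhs => arg 2; rw [← hg p.1 p.2.1, hτ]
      simp only [mul_smul, inv_smul_smul, hb]
      rw [MulAction.mem_stabilizer_iff.1 p.2.2.2, hg]⟩
  have hΦ : Function.Bijective Φ := by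
    constructor
    · rintro ⟨j, y, h⟩ ⟨j', y', h'⟩ e
      simp only [Φ, Sigma.mk.injEq] at e
      obtain ⟨e1, e2⟩ := e
      have ey : (y : Ω) = y' := by
        have := congrArg (fun p : Σ f : F, {e : Ω // f • τ e = e} => p.2.1)
          (show Φ ⟨j, y, h⟩ = Φ ⟨j', y', h'⟩ from Sigma.ext e1 e2)
        exact this
      obtain rfl : j = j' := hdis j j' ⟨(g j' y')⁻¹ * g j y, by rw [mul_smul, hg, ey, ← hg j' y', inv_smul_smul]⟩
      obtain rfl : y = y' := Subtype.ext ey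
      obtain rfl : h = h' := Subtype.ext (mul_left_cancel (mul_right_cancel (mul_right_cancel e1)))
      rfl
    · rintro ⟨f, e, he⟩
      obtain ⟨j, g₀, hg₀⟩ := hall e ⟨f, he⟩
      let y : MulAction.orbit F (x j) := ⟨e, g₀, hg₀⟩
      have hh : (g j y)⁻¹ * f * θ (g j y) * (b j)⁻¹ ∈ MulAction.stabilizer F (x j) := by
        rw [MulAction.mem_stabilizer_iff]
        conv_lhs => arg 2; rw [← hb j]
        rw [mul_smul, inv_smul_smul, mul_smul, ← hτ, hg, mul_smul, he, inv_smul_eq_iff, hg]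
      refine ⟨⟨j, y, ⟨_, hh⟩⟩, ?_⟩
      have hf : g j y * ((g j y)⁻¹ * f * θ (g j y) * (b j)⁻¹) * b j * (θ (g j y))⁻¹ = f := by group
      refine Sigma.ext hf ?_
      refine (Subtype.heq_iff_coe_eq fun e' => ?_).2 rfl
      show _ ↔ f • τ e' = e'
      show (g j y * ((g j y)⁻¹ * f * θ (g j y) * (b j)⁻¹) * b j * (θ (g j y))⁻¹) • τ e' = e' ↔ _
      rw [hf]
  have hc := Nat.card_congr (Equiv.ofBijective Φ hΦ)
  rw [Nat.card_sigma, Nat.card_sigma, Finset.sum_congr rfl (g := fun _ => Nat.card F) (fun j _ =>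
    Nat.card_congr (MulAction.orbitProdStabilizerEquivGroup F (x j))), Finset.sum_const, Finset.card_univ,
    smul_eq_mul] at hc
  rw [← Nat.cast_mul, hc, Nat.cast_sum]

end Groth.L24.Count.Mass
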