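import Groth.Agent.L24.Count.Reps
import Groth.Agent.L24.Count.MassGroup
import Groth.Agent.L24.Count.FinAct

/-! The point count of the classifying stack of a finite group scheme over a finite field. -/

set_option autoImplicit false
set_option backward.isDefEq.respectTransparency.types false
set_option linter.style.haveILetI false

universe u

open CategoryTheory MonoidalCategory CartesianMonoidalCategory MonObj AlgebraicGeometry

noncomputable section

namespace Groth.L24.Count

theorem count_eq_one_of_finite {k : Type u} [Field k] [Finite k] {G X : Over (Spec (CommRingCat.of k))} [GrpObj G]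
    [IsFinite G.hom] [IsIso X.hom] (aX : AlgGrp.Action G X) (h : StkCnt.IsEssFinite (Obj aX)) :
    StkCnt.count (Obj aX) h = 1 := by
  classical
  let kb := AlgebraicClosure k
  haveI : IsAlgClosed kb := IsAlgClosure.isAlgClosed k
  haveI : LocallyOfFiniteType G.hom := inferInstance
  haveI := finite_pts_of_isFinite kb G
  haveI : ∀ T : Over (Spec (CommRingCat.of k)), Subsingleton (T ⟶ X) := fun T =>
    ⟨fun a b => Over.OverMorphism.ext ((cancel_mono X.hom).1 ((Over.w a).trans (Over.w b).symm))⟩
  let sig : SGA7.Pts kb G →* SGA7.Pts kb G :=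
    MonoidHom.mk' (fun y => frob k kb • y) fun a b => smul_mul' (frob k kb) a b
  obtain ⟨n, c, h1, h2, h3⟩ := Mass.exists_mass sig ⊥ (fun x hx => by
      rw [Subgroup.mem_bot] at hx ⊢
      subst hx
      exact map_one sig) 1
    (fun a x hx => ⟨1, one_mem _, by rw [Subgroup.mem_bot] at hx; subst hx; simp⟩)
    (fun a => by
      haveI : Nonempty {u : (⊥ : Subgroup (SGA7.Pts kb G)) // (u : SGA7.Pts kb G) * a * (sig u)⁻¹ = a} :=
        ⟨⟨1, by simp⟩⟩
      exact Nat.card_of_subsingleton ⟨1, by simp⟩)
  rw [count_eq_sum' (kb := kb) aX h c h1 fun b _ => h2 b]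
  refine Eq.trans ?_ (h3.trans (by norm_num))
  refine Finset.sum_congr rfl fun j _ => ?_
  haveI : Nonempty (XFix aX (c j)) :=
    ⟨⟨Over.homMk ((SGA7.pt (K := k) kb).hom ≫ inv X.hom) (by simp), Subsingleton.elim _ _⟩⟩
  rw [Nat.card_unique, Nat.cast_one, one_div]
  rfl

end Groth.L24.Count
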