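import Groth.Prelude.Def_AlgSt5
import Groth.Prelude.Def_StkCnt
import Groth.Prelude.Def_ActBC
import Groth.Agent.L11.Magnet.BaseChange
import Groth.Agent.L24.Count.Tors
import Mathlib.CategoryTheory.FiberedCategory.Fiber

/-! The fibre of a quotient stack over a scheme which lives over another base. -/

set_option autoImplicit false
set_option linter.style.haveILetI false
set_option linter.unusedSectionVars false
set_option backward.isDefEq.respectTransparency false
set_option backward.isDefEq.respectTransparency.types false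

universe u

open CategoryTheory CategoryTheory.Limits MonoidalCategory CartesianMonoidalCategory MonObj AlgebraicGeometry
open Groth.L11.Magnet (tensorMapIso tensorMapIso_hom_lift)

noncomputable section

namespace Groth.L24.Count.BaseField

variable {S S' : Scheme.{u}} (f : S' ⟶ S) {G X : Over S} [GrpObj G]

local notation "hE" => Adjunction.homEquiv (Over.mapPullbackAdj f)

/-- The projection formula for the group. -/
def tmi (G : Over S) (P' : Over S') : (Over.map f).obj (Red.bc f G ⊗ P') ≅ G ⊗ (Over.map f).obj P' :=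
  tensorMapIso (Over.mk f) P' G

theorem map_lift_tmi {Z P' : Over S'} (y : (Over.map f).obj Z ⟶ G) (t : Z ⟶ P') :
    (Over.map f).map (lift (hE Z G y) t) ≫ (tmi f G P').hom = lift y ((Over.map f).map t) :=
  tensorMapIso_hom_lift (Over.mk f) P' y t

theorem tmi_hom_snd (P' : Over S') :
    (tmi f G P').hom ≫ snd G ((Over.map f).obj P') = (Over.map f).map (snd _ _) := by
  have h := map_lift_tmi f ((hE _ G).symm (fst (Red.bc f G) P')) (snd (Red.bc f G) P')
  rw [Equiv.apply_symm_apply, lift_fst_snd, (Over.map f).map_id, Category.id_comp] at h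
  rw [h, lift_snd]

theorem tmi_natural {P' Q' : Over S'} (t : P' ⟶ Q') :
    (Over.map f).map (Red.bc f G ◁ t) ≫ (tmi f G Q').hom = (tmi f G P').hom ≫ (G ◁ (Over.map f).map t) := by
  let y := (hE _ G).symm (fst (Red.bc f G) P')
  have e : Red.bc f G ◁ t = lift (hE _ G y) (snd (Red.bc f G) P' ≫ t) := by
    rw [show hE _ G y = fst (Red.bc f G) P' from Equiv.apply_symm_apply _ _]
    apply CartesianMonoidalCategory.hom_ext <;> simp
  have e0 : (tmi f G P').hom = lift y ((Over.map f).map (snd (Red.bc f G) P')) := by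
    have h := map_lift_tmi f y (snd (Red.bc f G) P')
    rwa [show hE _ G y = fst (Red.bc f G) P' from Equiv.apply_symm_apply _ _, lift_fst_snd,
      (Over.map f).map_id, Category.id_comp] at h
  rw [e, map_lift_tmi, e0, lift_whiskerLeft, Functor.map_comp]

/-- Two morphisms `act` and `act'` correspond. -/
def Rel {P' : Over S'} (act : G ⊗ (Over.map f).obj P' ⟶ (Over.map f).obj P') (act' : Red.bc f G ⊗ P' ⟶ P') : Prop :=
  (Over.map f).map act' = (tmi f G P').hom ≫ act

theorem map_inj {Z W : Over S'} {u v : Z ⟶ W} (h : (Over.map f).map u = (Over.map f).map v) : u = v :=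
  Over.OverMorphism.ext (congrArg (fun m : (Over.map f).obj Z ⟶ (Over.map f).obj W => m.left) h :)

variable {f}

theorem Rel.pts {P' : Over S'} {act : G ⊗ (Over.map f).obj P' ⟶ (Over.map f).obj P'} {act' : Red.bc f G ⊗ P' ⟶ P'}
    (h : Rel f act act') {Z : Over S'} (g : (Over.map f).obj Z ⟶ G) (x : Z ⟶ P') :
    (Over.map f).map (lift (hE Z G g) x ≫ act') = lift g ((Over.map f).map x) ≫ act := by
  rw [Functor.map_comp, h, ← Category.assoc, map_lift_tmi]

theorem exists_action {S₀ : Scheme.{u}} {H P : Over S₀} [GrpObj H] (act : H ⊗ P ⟶ P)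
    (h1 : ∀ (T : Over S₀) (x : T ⟶ P), lift (1 : T ⟶ H) x ≫ act = x)
    (h2 : ∀ (T : Over S₀) (g h : T ⟶ H) (x : T ⟶ P),
      lift (g * h) x ≫ act = lift g (lift h x ≫ act) ≫ act) :
    ∃ a : AlgGrp.Action H P, a.act = act := by
  refine ⟨⟨act, ?_, ?_⟩, rfl⟩
  · rw [show η[H] ▷ P = lift (1 : 𝟙_ _ ⊗ P ⟶ H) (λ_ P).hom from ?_, h1]
    apply CartesianMonoidalCategory.hom_ext
    · rw [whiskerRight_fst, lift_fst, Hom.one_def, toUnit_unique (fst _ _) (toUnit _)]
    · rw [whiskerRight_snd, lift_snd, leftUnitor_hom]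
  · have e1 : μ[H] ▷ P = lift ((fst (H ⊗ H) P ≫ fst H H) * (fst (H ⊗ H) P ≫ snd H H)) (snd (H ⊗ H) P) := by
      apply CartesianMonoidalCategory.hom_ext
      · rw [whiskerRight_fst, lift_fst, Hom.mul_def, ← comp_lift, lift_fst_snd, Category.comp_id]
      · rw [whiskerRight_snd, lift_snd]
    have e2 : (α_ H H P).hom ≫ (H ◁ act) ≫ act = lift (fst (H ⊗ H) P ≫ fst H H)
        (lift (fst (H ⊗ H) P ≫ snd H H) (snd (H ⊗ H) P) ≫ act) ≫ act := by
      rw [← Category.assoc]
      congr 1
      apply CartesianMonoidalCategory.hom_ext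
      · simp
      · simp only [Category.assoc, whiskerLeft_snd, lift_snd]
        rw [← Category.assoc]
        congr 1
        apply CartesianMonoidalCategory.hom_ext <;> simp
    rw [e1, e2, h2]

theorem hE_one (Z : Over S') : hE Z G 1 = 1 := by
  have h := AlgGrp.Action.homEquiv_mul f (1 : (Over.map f).obj Z ⟶ G) 1
  rw [_root_.one_mul] at h
  exact mul_eq_left.1 h.symm

theorem exists_up {P' : Over S'} (a : AlgGrp.Action G ((Over.map f).obj P'))
    (hover : ((tmi f G P').hom ≫ a.act).left ≫ P'.hom = (Red.bc f G ⊗ P').hom) :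
    ∃ a' : AlgGrp.Action (Red.bc f G) P', Rel f a.act a'.act := by
  let act' : Red.bc f G ⊗ P' ⟶ P' := Over.homMk ((tmi f G P').hom ≫ a.act).left hover
  have hR : Rel f a.act act' := Over.OverMorphism.ext rfl
  obtain ⟨a', ha'⟩ := exists_action act' (fun T x => map_inj f (by
      rw [← hE_one, hR.pts]
      exact sm_one a _)) (fun T g h x => map_inj f (by
      obtain ⟨g, rfl⟩ := (hE T G).surjective g
      obtain ⟨h, rfl⟩ := (hE T G).surjective h
      rw [← AlgGrp.Action.homEquiv_mul, hR.pts, hR.pts, hR.pts]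
      exact sm_mul a g h _))
  exact ⟨a', ha' ▸ hR⟩

theorem exists_down {P' : Over S'} (a' : AlgGrp.Action (Red.bc f G) P') :
    ∃ a : AlgGrp.Action G ((Over.map f).obj P'), Rel f a.act a'.act := by
  let act : G ⊗ (Over.map f).obj P' ⟶ (Over.map f).obj P' := (tmi f G P').inv ≫ (Over.map f).map a'.act
  have hR : Rel f act a'.act := by simp only [Rel, act, Iso.hom_inv_id_assoc]
  have hZ : ∀ (T : Over S) (x : T ⟶ (Over.map f).obj P'), ∃ (Z : Over S') (i : (Over.map f).obj Z ⟶ T)
      (x' : Z ⟶ P'), IsIso i ∧ (Over.map f).map x' = i ≫ x := fun T x => by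
    let Z : Over S' := Over.mk (x.left ≫ P'.hom)
    let i : (Over.map f).obj Z ≅ T := Over.isoMk (Iso.refl _) (by
      show 𝟙 _ ≫ T.hom = (x.left ≫ P'.hom) ≫ f
      rw [Category.id_comp, Category.assoc]
      exact (Over.w x).symm)
    exact ⟨Z, i.hom, Over.homMk x.left rfl, inferInstance, Over.OverMorphism.ext (Category.id_comp _).symm⟩
  obtain ⟨a, ha⟩ := exists_action act (fun T x => by
      obtain ⟨Z, i, x', _, hx⟩ := hZ T x
      rw [← cancel_epi i, ← Category.assoc, comp_lift, MonObj.comp_one, ← hx, ← hR.pts, hE_one]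
      exact congrArg (Over.map f).map (sm_one a' x')) (fun T g h x => by
      obtain ⟨Z, i, x', _, hx⟩ := hZ T x
      have e : lift (i ≫ h) (i ≫ x) ≫ act = (Over.map f).map (lift (hE Z G (i ≫ h)) x' ≫ a'.act) := by
        rw [hR.pts, hx]
      have l : ∀ (p : T ⟶ G) (y : T ⟶ (Over.map f).obj P'), i ≫ lift p y ≫ act = lift (i ≫ p) (i ≫ y) ≫ act :=
        fun p y => (Category.assoc _ _ _).symm.trans (congrArg (· ≫ act) (comp_lift _ _ _))
      rw [← cancel_epi i, l, l, l, MonObj.comp_mul, e, ← hx, ← hR.pts, ← hR.pts, AlgGrp.Action.homEquiv_mul]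
      exact congrArg (Over.map f).map (sm_mul a' _ _ x'))
  exact ⟨a, ha ▸ hR⟩

theorem equivariant_iff {P' Q' : Over S'} {a : G ⊗ (Over.map f).obj P' ⟶ (Over.map f).obj P'}
    {a' : Red.bc f G ⊗ P' ⟶ P'} {b : G ⊗ (Over.map f).obj Q' ⟶ (Over.map f).obj Q'} {b' : Red.bc f G ⊗ Q' ⟶ Q'}
    (ha : Rel f a a') (hb : Rel f b b') (t : P' ⟶ Q') :
    a' ≫ t = (Red.bc f G ◁ t) ≫ b' ↔ a ≫ (Over.map f).map t = (G ◁ (Over.map f).map t) ≫ b := by
  rw [show a' ≫ t = (Red.bc f G ◁ t) ≫ b' ↔ (Over.map f).map (a' ≫ t) = (Over.map f).map ((Red.bc f G ◁ t) ≫ b') from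
    ⟨congrArg _, map_inj f⟩, Functor.map_comp, Functor.map_comp, ha, hb, Category.assoc,
    ← Category.assoc ((Over.map f).map (Red.bc f G ◁ t)), tmi_natural, Category.assoc, cancel_epi]

theorem eqv_iff (aX : AlgGrp.Action G X) {P' : Over S'} {a : G ⊗ (Over.map f).obj P' ⟶ (Over.map f).obj P'}
    {a' : Red.bc f G ⊗ P' ⟶ P'} (ha : Rel f a a') (φ : (Over.map f).obj P' ⟶ X) :
    a' ≫ hE P' X φ = (Red.bc f G ◁ hE P' X φ) ≫ (aX.bc f).act ↔ a ≫ φ = (G ◁ φ) ≫ aX.act := by
  let y := (hE _ G).symm (fst (Red.bc f G) P')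
  have hy : hE _ G y = fst (Red.bc f G) P' := Equiv.apply_symm_apply _ _
  have e : Red.bc f G ◁ hE P' X φ = lift (hE _ G y) (hE _ X ((Over.map f).map (snd (Red.bc f G) P') ≫ φ)) := by
    rw [hy, Adjunction.homEquiv_naturality_left]
    apply CartesianMonoidalCategory.hom_ext <;> simp
  have e0 : (tmi f G P').hom = lift y ((Over.map f).map (snd (Red.bc f G) P')) := by
    have h := map_lift_tmi f y (snd (Red.bc f G) P')
    rwa [hy, lift_fst_snd, (Over.map f).map_id, Category.id_comp] at h
  rw [e, AlgGrp.Action.lift_homEquiv_bc_act, ← Adjunction.homEquiv_naturality_left, (hE _ X).injective.eq_iff, ha,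
    Category.assoc, show lift y ((Over.map f).map (snd (Red.bc f G) P') ≫ φ) = (tmi f G P').hom ≫ (G ◁ φ) from by
      rw [e0, lift_whiskerLeft], Category.assoc, cancel_epi]

theorem isPullback_iff {P' B' : Over S'} {B : Over S} (e : (Over.map f).obj B' ≅ B)
    {a : G ⊗ (Over.map f).obj P' ⟶ (Over.map f).obj P'} {a' : Red.bc f G ⊗ P' ⟶ P'} (ha : Rel f a a') (π : P' ⟶ B') :
    IsPullback a' (snd (Red.bc f G) P') π π ↔
      IsPullback a (snd G _) ((Over.map f).map π ≫ e.hom) ((Over.map f).map π ≫ e.hom) := by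
  haveI : IsIso (tmi f G P').hom.left := inferInstanceAs (IsIso ((Over.forget _).map (tmi f G P').hom))
  haveI : IsIso e.hom.left := inferInstanceAs (IsIso ((Over.forget _).map e.hom))
  have h1 : a'.left = (tmi f G P').hom.left ≫ a.left := congrArg (fun m => m.left) ha
  have h2 : (snd (Red.bc f G) P').left = (tmi f G P').hom.left ≫ (snd G ((Over.map f).obj P')).left :=
    (congrArg (fun m => m.left) (tmi_hom_snd (G := G) f P')).symm
  have key : IsPullback a'.left (snd (Red.bc f G) P').left π.left π.left ↔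
      IsPullback a.left (snd G ((Over.map f).obj P')).left (π.left ≫ e.hom.left) (π.left ≫ e.hom.left) := by
    constructor
    · intro h
      exact h.of_iso (asIso (tmi f G P').hom.left) (Iso.refl _) (Iso.refl _) (asIso e.hom.left)
        (by simpa using h1) (by simpa using h2) (by simp) (by simp)
    · intro h
      exact h.of_iso (asIso (tmi f G P').hom.left).symm (Iso.refl _) (Iso.refl _) (asIso e.hom.left).symm
        (by simp [h1]) (by simp [h2]) (by simp) (by simp)
  constructor
  · intro h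
    exact IsPullback.of_map (Over.forget S) (by rw [← cancel_epi (tmi f G P').hom, ← Category.assoc, ← ha, ← Category.assoc (tmi f G P').hom (snd _ _), tmi_hom_snd, ← Category.assoc, ← Category.assoc, ← Functor.map_comp, ← Functor.map_comp, h.w])
      (key.1 (h.map (Over.forget S')))
  · intro h
    exact IsPullback.of_map (Over.forget S') (Over.OverMorphism.ext (key.2 (h.map (Over.forget S))).w)
      (key.2 (h.map (Over.forget S)))

/-! ### The comparison functor -/

variable {K : Precoverage Scheme.{u}} {aX : AlgGrp.Action G X} {B' : Over S'} {B : Over S}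

theorem base_eq {S₀ : Scheme.{u}} {H Y T : Over S₀} [GrpObj H] {aY : AlgGrp.Action H Y}
    {a b : (AlgSt.QuotObj.forget K H aY).Fiber T} (u : a ⟶ b) : u.1.base = eqToHom (a.2.trans b.2.symm) := by
  haveI : Functor.IsHomLift (AlgSt.QuotObj.forget K H aY) (𝟙 T) u.1 := u.2
  have h := IsHomLift.fac' (AlgSt.QuotObj.forget K H aY) (𝟙 T) u.1
  simp at h
  exact h

/-- A morphism of a fibre from an isomorphism of the total spaces. -/
def mkFib {S₀ : Scheme.{u}} {H Y T : Over S₀} [GrpObj H] {aY : AlgGrp.Action H Y}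
    {a b : (AlgSt.QuotObj.forget K H aY).Fiber T} (top : a.1.P ⟶ b.1.P) [IsIso top]
    (he : a.1.act.act ≫ top = (H ◁ top) ≫ b.1.act.act) (hπ : top ≫ b.1.π = a.1.π ≫ eqToHom (a.2.trans b.2.symm))
    (hφ : top ≫ b.1.φ = a.1.φ) : a ⟶ b :=
  ⟨{ base := eqToHom (a.2.trans b.2.symm)
     top := top
     eqv := he
     cart := IsPullback.of_horiz_isIso ⟨hπ⟩
     wφ := hφ },
    IsHomLift.of_fac _ _ _ a.2 b.2 (by
      show 𝟙 T = eqToHom a.2.symm ≫ eqToHom (a.2.trans b.2.symm) ≫ eqToHom b.2
      simp)⟩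

theorem fib_ext {S₀ : Scheme.{u}} {H Y T : Over S₀} [GrpObj H] {aY : AlgGrp.Action H Y}
    {a b : (AlgSt.QuotObj.forget K H aY).Fiber T} {u v : a ⟶ b} (h : u.1.top = v.1.top) : u = v :=
  Subtype.ext (AlgSt.QuotObj.hom_ext ((base_eq u).trans (base_eq v).symm) h)

theorem isIso_fib_top {S₀ : Scheme.{u}} {H Y T : Over S₀} [GrpObj H] {aY : AlgGrp.Action H Y}
    {a b : (AlgSt.QuotObj.forget K H aY).Fiber T} (u : a ⟶ b) : IsIso u.1.top := by
  haveI : IsIso u.1.base := by rw [base_eq u]; infer_instance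
  exact u.1.cart.isIso_fst_of_isIso

variable (e : (Over.map f).obj B' ≅ B)

/-- The structure map of the total space of an object over the other base. -/
def πB (A : (AlgSt.QuotObj.forget K (Red.bc f G) (aX.bc f)).Fiber B') : A.1.P ⟶ B' := A.1.π ≫ eqToHom A.2

theorem cart_πB (A : (AlgSt.QuotObj.forget K (Red.bc f G) (aX.bc f)).Fiber B') :
    IsPullback A.1.act.act (snd (Red.bc f G) A.1.P) (πB A) (πB A) :=
  A.1.cart.of_iso (Iso.refl _) (Iso.refl _) (Iso.refl _) (eqToIso A.2) (by simp) (by simp) (by simp [πB]) (by simp [πB])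

/-- The action of the total space regarded over the small base. -/
def actD (A : (AlgSt.QuotObj.forget K (Red.bc f G) (aX.bc f)).Fiber B') :
    AlgGrp.Action G ((Over.map f).obj A.1.P) := (exists_down A.1.act).choose

theorem rel_actD (A : (AlgSt.QuotObj.forget K (Red.bc f G) (aX.bc f)).Fiber B') :
    Rel f (actD A).act A.1.act.act := (exists_down A.1.act).choose_spec

end Groth.L24.Count.BaseField
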