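import Groth.Agent.L24.Count.BaseField

/-! The comparison functor of the fibres over two bases is an equivalence; counts agree. -/

set_option autoImplicit false
set_option linter.style.haveILetI false
set_option linter.unusedSectionVars false
set_option backward.isDefEq.respectTransparency false
set_option backward.isDefEq.respectTransparency.types false
set_option maxHeartbeats 1000000

universe u

open CategoryTheory CategoryTheory.Limits MonoidalCategory CartesianMonoidalCategory MonObj AlgebraicGeometry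

noncomputable section

namespace Groth.L24.Count.BaseField

variable {S S' : Scheme.{u}} (f : S' ⟶ S) {G X : Over S} [GrpObj G] (K : Precoverage Scheme.{u})
  (aX : AlgGrp.Action G X) {B' : Over S'} {B : Over S} (e : (Over.map f).obj B' ≅ B)

local notation "hE" => Adjunction.homEquiv (Over.mapPullbackAdj f)

/-- The fibre over the bigger base. -/
abbrev Fib' (B' : Over S') : Type (u + 1) := (AlgSt.QuotObj.forget K (Red.bc f G) (aX.bc f)).Fiber B'

/-- The fibre over the base. -/
abbrev Fib₀ (B : Over S) : Type (u + 1) := (AlgSt.QuotObj.forget K G aX).Fiber B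

variable [K.HasIsos] [K.IsStableUnderBaseChange]

theorem loc_of_comp {T T' P : Scheme.{u}} (π : P ⟶ T) (e : T ≅ T')
    (h : NonAbH1.IsLocallyTrivialFor K (Over.mk π : Over T)) :
    NonAbH1.IsLocallyTrivialFor K (Over.mk (π ≫ e.hom) : Over T') := by
  obtain ⟨R, hR, hsec⟩ := h
  refine ⟨R.pullbackArrows e.inv, Precoverage.pullbackArrows_mem e.inv hR, ?_⟩
  rintro Z g ⟨Z', v, hv⟩
  obtain ⟨s, hs⟩ := hsec v hv
  change s ≫ π = v at hs
  refine ⟨pullback.fst v e.inv ≫ s, ?_⟩
  show (pullback.fst v e.inv ≫ s) ≫ π ≫ e.hom = pullback.snd v e.inv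
  rw [Category.assoc, ← Category.assoc s, hs, ← Category.assoc, pullback.condition, Category.assoc, Iso.inv_hom_id,
    Category.comp_id]

variable {f K aX}

theorem loc_down (A : Fib' f K aX B') :
    NonAbH1.IsLocallyTrivialFor K (Over.mk ((Over.map f).map (πB A) ≫ e.hom).left : Over B.left) := by
  haveI : IsIso e.hom.left := inferInstanceAs (IsIso ((Over.forget _).map e.hom))
  haveI : IsIso (eqToHom A.2).left := inferInstanceAs (IsIso ((Over.forget _).map (eqToHom A.2)))
  have h := loc_of_comp K A.1.π.left (asIso (eqToHom A.2).left ≪≫ asIso e.hom.left) A.1.loc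
  have h2 : A.1.π.left ≫ (asIso (eqToHom A.2).left ≪≫ asIso e.hom.left).hom = ((Over.map f).map (πB A) ≫ e.hom).left :=
    (Category.assoc _ _ _).symm
  rwa [h2] at h

/-- The object over the small base. -/
def D (A : Fib' f K aX B') : Fib₀ K aX B :=
  Functor.Fiber.mk (p := AlgSt.QuotObj.forget K G aX)
    (a :=
      { base := B
        P := (Over.map f).obj A.1.P
        act := actD A
        π := (Over.map f).map (πB A) ≫ e.hom
        cart := (isPullback_iff e (rel_actD A) (πB A)).1 (cart_πB A)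
        loc := loc_down e A
        φ := (hE A.1.P X).symm A.1.φ
        eqv := (eqv_iff aX (rel_actD A) _).1 (by rw [Equiv.apply_symm_apply]; exact A.1.eqv) }) rfl

theorem top_πB {A A' : Fib' f K aX B'} (u : A ⟶ A') : u.1.top ≫ πB A' = πB A := by
  rw [πB, ← Category.assoc, u.1.cart.w, base_eq u, Category.assoc, eqToHom_trans, πB]

/-- The morphism over the small base. -/
def Dmap {A A' : Fib' f K aX B'} (u : A ⟶ A') : D e A ⟶ D e A' :=
  haveI := isIso_fib_top u
  haveI : IsIso ((Over.map f).map u.1.top) := Functor.map_isIso _ _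
  mkFib ((Over.map f).map u.1.top) ((equivariant_iff (rel_actD A) (rel_actD A') u.1.top).1 u.1.eqv)
    (by
      show (Over.map f).map u.1.top ≫ (Over.map f).map (πB A') ≫ e.hom = ((Over.map f).map (πB A) ≫ e.hom) ≫ eqToHom _
      rw [← Category.assoc, ← Functor.map_comp, top_πB, eqToHom_refl]
      exact (Category.comp_id _).symm)
    (by
      show (Over.map f).map u.1.top ≫ (hE A'.1.P X).symm A'.1.φ = (hE A.1.P X).symm A.1.φ
      rw [← Adjunction.homEquiv_naturality_left_symm, u.1.wφ])

/-- The comparison functor. -/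
def DFun : Fib' f K aX B' ⥤ Fib₀ K aX B where
  obj := D e
  map := Dmap e
  map_id A := fib_ext ((Over.map f).map_id _)
  map_comp u v := fib_ext ((Over.map f).map_comp _ _)

theorem DFun_full (A A' : Fib' f K aX B') (v : D e A ⟶ D e A') : ∃ u, Dmap e u = v := by
  haveI := isIso_fib_top v
  have hcomm : v.1.top ≫ (Over.map f).map (πB A') = (Over.map f).map (πB A) := by
    rw [← cancel_mono e.hom, Category.assoc]
    refine v.1.cart.w.trans ?_
    rw [base_eq v, eqToHom_refl]
    exact Category.comp_id _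
  have hleft : v.1.top.left ≫ A'.1.P.hom = A.1.P.hom := by
    rw [← Over.w (πB A'), ← Over.w (πB A), ← Category.assoc]
    exact congrArg (fun m : (Over.map f).obj A.1.P ⟶ (Over.map f).obj B' => m.left ≫ B'.hom) hcomm
  let t : A.1.P ⟶ A'.1.P := Over.homMk v.1.top.left hleft
  have ht : (Over.map f).map t = v.1.top := Over.OverMorphism.ext rfl
  haveI : IsIso t := by
    haveI : IsIso t.left := inferInstanceAs (IsIso ((Over.forget _).map v.1.top))
    haveI : IsIso ((Over.forget _).map t) := ‹IsIso t.left›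
    exact isIso_of_reflects_iso t (Over.forget _)
  refine ⟨mkFib t ((equivariant_iff (rel_actD A) (rel_actD A') t).2 (by rw [ht]; exact v.1.eqv)) ?_ ?_, fib_ext ht⟩
  · have hc : t ≫ πB A' = πB A := map_inj f (by rw [Functor.map_comp, ht, hcomm])
    rw [← cancel_mono (eqToHom A'.2), Category.assoc]
    refine hc.trans ?_
    rw [Category.assoc, eqToHom_trans]
    rfl
  · apply (hE A.1.P X).symm.injective
    rw [Adjunction.homEquiv_naturality_left_symm, ht]
    exact v.1.wφ

theorem DFun_faithful (A A' : Fib' f K aX B') {u u' : A ⟶ A'} (h : Dmap e u = Dmap e u') : u = u' :=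
  fib_ext (map_inj f (congrArg (fun v : D e A ⟶ D e A' => v.1.top) h))

theorem DFun_essSurj (ξ : Fib₀ K aX B) : ∃ A : Fib' f K aX B', Nonempty (D e A ≅ ξ) := by
  obtain ⟨ξ, h⟩ := ξ
  change ξ.base = B at h
  subst h
  let r : ξ.P ⟶ (Over.map f).obj B' := ξ.π ≫ e.inv
  let P' : Over S' := Over.mk (r.left ≫ B'.hom)
  let ε : (Over.map f).obj P' ≅ ξ.P := Over.isoMk (Iso.refl _) (by
    show 𝟙 _ ≫ ξ.P.hom = (r.left ≫ B'.hom) ≫ f
    rw [Category.id_comp, Category.assoc]
    exact (Over.w r).symm)
  let π' : P' ⟶ B' := Over.homMk r.left rfl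
  have hπ : (Over.map f).map π' = ε.hom ≫ r := Over.OverMorphism.ext (Category.id_comp _).symm
  have hπ' : (Over.map f).map π' ≫ e.hom = ε.hom ≫ ξ.π := by
    rw [hπ, Category.assoc, Category.assoc, Iso.inv_hom_id, Category.comp_id]
  let act₀ : G ⊗ (Over.map f).obj P' ⟶ (Over.map f).obj P' := (G ◁ ε.hom) ≫ ξ.act.act ≫ ε.inv
  have hsm : ∀ (T : Over S) (g : T ⟶ G) (x : T ⟶ (Over.map f).obj P'),
      lift g x ≫ act₀ = sm ξ.act g (x ≫ ε.hom) ≫ ε.inv := fun T g x => by
    simp only [act₀, sm, lift_whiskerLeft_assoc, Category.assoc]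
  obtain ⟨a, ha⟩ := exists_action act₀ (fun T x => by rw [hsm, sm_one, Category.assoc, ε.hom_inv_id, Category.comp_id])
    (fun T g h x => by rw [hsm, hsm, hsm, sm_mul, Category.assoc, ε.inv_hom_id, Category.comp_id])
  have hinv : a.act ≫ (Over.map f).map π' = snd G _ ≫ (Over.map f).map π' := by
    rw [← cancel_mono e.hom, Category.assoc, Category.assoc, hπ', ha]
    simp only [act₀, Category.assoc, Iso.inv_hom_id_assoc]
    rw [ξ.cart.w, whiskerLeft_snd_assoc]
  obtain ⟨a', ha'⟩ := exists_up (f := f) a (by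
    have h1 := congrArg (fun m => (tmi f G P').hom.left ≫ m.left ≫ B'.hom) hinv
    have h2 : (tmi f G P').hom.left ≫ (snd G ((Over.map f).obj P')).left = (snd (Red.bc f G) P').left :=
      congrArg (fun m => m.left) (tmi_hom_snd (G := G) f P')
    simp only [Over.comp_left, Category.assoc] at h1
    rw [Over.comp_left, Category.assoc]
    refine h1.trans ?_
    rw [← Category.assoc, h2]
    exact Over.w (snd (Red.bc f G) P'))
  have hcart : IsPullback a'.act (snd (Red.bc f G) P') π' π' := by
    rw [isPullback_iff e ha' π', ha, hπ']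
    haveI : IsIso (G ◁ ε.hom) := inferInstance
    exact ξ.cart.of_iso (asIso (G ◁ ε.hom)).symm ε.symm ε.symm (Iso.refl _) (by simp [act₀])
      (by simp [← whiskerLeft_snd]) (by simp) (by simp)
  haveI : IsIso e.inv.left := inferInstanceAs (IsIso ((Over.forget _).map e.inv))
  have hloc : NonAbH1.IsLocallyTrivialFor K (Over.mk π'.left : Over B'.left) :=
    loc_of_comp K ξ.π.left (asIso e.inv.left) ξ.loc
  let A : Fib' f K aX B' := Functor.Fiber.mk (p := AlgSt.QuotObj.forget K (Red.bc f G) (aX.bc f))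
    (a := { base := B', P := P', act := a', π := π', cart := hcart, loc := hloc,
            φ := hE P' X (ε.hom ≫ ξ.φ)
            eqv := (eqv_iff aX ha' _).2 (by
              rw [ha]
              simp only [act₀, Category.assoc, Iso.inv_hom_id_assoc, ξ.eqv]
              rw [← MonoidalCategory.whiskerLeft_comp_assoc]) }) rfl
  have hrel : (actD A).act = act₀ := by
    refine (cancel_epi (tmi f G P').hom).1 ?_
    rw [← ha]
    exact (rel_actD A).symm.trans ha'
  refine ⟨A, ⟨?_⟩⟩
  let ξ₀ : Fib₀ K aX ξ.base := ⟨ξ, rfl⟩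
  let t₁ : (D e A).1.P ⟶ ξ₀.1.P := ε.hom
  let t₂ : ξ₀.1.P ⟶ (D e A).1.P := ε.inv
  haveI : IsIso t₁ := inferInstanceAs (IsIso ε.hom)
  haveI : IsIso t₂ := inferInstanceAs (IsIso ε.inv)
  let u : D e A ⟶ ξ₀ := mkFib t₁
    (by
      show (actD A).act ≫ ε.hom = _
      rw [hrel]
      simp only [act₀, Category.assoc, Iso.inv_hom_id, Category.comp_id]
      rfl)
    (by
      show ε.hom ≫ ξ.π = ((Over.map f).map (π' ≫ eqToHom rfl) ≫ e.hom) ≫ eqToHom _
      simp [hπ'])
    ((hE P' X).symm_apply_apply _).symm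
  let v : ξ₀ ⟶ D e A := mkFib t₂
    (by
      show ξ.act.act ≫ ε.inv = (G ◁ ε.inv) ≫ (actD A).act
      rw [hrel]
      simp only [act₀]
      rw [← MonoidalCategory.whiskerLeft_comp_assoc, ε.inv_hom_id, MonoidalCategory.whiskerLeft_id, Category.id_comp])
    (by
      show ε.inv ≫ (Over.map f).map (π' ≫ eqToHom rfl) ≫ e.hom = ξ.π ≫ eqToHom _
      simp [hπ'])
    (by
      show ε.inv ≫ (hE P' X).symm (hE P' X (ε.hom ≫ ξ.φ)) = ξ.φ
      rw [Equiv.symm_apply_apply, Iso.inv_hom_id_assoc])
  exact { hom := u, inv := v, hom_inv_id := fib_ext ε.hom_inv_id, inv_hom_id := fib_ext ε.inv_hom_id }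

include e in
/-- The counts of the two fibres agree. -/
theorem count_eq (h : StkCnt.IsEssFinite (Fib₀ K aX B)) :
    ∃ h' : StkCnt.IsEssFinite (Fib' f K aX B'), StkCnt.count _ h' = StkCnt.count _ h := by
  classical
  let cls : StkCnt.IsoCl (Fib' f K aX B') → StkCnt.IsoCl (Fib₀ K aX B) :=
    Quotient.map (D e) fun A A' ⟨i⟩ => ⟨(DFun e).mapIso i⟩
  have hlift : ∀ {A A' : Fib' f K aX B'} (i : D e A ≅ D e A'), Nonempty (A ≅ A') := fun {A A'} i => by
    obtain ⟨u, hu⟩ := DFun_full e A A' i.hom
    obtain ⟨v, hv⟩ := DFun_full e A' A i.inv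
    refine ⟨⟨u, v, DFun_faithful e A A ?_, DFun_faithful e A' A' ?_⟩⟩
    · show (DFun e).map (u ≫ v) = (DFun e).map (𝟙 A)
      rw [Functor.map_comp, (DFun e).map_id]
      show Dmap e u ≫ Dmap e v = 𝟙 (D e A)
      rw [hu, hv, i.hom_inv_id]
    · show (DFun e).map (v ≫ u) = (DFun e).map (𝟙 A')
      rw [Functor.map_comp, (DFun e).map_id]
      show Dmap e v ≫ Dmap e u = 𝟙 (D e A')
      rw [hu, hv, i.inv_hom_id]
  have hcls : Function.Bijective cls := by
    refine ⟨?_, Quotient.ind fun ξ => ?_⟩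
    · refine Quotient.ind₂ fun A A' hAA' => ?_
      obtain ⟨i⟩ := Quotient.exact (s := isIsomorphicSetoid _) hAA'
      exact Quotient.sound (s := isIsomorphicSetoid _) (hlift i)
    · obtain ⟨A, hA⟩ := DFun_essSurj e ξ
      exact ⟨StkCnt.IsoCl.mk A, Quotient.sound (s := isIsomorphicSetoid _) hA⟩
  have hhom : ∀ A A' : Fib' f K aX B', Function.Bijective (Dmap e : (A ⟶ A') → (D e A ⟶ D e A')) := fun A A' =>
    ⟨fun u u' h => DFun_faithful e A A' h, DFun_full e A A'⟩
  haveI := h.finite_isoCl
  have h' : StkCnt.IsEssFinite (Fib' f K aX B') :=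
    ⟨Finite.of_injective cls hcls.1, fun A A' => haveI := h.finite_hom (D e A) (D e A'); Finite.of_injective _ (hhom A A').1⟩
  refine ⟨h', ?_⟩
  haveI := h'.finite_isoCl
  letI := Fintype.ofFinite (StkCnt.IsoCl (Fib' f K aX B'))
  letI := Fintype.ofFinite (StkCnt.IsoCl (Fib₀ K aX B))
  rw [StkCnt.count_eq_sum, StkCnt.count_eq_sum, ← hcls.sum_comp]
  refine Finset.sum_congr rfl fun c _ => ?_
  induction c using Quotient.ind with
  | _ A =>
    show ((Nat.card (Aut A) : ℕ) : ℚ)⁻¹ = ((Nat.card (Aut (D e A)) : ℕ) : ℚ)⁻¹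
    congr 2
    let F : (DFun (f := f) (K := K) (aX := aX) e).FullyFaithful :=
      { preimage := fun {A A'} v => (DFun_full e A A' v).choose
        map_preimage := fun {A A'} v => (DFun_full e A A' v).choose_spec
        preimage_map := fun {A A'} u => DFun_faithful e A A' (DFun_full e A A' _).choose_spec }
    exact Nat.card_congr (F.autMulEquivOfFullyFaithful A).toEquiv

end Groth.L24.Count.BaseField
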