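import Groth.Agent.L24.Count.Points
import Mathlib.AlgebraicGeometry.AlgClosed.Basic

/-! Every closed point carries a geometric point. -/

set_option autoImplicit false
set_option linter.style.haveILetI false

universe u

open CategoryTheory MonoidalCategory CartesianMonoidalCategory AlgebraicGeometry Limits

noncomputable section

namespace Groth.L24.Count

variable {k : Type u} [Field k] (kb : Type u) [Field kb] [Algebra k kb] [IsAlgClosed kb]

theorem exists_pts_bc (Y : Over (Spec (CommRingCat.of k))) [LocallyOfFiniteType Y.hom]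
    (z : (Y ⊗ SGA7.pt (K := k) kb).left) (hz : IsClosed ({z} : Set (Y ⊗ SGA7.pt (K := k) kb).left)) :
    ∃ g : SGA7.Pts kb Y, (lift g (𝟙 (SGA7.pt (K := k) kb))).left (IsLocalRing.closedPoint kb) = z := by
  let P := SGA7.pt (K := k) kb
  let s : (Y ⊗ P).left ⟶ Spec (CommRingCat.of kb) := (snd Y P).left
  haveI : LocallyOfFiniteType s := inferInstanceAs (LocallyOfFiniteType (pullback.snd Y.hom P.hom))
  let sec := pointOfClosedPoint s z hz
  have hsec : sec ≫ s = 𝟙 _ := pointOfClosedPoint_comp s z hz
  let g : SGA7.Pts kb Y := Over.homMk (sec ≫ (fst Y P).left) (by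
    rw [Category.assoc, Over.w (fst Y P), ← Over.w (snd Y P), ← Category.assoc]
    exact (congrArg (· ≫ P.hom) hsec).trans (Category.id_comp _))
  refine ⟨g, ?_⟩
  have e : (lift g (𝟙 P)).left = sec := by
    apply pullback.hom_ext
    · exact congrArg (fun t => t.left) (lift_fst g (𝟙 P))
    · exact (congrArg (fun t => t.left) (lift_snd g (𝟙 P))).trans hsec.symm
  rw [e]
  exact pointOfClosedPoint_apply s z hz _

/-- An open set containing all geometric points is everything. -/
theorem eq_univ_of_pts (Y : Over (Spec (CommRingCat.of k))) [LocallyOfFiniteType Y.hom]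
    {U : Set (Y ⊗ SGA7.pt (K := k) kb).left} (hU : IsOpen U)
    (h : ∀ g : SGA7.Pts kb Y, (lift g (𝟙 (SGA7.pt (K := k) kb))).left (IsLocalRing.closedPoint kb) ∈ U) :
    U = Set.univ := by
  let P := SGA7.pt (K := k) kb
  let s : (Y ⊗ P).left ⟶ Spec (CommRingCat.of kb) := (snd Y P).left
  haveI : LocallyOfFiniteType s := inferInstanceAs (LocallyOfFiniteType (pullback.snd Y.hom P.hom))
  haveI : JacobsonSpace (Y ⊗ P).left := LocallyOfFiniteType.jacobsonSpace s
  by_contra hne
  obtain ⟨z, hz, hzc⟩ := nonempty_inter_closedPoints (Z := Uᶜ) (Set.nonempty_compl.2 hne) hU.isClosed_compl.isLocallyClosed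
  obtain ⟨g, rfl⟩ := exists_pts_bc kb Y z hzc
  exact hz (h g)

/-- A morphism sending every geometric point into an open set lands in it. -/
theorem range_subset_of_pts {W Y : Over (Spec (CommRingCat.of k))} [LocallyOfFiniteType W.hom] (f : W ⟶ Y)
    {U : Set Y.left} (hU : IsOpen U)
    (h : ∀ g : SGA7.Pts kb W, (g ≫ f).left (IsLocalRing.closedPoint kb) ∈ U) : Set.range f.left ⊆ U := by
  let P := SGA7.pt (K := k) kb
  have h1 := eq_univ_of_pts kb W (U := (fst W P ≫ f).left ⁻¹' U)
    (hU.preimage (fst W P ≫ f).left.continuous) fun g => by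
      show (lift g (𝟙 P) ≫ fst W P ≫ f).left (IsLocalRing.closedPoint kb) ∈ U
      rw [lift_fst_assoc]
      exact h g
  rintro _ ⟨w, rfl⟩
  have hs : Surjective (fst W P).left := by
    haveI : Surjective P.hom :=
      ⟨fun x => ⟨Classical.arbitrary (PrimeSpectrum kb), Subsingleton.elim (α := PrimeSpectrum k) _ _⟩⟩
    exact MorphismProperty.pullback_fst W.hom P.hom ‹_›
  obtain ⟨z, rfl⟩ := hs.surj w
  exact (h1.symm.subset trivial : z ∈ (fst W P ≫ f).left ⁻¹' U)

end Groth.L24.Count
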