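import Groth.Agent.L24.Count.Const
import Groth.Agent.L11.GalTwist.Twist
import Groth.Agent.L24.Count.Points
import Groth.Agent.L23.AffineMor

/-! Twisting a normal subgroup by conjugation. -/

set_option autoImplicit false
set_option backward.isDefEq.respectTransparency false
set_option backward.isDefEq.respectTransparency.types false
set_option linter.style.haveILetI false
set_option linter.unusedSectionVars false

universe u

open CategoryTheory MonoidalCategory CartesianMonoidalCategory MonObj AlgebraicGeometry Limits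
open GalTw
open Groth.L11.GalTwist (bcMap exists_isTwist_of_orbit exists_grpObj exists_bcMap_eq bcMap_injective cocycle_spec
  cocycle_spec_inv twHom_bcMap twHom_mul_hom)

noncomputable section

namespace Groth.L24.Count

variable {k : Type u} [Field k] {E : Type u} [Field E] [Algebra k E]
  {A B T : Over (Spec (CommRingCat.of k))} [GrpObj A] [GrpObj B] (i : A ⟶ B) (c : B ⊗ A ⟶ A)

theorem cst_bcMap {A' A'' : Over (Spec (CommRingCat.of k))} (u : SGA7.Pts E A') (f : A' ⟶ A'') :
    cst T u ≫ bcMap f = cst T (u ≫ f) := by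
  rw [cst, cst, Category.assoc, ← secOfPt_comp]

/-- Conjugation by a point, restricted to a normal subgroup. -/
def cj (g : SGA7.Pts E B) : bcK E A ⟶ bcK E A :=
  lift (cst A g) (𝟙 (bcK E A)) ≫ Functor.LaxMonoidal.μ (Over.pullback (SGA7.pt (K := k) E).hom) B A ≫ bcMap c

variable {i c} [IsMonHom i] [Mono i]

instance mono_bcMap : Mono (bcMap (K := E) i) :=
  inferInstanceAs (Mono ((Over.pullback (SGA7.pt (K := k) E).hom).map i))

instance isMonHom_bcMap : IsMonHom (bcMap (K := E) i) :=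
  inferInstanceAs (IsMonHom ((Over.pullback (SGA7.pt (K := k) E).hom).map i))

variable (hc : c ≫ i = fst B A * (snd B A ≫ i) * (fst B A)⁻¹)

include hc

theorem cj_comp (g : SGA7.Pts E B) : cj c g ≫ bcMap i = cst A g * bcMap i * (cst A g)⁻¹ := by
  rw [cj, Category.assoc, Category.assoc, ← bcMap_comp, hc, bcMap_mul, bcMap_mul, bcMap_inv, bcMap_comp]
  simp only [MonObj.comp_mul, GrpObj.comp_inv]
  erw [Functor.Monoidal.μ_fst, Functor.Monoidal.μ_snd_assoc, lift_fst, lift_snd_assoc, Category.id_comp]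

theorem comp_cj_comp (g : SGA7.Pts E B) {Z : Over (Spec (CommRingCat.of E))} (v : Z ⟶ bcK E A) :
    (v ≫ cj c g) ≫ bcMap i = (toUnit Z ≫ secOfPt E g) * (v ≫ bcMap i) * (toUnit Z ≫ secOfPt E g)⁻¹ := by
  have e : v ≫ cst A g = toUnit Z ≫ secOfPt E g := by
    rw [cst, ← Category.assoc, toUnit_unique (v ≫ toUnit _) (toUnit Z)]
  rw [Category.assoc, cj_comp hc, MonObj.comp_mul, MonObj.comp_mul, GrpObj.comp_inv, e]

theorem isMonHom_cj (g : SGA7.Pts E B) : IsMonHom (cj c g) where
  one_hom := by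
    rw [← cancel_mono (bcMap i), comp_cj_comp hc, IsMonHom.one_hom, MonObj.one_eq_one, _root_.mul_one, mul_inv_cancel]
  mul_hom := by
    rw [← cancel_mono (bcMap i), comp_cj_comp hc, MonObj.mul_eq_mul, MonObj.comp_mul, MonObj.mul_comp, MonObj.mul_comp,
      tensorHom_fst, tensorHom_snd, Category.assoc, Category.assoc, cj_comp hc, MonObj.comp_mul, MonObj.comp_mul,
      MonObj.comp_mul, MonObj.comp_mul, GrpObj.comp_inv, GrpObj.comp_inv]
    have e : ∀ {Z : Over (Spec (CommRingCat.of E))} (v : Z ⟶ bcK E A), v ≫ cst A g = toUnit Z ≫ secOfPt E g :=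
      fun v => by rw [cst, ← Category.assoc, toUnit_unique (v ≫ toUnit _) (toUnit _)]
    rw [e, e]
    group

theorem cj_mul (g h : SGA7.Pts E B) : cj c (g * h) = cj c h ≫ cj c g := by
  rw [← cancel_mono (bcMap i), comp_cj_comp hc, cj_comp hc, cj_comp hc, cst_mul]
  show cst A g * cst A h * bcMap i * (cst A g * cst A h)⁻¹ = cst A g * (cst A h * bcMap i * (cst A h)⁻¹) * (cst A g)⁻¹
  group

theorem cj_one : cj c (1 : SGA7.Pts E B) = 𝟙 _ := by
  rw [← cancel_mono (bcMap i), cj_comp hc, cst_one, Category.id_comp, inv_one, _root_.one_mul, _root_.mul_one]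

theorem twHom_cj (σ : E ≃ₐ[k] E) (g : SGA7.Pts E B) : twHom σ (cj c g) = cj c (σ • g) := by
  have h := congrArg (twHom σ) (cj_comp hc g)
  rw [twHom_comp, twHom_bcMap, twHom_mul_hom, twHom_mul_hom, twHom_hom_inv, twHom_cst, twHom_bcMap, ← cj_comp hc] at h
  exact (cancel_mono (bcMap i)).1 h

/-- The automorphism attached to a point. -/
def cjIso (g : SGA7.Pts E B) : Aut (bcK E A) where
  hom := cj c g
  inv := cj c g⁻¹
  hom_inv_id := by rw [← cj_mul hc, inv_mul_cancel, cj_one hc]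
  inv_hom_id := by rw [← cj_mul hc, mul_inv_cancel, cj_one hc]

variable [FiniteDimensional k E] [IsGalois k E] [IsAffineHom A.hom]

/-- The twist of a normal subgroup by a cocycle of the ambient group, with its points. -/
theorem exists_conjTwist (z : GpH1.OneCocycle (E ≃ₐ[k] E) (SGA7.Pts E B)) :
    ∃ (Y : Over (Spec (CommRingCat.of k))) (_ : GrpObj Y) (φ : bcK E Y ≅ bcK E A), IsMonHom φ.hom ∧
      IsAffineHom Y.hom ∧ (∀ σ, twHom σ φ.hom ≫ cj c (z σ) = φ.hom) ∧
      Nonempty ((𝟙_ (Over (Spec (CommRingCat.of k))) ⟶ Y) ≃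
        {u : SGA7.Pts E A // ∀ σ : E ≃ₐ[k] E, z σ * ((σ • u : SGA7.Pts E A) ≫ i) * (z σ)⁻¹ = u ≫ i}) := by
  let a : GpH1.OneCocycle (E ≃ₐ[k] E) (Aut (bcK E A)) := ⟨fun σ => cjIso hc (z σ), fun σ τ => by
    apply Iso.ext
    show cj c (z (σ * τ)) = twHom σ (cj c (z τ)) ≫ cj c (z σ)
    rw [twHom_cj hc, ← cj_mul hc, z.2 σ τ]⟩
  have haff : IsAffineHom (bcK E A).hom :=
    MorphismProperty.pullback_snd (P := @IsAffineHom) A.hom (SGA7.pt (K := k) E).hom ‹IsAffineHom A.hom›
  haveI : IsAffine (bcK E A).left := haveI := haff; isAffine_of_isAffineHom (bcK E A).hom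
  obtain ⟨Y, ⟨φ, hφ⟩, -⟩ := exists_isTwist_of_orbit a fun _ => ⟨⊤, isAffineOpen_top _, fun _ => trivial⟩
  have ha : ∀ σ, a σ ∈ grpAuts E A := fun σ => isMonHom_cj hc (z σ)
  obtain ⟨gY, hφm⟩ := exists_grpObj (G := A) ha hφ
  refine ⟨Y, gY, φ, hφm, ?_, fun σ => cocycle_spec hφ σ, ?_⟩
  · haveI : IsIso φ.hom.left := inferInstanceAs (IsIso ((Over.forget _).map φ.hom))
    have h1 : IsAffineHom (pullback.snd Y.hom (SGA7.pt (K := k) E).hom) := by
      show IsAffineHom (bcK E Y).hom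
      haveI := haff
      rw [← Over.w φ.hom]
      infer_instance
    have hb : (@Surjective ⊓ @Flat ⊓ @QuasiCompact : MorphismProperty Scheme) (SGA7.pt (K := k) E).hom :=
      ⟨⟨⟨fun x => ⟨Classical.arbitrary (PrimeSpectrum E), Subsingleton.elim (α := PrimeSpectrum k) _ _⟩⟩,
        flat_spec _⟩, quasiCompact_spec _⟩
    exact MorphismProperty.of_pullback_snd_of_descendsAlong (P := @IsAffineHom) hb h1
  · let e := (Groth.L11.GalTwist.twRep (G := A) ha hφ).homEquiv (X := 𝟙_ (Over (Spec (CommRingCat.of k))))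
    have hmem : ∀ u : SGA7.Pts E A, cst (𝟙_ _) u ∈ Groth.L11.GalTwist.twPts A a ha (𝟙_ _) ↔
        ∀ σ : E ≃ₐ[k] E, z σ * ((σ • u : SGA7.Pts E A) ≫ i) * (z σ)⁻¹ = u ≫ i := fun u => by
      rw [Groth.L11.GalTwist.mem_twPts]
      refine forall_congr' fun σ => ?_
      have key : cst (𝟙_ _) (σ • u) ≫ cj c (z σ) ≫ bcMap i =
          cst (𝟙_ _) (z σ * ((σ • u : SGA7.Pts E A) ≫ i) * (z σ)⁻¹) := by
        rw [cj_comp hc, MonObj.comp_mul, MonObj.comp_mul, GrpObj.comp_inv, comp_cst, cst_bcMap,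
          cst_mul, cst_mul, cst_inv]
      constructor
      · intro h
        apply cst_injective
        rw [← key, ← Category.assoc, ← twHom_cst]
        show (twHom σ (cst _ u) ≫ (a σ).hom) ≫ bcMap i = _
        rw [h, cst_bcMap]
      · intro h
        show twHom σ (cst _ u) ≫ cj c (z σ) = _
        rw [twHom_cst, ← cancel_mono (bcMap i), Category.assoc, key, h, cst_bcMap]
    let f : {u : SGA7.Pts E A // ∀ σ : E ≃ₐ[k] E, z σ * ((σ • u : SGA7.Pts E A) ≫ i) * (z σ)⁻¹ = u ≫ i} →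
        Groth.L11.GalTwist.twPts A a ha (𝟙_ _) := fun u => ⟨cst (𝟙_ _) u.1, (hmem u.1).2 u.2⟩
    have hf : Function.Bijective f := by
      refine ⟨fun u u' h => Subtype.ext (cst_injective (congrArg Subtype.val h)), fun v => ?_⟩
      obtain ⟨u, hu⟩ := exists_secOfPt_eq
        (secOfPt E (toUnit (SGA7.pt (K := k) E)) ≫ v.1)
      have hcst : cst (𝟙_ _) u = v.1 := by
        rw [cst, hu, ← Category.assoc]
        have hid : toUnit (bcK E (𝟙_ (Over (Spec (CommRingCat.of k))))) ≫ secOfPt E (toUnit (SGA7.pt (K := k) E)) =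
            𝟙 _ := by
          rw [← cancel_mono (Functor.Monoidal.εIso (Over.pullback (SGA7.pt (K := k) E).hom)).inv]
          exact toUnit_unique _ _
        rw [hid, Category.id_comp]
      exact ⟨⟨u, (hmem u).1 (hcst ▸ v.2)⟩, Subtype.ext hcst⟩
    exact ⟨e.trans (Equiv.ofBijective f hf).symm⟩

end Groth.L24.Count
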