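import Groth.Agent.L24.Count.Reps

/-! The point count of a quotient stack from representatives of twisted fixed pairs. -/

set_option autoImplicit false
set_option backward.isDefEq.respectTransparency.types false
set_option linter.style.haveILetI false
set_option linter.unusedSectionVars false

universe u v

open CategoryTheory AlgebraicGeometry MonoidalCategory CartesianMonoidalCategory MonObj
open Groth.L14.Stack (iter exists_eq_pow_on)

noncomputable section

namespace Groth.L24.Count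

variable {k : Type u} [Field k] [Finite k] {kb : Type u} [Field kb] [Algebra k kb] [IsAlgClosure k kb]
  {G X : Over (Spec (CommRingCat.of k))} [GrpObj G] [LocallyOfFiniteType G.hom] [IsAffineHom G.hom]
  [LocallyOfFiniteType X.hom] (aX : AlgGrp.Action G X)

/-- The point count from representatives of the twisted fixed pairs. -/
theorem count_eq_pairs (h : StkCnt.IsEssFinite (Obj aX)) {I : Type v} [Fintype I] (a : I → SGA7.Pts kb G)
    (x : I → SGA7.Pts kb X) (hpair : ∀ i, sm aX (a i) (frob k kb • x i) = x i)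
    (hdis : ∀ i i', (∃ g : SGA7.Pts kb G, g * a i * (frob k kb • g)⁻¹ = a i' ∧ sm aX g (x i) = x i') → i = i')
    (hall : ∀ a' x', sm aX a' (frob k kb • x') = x' →
      ∃ i, ∃ g : SGA7.Pts kb G, g * a' * (frob k kb • g)⁻¹ = a i ∧ sm aX g x' = x i) :
    StkCnt.count (Obj aX) h = ∑ i, ((Nat.card {g : SGA7.Pts kb G //
      g * a i * (frob k kb • g)⁻¹ = a i ∧ sm aX g (x i) = x i} : ℚ))⁻¹ := by
  classical
  choose O F hFa hFx using fun i => hasObj aX (a i) ⟨x i, hpair i⟩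
  let cls : I → StkCnt.IsoCl (Obj aX) := fun i => StkCnt.IsoCl.mk (O i)
  have hinj : Function.Injective cls := fun i i' e => by
    obtain ⟨e'⟩ := Quotient.exact (s := isIsomorphicSetoid _) e
    refine hdis i i' ⟨elt (F i) (F i') e'.hom, ?_⟩
    have := elt_spec (F i) (F i') e'.hom
    rwa [hFa, hFa, hFx, hFx] at this
  have hsurj : Function.Surjective cls := Quotient.ind fun ξ => by
    obtain ⟨F₀⟩ := exists_frame kb ξ
    obtain ⟨i, g, hg, hgx⟩ := hall F₀.a F₀.x F₀.x_eq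
    obtain ⟨f, -⟩ := exists_elt_eq F₀ (F i) g (by rw [hg, hFa]) (by rw [hgx, hFx])
    haveI := isIso_hom f
    exact ⟨i, Quotient.sound (s := isIsomorphicSetoid _) ⟨(asIso f).symm⟩⟩
  letI : Fintype (StkCnt.IsoCl (Obj aX)) := Fintype.ofSurjective cls hsurj
  rw [StkCnt.count_eq_sum, ← Function.Bijective.sum_comp (e := cls) ⟨hinj, hsurj⟩]
  refine Finset.sum_congr rfl fun i _ => ?_
  rw [show cls i = StkCnt.IsoCl.mk (O i) from rfl, StkCnt.autCard_mk, nat_card_aut,
    Nat.card_congr ((homEquiv (F i) (F i)).trans (Equiv.subtypeEquivRight fun g => by rw [hFa, hFx]))]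

/-- The orbit of a twisted fixed point is stable under the Galois group. -/
theorem exists_sm_smul_eq {a : SGA7.Pts kb G} {y : SGA7.Pts kb X} (hy : sm aX a (frob k kb • y) = y)
    (σ : kb ≃ₐ[k] kb) : ∃ g : SGA7.Pts kb G, sm aX g (σ • y) = y := by
  haveI : Algebra.IsAlgebraic k kb := IsAlgClosure.isAlgebraic
  have key : ∀ m, sm aX (iter (frob k kb) a m) ((frob k kb ^ m) • y) = y := fun m => by
    induction m with
    | zero => rw [pow_zero, one_smul]; exact sm_one aX y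
    | succ m ih => rw [iter, sm_mul, pow_succ', mul_smul, ← smul_sm, ih, hy]
  obtain ⟨E, hE, hp⟩ := isFin y
  obtain ⟨m, hm⟩ := exists_eq_pow_on (frob k kb) frob_apply E σ
  exact ⟨_, by rw [hp.smul_eq hm]; exact key m⟩

/-- The point count from the orbits and the twisted classes of the stabilisers. -/
theorem count_eq_orbits (h : StkCnt.IsEssFinite (Obj aX)) {J : Type v} [Fintype J] (x : J → SGA7.Pts kb X)
    (hdis : ∀ j j' : J, (∃ g : SGA7.Pts kb G, sm aX g (x j) = x j') → j = j')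
    (hall : ∀ y : SGA7.Pts kb X, (∀ σ : kb ≃ₐ[k] kb, ∃ g : SGA7.Pts kb G, sm aX g (σ • y) = y) →
      ∃ (j : J) (g : SGA7.Pts kb G), sm aX g (x j) = y)
    (b : J → SGA7.Pts kb G) (hb : ∀ j, sm aX (b j) (frob k kb • x j) = x j)
    (M : J → Over (Spec (CommRingCat.of k))) [∀ j, GrpObj (M j)]
    (θ : ∀ j, SGA7.Pts kb (M j) →* SGA7.Pts kb G) (hθi : ∀ j, Function.Injective (θ j))
    (hθr : ∀ j g, (∃ y, θ j y = g) ↔ sm aX g (x j) = x j)
    (hθπ : ∀ j y, θ j (frob k kb • y) = b j * (frob k kb • θ j y) * (b j)⁻¹)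
    (n : J → ℕ) (c : ∀ j, Fin (n j) → SGA7.Pts kb (M j))
    (hcdis : ∀ j i i', Conj (c j i) (c j i') → i = i') (hcall : ∀ j y, ∃ i, Conj y (c j i)) :
    StkCnt.count (Obj aX) h = ∑ j, ∑ i, ((Nat.card (GFix (c j i)) : ℚ))⁻¹ := by
  classical
  have htw : ∀ j (y z : SGA7.Pts kb (M j)),
      θ j y * (θ j z * b j) * (frob k kb • θ j y)⁻¹ = θ j (y * z * (frob k kb • y)⁻¹) * b j := fun j y z => by
    simp only [map_mul, map_inv, hθπ]
    group
  rw [count_eq_pairs aX h (fun p : Σ j, Fin (n j) => θ p.1 (c p.1 p.2) * b p.1) (fun p => x p.1), Fintype.sum_sigma]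
  · refine Finset.sum_congr rfl fun j _ => Finset.sum_congr rfl fun i _ => ?_
    congr 2
    refine (Nat.card_congr (Equiv.ofBijective (fun y : GFix (c j i) =>
      (⟨θ j y.1, by rw [htw, y.2], (hθr j _).1 ⟨y.1, rfl⟩⟩ :
        {g : SGA7.Pts kb G // g * (θ j (c j i) * b j) * (frob k kb • g)⁻¹ = θ j (c j i) * b j ∧
          sm aX g (x j) = x j})) ⟨fun y y' e => Subtype.ext (hθi j (congrArg Subtype.val e)), ?_⟩)).symm
    rintro ⟨g, hg, hgx⟩
    obtain ⟨y, rfl⟩ := (hθr j g).2 hgx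
    rw [htw] at hg
    exact ⟨⟨y, hθi j (mul_right_cancel hg)⟩, rfl⟩
  · rintro ⟨j, i⟩
    rw [sm_mul, hb, (hθr j _).1 ⟨_, rfl⟩]
  · rintro ⟨j, i⟩ ⟨j', i'⟩ ⟨g, hg, hgx⟩
    obtain rfl := hdis j j' ⟨g, hgx⟩
    obtain ⟨y, rfl⟩ := (hθr j g).2 hgx
    rw [htw] at hg
    exact congrArg (Sigma.mk j) (hcdis j i i' ⟨y, hθi j (mul_right_cancel hg)⟩)
  · intro a' y hy
    obtain ⟨j, g, hg⟩ := hall y (exists_sm_smul_eq aX hy)
    have h1 : sm aX (g⁻¹ * a' * (frob k kb • g)) (frob k kb • x j) = x j := by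
      rw [sm_mul, ← smul_sm, hg, sm_mul, hy]
      conv_lhs => rw [← hg, inv_sm]
    have h2 : sm aX (b j)⁻¹ (x j) = frob k kb • x j := by
      conv_lhs => rw [← hb j, inv_sm]
    obtain ⟨c₀, hc₀⟩ := (hθr j (g⁻¹ * a' * (frob k kb • g) * (b j)⁻¹)).2 (by rw [sm_mul, h2, h1])
    obtain ⟨i, z, hz⟩ := hcall j c₀
    refine ⟨⟨j, i⟩, θ j z * g⁻¹, ?_, ?_⟩
    · show _ = θ j (c j i) * b j
      rw [← hz, ← htw, hc₀, smul_mul', smul_inv']
      group
    · show _ = x j
      rw [sm_mul, ← hg, inv_sm, (hθr j _).1 ⟨z, rfl⟩]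

end Groth.L24.Count
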