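import Mathlib.AlgebraicGeometry.ZariskisMainTheorem
import Mathlib.AlgebraicGeometry.Properties
import Groth.Agent.L22.SchemeDim
import Groth.Agent.L06.GenericFibreDim
import Groth.Agent.L00.ReducedSub

/-! An endomorphism of an irreducible scheme of finite type over a field with finite fibres at closed points
is dominant. -/

set_option autoImplicit false
set_option linter.style.haveILetI false
set_option backward.isDefEq.respectTransparency.types false

universe u

open CategoryTheory AlgebraicGeometry Topology TopologicalSpace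

namespace Groth.L24.Count

variable {K : Type u} [Field K] {T : Scheme.{u}}

theorem dim_le_of_discrete_fibres {A B : Scheme.{u}} (f : A ⟶ B) [LocallyQuasiFinite f] :
    topologicalKrullDim A ≤ topologicalKrullDim B := by
  let := specializationOrder A
  let := specializationOrder B
  unfold topologicalKrullDim
  rw [Order.krullDim_eq_of_orderIso (irreducibleSetEquivPoints (α := A)),
    Order.krullDim_eq_of_orderIso (irreducibleSetEquivPoints (α := B))]
  refine Order.krullDim_le_of_strictMono f fun v w h => ?_
  refine lt_of_le_of_ne (show f w ⤳ f v from Specializes.map (show w ⤳ v from h.le) f.continuous) fun e => h.ne ?_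
  have hd : DiscreteTopology (f ⁻¹' {f v}) := isDiscrete_iff_discreteTopology.1 (f.isDiscrete_preimage_singleton (f v))
  have h1 : (⟨w, e.symm⟩ : f ⁻¹' {f v}) ⤳ ⟨v, rfl⟩ :=
    IsInducing.subtypeVal.specializes_iff.1 (show w ⤳ v from h.le)
  exact (congrArg Subtype.val h1.eq).symm

theorem isDominant_of_finite_closed_fibres (s : T ⟶ Spec (CommRingCat.of K)) [LocallyOfFiniteType s] [QuasiCompact s]
    [IrreducibleSpace T] (f : T ⟶ T) (hf : f ≫ s = s)
    (h : ∀ x : T, IsClosed ({x} : Set T) → {y : T | IsClosed ({y} : Set T) ∧ f y = x}.Finite) :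
    IsDominant f := by
  haveI : LocallyOfFiniteType f := by
    haveI : LocallyOfFiniteType (f ≫ s) := by rw [hf]; infer_instance
    exact locallyOfFiniteType_of_comp f s
  haveI : JacobsonSpace T := LocallyOfFiniteType.jacobsonSpace s
  haveI : LocallyQuasiFinite f := by
    rw [← Scheme.Hom.quasiFiniteLocus_eq_top_iff]
    by_contra hne
    obtain ⟨y, hy, hyc⟩ := nonempty_inter_closedPoints (X := T)
      (Z := (f.quasiFiniteLocus : Set T)ᶜ)
      (Set.nonempty_compl.2 fun e => hne (Opens.ext (by rw [e]; rfl)))
      f.quasiFiniteLocus.isOpen.isClosed_compl.isLocallyClosed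
    apply hy
    show f.QuasiFiniteAt y
    have hx : IsClosed ({f y} : Set T) := by
      exact f.closePoints_subset_preimage_closedPoints hyc
    have hF : IsClosed (f ⁻¹' {f y}) := hx.preimage f.continuous
    haveI : JacobsonSpace ↥(f ⁻¹' {f y}) := JacobsonSpace.of_isClosedEmbedding hF.isClosedEmbedding_subtypeVal
    haveI : DiscreteTopology ↥(f ⁻¹' {f y}) := JacobsonSpace.discreteTopology (by
      rw [← hF.isClosedEmbedding_subtypeVal.preimage_closedPoints]
      exact Set.Finite.subset ((h _ hx).preimage Subtype.val_injective.injOn) fun z hz => ⟨hz, z.2⟩)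
    rw [Scheme.Hom.quasiFiniteAt_iff_isOpen_singleton_asFiber, ← (f.fiberHomeo (f y)).isOpen_image]
    exact isOpen_discrete _
  haveI : CompactSpace T := QuasiCompact.compactSpace_of_compactSpace s
  refine ⟨?_⟩
  by_contra hd
  let Z : Set T := closure (Set.range f)
  have hZ : IsClosed Z := isClosed_closure
  have hZne : Z ≠ Set.univ := fun e => hd (dense_iff_closure_eq.2 e)
  obtain ⟨W, w, hw, hWr, hrange⟩ := Groth.L00.ReducedSub.exists_reduced Z hZ.isLocallyClosed
  haveI := hw
  obtain ⟨T', r, hr, hTr, hrr⟩ := Groth.L00.ReducedSub.exists_reduced (Set.univ : Set T) isClosed_univ.isLocallyClosed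
  haveI := hr
  haveI := hTr
  obtain ⟨g, hg⟩ := Groth.L00.ReducedSub.exists_lift w (r ≫ f) (by
    rw [hrange]; rintro _ ⟨x, rfl⟩; exact subset_closure ⟨r x, rfl⟩)
  haveI : LocallyQuasiFinite r := inferInstance
  haveI : LocallyQuasiFinite (g ≫ w) := by rw [hg]; infer_instance
  haveI : LocallyQuasiFinite g := LocallyQuasiFinite.of_comp g w
  have h1 : topologicalKrullDim T ≤ topologicalKrullDim Z := by
    rw [Groth.L22.SchemeDim.topologicalKrullDim_eq_of_isEmbedding w.isEmbedding hrange,
      ← (Homeomorph.Set.univ T).isHomeomorph.topologicalKrullDim_eq,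
      Groth.L22.SchemeDim.topologicalKrullDim_eq_of_isEmbedding r.isEmbedding hrr]
    exact dim_le_of_discrete_fibres g
  have hint : interior Z = ∅ := by
    by_contra hI
    refine hZne (Set.univ_subset_iff.1 ?_)
    have := isOpen_interior.dense (Set.nonempty_iff_ne_empty.2 hI)
    rw [← this.closure_eq]
    exact closure_minimal interior_subset hZ
  have h2 := Groth.L06.GenericFibreDim.dim_add_one_le (T := T) (fun x => ⟨Set.univ, isOpen_univ, trivial, by
    refine Set.Finite.subset (Set.finite_singleton (Set.univ : Set T)) fun C hC => ?_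
    rw [irreducibleComponents_eq_singleton] at hC
    exact hC.1⟩) hZ hint
  letI : T.Over (Spec (CommRingCat.of K)) := ⟨s⟩
  haveI : LocallyOfFiniteType (T ↘ Spec (CommRingCat.of K)) := ‹LocallyOfFiniteType s›
  obtain ⟨n, hn, -, -⟩ := Groth.L22.SchemeDim.exists_dim_eq_trdeg K T
  have h3 := le_trans (add_le_add_left h1 1) h2
  rw [hn, ← Nat.cast_one, ← Nat.cast_add] at h3
  exact absurd (Nat.cast_le.1 h3) (by omega)

end Groth.L24.Count
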