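import Groth.Agent.L24.Count.TwistedLang
import Groth.Prelude.Def_NonAbH2

/-! Short exact sequences of algebraic groups over a finite field, on geometric points. -/

set_option autoImplicit false
set_option linter.style.haveILetI false
set_option linter.unusedSectionVars false
set_option backward.isDefEq.respectTransparency false
set_option backward.isDefEq.respectTransparency.types false

universe u

open CategoryTheory CategoryTheory.Limits MonoidalCategory CartesianMonoidalCategory MonObj AlgebraicGeometry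

noncomputable section

namespace Groth.L24.Count

variable {k : Type u} [Field k] {A B C : Over (Spec (CommRingCat.of k))} [GrpObj A] [GrpObj B] [GrpObj C]
  {i : A ⟶ B} {π : B ⟶ C} {K : Precoverage Scheme.{u}} (hex : NonAbH1.IsExactSeq K i π)
  {T : Over (Spec (CommRingCat.of k))}

include hex

theorem exact_comp_eq_one (a : T ⟶ A) : (a ≫ i) ≫ π = 1 := by
  rw [Category.assoc, hex.2.2.1, MonObj.comp_one]

theorem exact_injective {a a' : T ⟶ A} (h : a ≫ i = a' ≫ i) : a = a' := by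
  have e : lift (1 : T ⟶ B) a = lift 1 a' := hex.2.2.2.1.hom_ext (by simp) (by
    simp only [← Category.assoc, lift_whiskerLeft, h])
  simpa using congrArg (· ≫ snd B A) e

theorem exact_exists_of_ker {b : T ⟶ B} (h : b ≫ π = 1) : ∃ a : T ⟶ A, a ≫ i = b := by
  haveI := hex.2.1
  let l := hex.2.2.2.1.lift (1 : T ⟶ B) b (by rw [h, MonObj.one_comp])
  have h1 : l ≫ fst B A = 1 := hex.2.2.2.1.lift_fst _ _ _
  have h2 : l ≫ (B ◁ i) ≫ μ[B] = b := hex.2.2.2.1.lift_snd _ _ _
  refine ⟨l ≫ snd B A, ?_⟩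
  rw [show (B ◁ i) ≫ μ[B] = fst B A * (snd B A ≫ i) from by
    rw [Hom.mul_def, ← lift_whiskerLeft, lift_fst_snd, Category.id_comp], MonObj.comp_mul, h1,
    _root_.one_mul] at h2
  rw [← h2, Category.assoc]

theorem exact_exists_of_eq {b b' : T ⟶ B} (h : b' ≫ π = b ≫ π) : ∃ a : T ⟶ A, (a ≫ i) * b = b' := by
  haveI := hex.2.1
  obtain ⟨a, ha⟩ := exact_exists_of_ker hex (b := b' * b⁻¹) (by
    rw [MonObj.mul_comp, GrpObj.inv_comp, h, mul_inv_cancel])
  exact ⟨a, by rw [ha, inv_mul_cancel_right]⟩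

theorem exact_exists_conj : ∃ c : B ⊗ A ⟶ A, c ≫ i = fst B A * (snd B A ≫ i) * (fst B A)⁻¹ := by
  haveI := hex.2.1
  exact exact_exists_of_ker hex (by
    rw [MonObj.mul_comp, MonObj.mul_comp, GrpObj.inv_comp, exact_comp_eq_one hex, _root_.mul_one, mul_inv_cancel])

omit hex in
theorem exists_lift_point {kb : Type u} [Field kb] [Algebra k kb] [IsAlgClosed kb] {i : A ⟶ B} {π : B ⟶ C}
    (hex : NonAbH1.IsExactSeq Scheme.fppfPrecoverage i π) (γ : SGA7.Pts kb C) :
    ∃ b : SGA7.Pts kb B, b ≫ π = γ := by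
  obtain ⟨R, hR, hsec⟩ := hex.2.2.2.2
  obtain ⟨𝒰, rfl⟩ := R.exists_eq_preZeroHypercover
  obtain ⟨hs, hP⟩ := (Scheme.ofArrows_mem_precoverage_iff _).1 hR
  let γ' : Spec (CommRingCat.of kb) ⟶ C.left := γ.left
  obtain ⟨j, w, hw⟩ := hs (γ' (IsLocalRing.closedPoint kb))
  obtain ⟨t, ht⟩ := hsec (𝒰.f j) ⟨j⟩
  haveI := (hP j).2
  obtain ⟨z, -, -⟩ := Scheme.Pullback.exists_preimage_pullback (f := 𝒰.f j) (g := γ') w (IsLocalRing.closedPoint kb) hw
  let s := pullback.snd (𝒰.f j) γ'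
  haveI : LocallyOfFiniteType s := inferInstanceAs (LocallyOfFiniteType (pullback.snd (𝒰.f j) γ'))
  haveI : JacobsonSpace ↥(pullback (𝒰.f j) γ') := LocallyOfFiniteType.jacobsonSpace s
  obtain ⟨x, -, hx⟩ := nonempty_inter_closedPoints (X := ↥(pullback (𝒰.f j) γ')) ⟨z, Set.mem_univ z⟩
    isOpen_univ.isLocallyClosed
  let b' := pointOfClosedPoint s x hx ≫ pullback.fst (𝒰.f j) γ' ≫ t
  have hb' : b' ≫ π.left = γ' := by
    show (_ ≫ _ ≫ t) ≫ π.left = γ'
    rw [Category.assoc, Category.assoc, show t ≫ π.left = 𝒰.f j from ht, pullback.condition,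
      pointOfClosedPoint_comp_assoc]
  refine ⟨Over.homMk b' ?_, Over.OverMorphism.ext hb'⟩
  rw [← Over.w π, ← Category.assoc, hb']
  exact Over.w γ

end Groth.L24.Count
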