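import Groth.Prelude.Def_StkCnt
import Groth.Agent.L24.Count.Equivariant
import Groth.Agent.L24.Lang.Torsor

/-! The rational points of a quotient stack over a finite field as twisted fixed pairs. -/

set_option autoImplicit false
set_option linter.style.haveILetI false
set_option linter.unusedSectionVars false
set_option backward.isDefEq.respectTransparency false
set_option backward.isDefEq.respectTransparency.types false

universe u

open CategoryTheory MonoidalCategory CartesianMonoidalCategory MonObj AlgebraicGeometry Limits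

noncomputable section

namespace Groth.L24.Count

variable {k : Type u} [Field k] [Finite k] (kb : Type u) [Field kb] [Algebra k kb] [IsAlgClosure k kb]
  {G X : Over (Spec (CommRingCat.of k))} [GrpObj G] [LocallyOfFiniteType G.hom] [LocallyOfFiniteType X.hom]
  {aX : AlgGrp.Action G X}

theorem to_pt_eq {Z : Over (Spec (CommRingCat.of k))} (f f' : Z ⟶ SGA7.pt (K := k) k) : f = f' := by
  haveI : IsIso (SGA7.pt (K := k) k).hom := by
    show IsIso (Spec.map (CommRingCat.ofHom (RingHom.id k)))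
    rw [CommRingCat.ofHom_id, Spec.map_id]
    infer_instance
  exact Over.OverMorphism.ext ((cancel_mono (SGA7.pt (K := k) k).hom).1 ((Over.w f).trans (Over.w f').symm))

variable (aX) in
/-- The rational points of the quotient stack. -/
abbrev Obj : Type (u + 1) := StkCnt.pts (AlgSt.QuotSt Scheme.etalePrecoverage G aX) k

theorem to_base_eq (ξ : Obj aX) {Z : Over (Spec (CommRingCat.of k))} (f f' : Z ⟶ ξ.1.base) : f = f' := by
  have h : ξ.1.base = SGA7.pt (K := k) k := ξ.2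
  rw [← cancel_mono (eqToHom h)]
  exact to_pt_eq _ _

theorem isTors (ξ : Obj aX) : IsTors ξ.1.act := isTors_of_cart ξ.1.cart fun _ => to_base_eq ξ

/-- An equivariant isomorphism compatible with the maps to `X` gives a morphism of rational points. -/
def mkHom {ξ ξ' : Obj aX} (top : ξ.1.P ⟶ ξ'.1.P) [IsIso top]
    (he : ξ.1.act.act ≫ top = (G ◁ top) ≫ ξ'.1.act.act) (hφ : top ≫ ξ'.1.φ = ξ.1.φ) : ξ ⟶ ξ' :=
  ⟨{ base := eqToHom (ξ.2.trans ξ'.2.symm)
     top := top
     eqv := he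
     cart := IsPullback.of_horiz_isIso ⟨to_base_eq ξ' _ _⟩
     wφ := hφ },
    IsHomLift.of_fac _ _ _ ξ.2 ξ'.2 (to_pt_eq _ _)⟩

theorem hom_ext {ξ ξ' : Obj aX} {f g : ξ ⟶ ξ'} (h : f.1.top = g.1.top) : f = g :=
  Subtype.ext (AlgSt.QuotObj.hom_ext (to_base_eq ξ' _ _) h)

theorem isIso_top {ξ ξ' : Obj aX} (f : ξ ⟶ ξ') : IsIso f.1.top := by
  have e : ξ.1.base = ξ'.1.base := ξ.2.trans ξ'.2.symm
  haveI : IsIso f.1.base := by
    rw [to_base_eq ξ' f.1.base (eqToHom e)]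
    infer_instance
  exact f.1.cart.isIso_fst_of_isIso

theorem isIso_hom {ξ ξ' : Obj aX} (f : ξ ⟶ ξ') : IsIso f := by
  haveI := isIso_top f
  let g : ξ' ⟶ ξ := mkHom (inv f.1.top)
    ((IsIso.comp_inv_eq _).2 ((Category.assoc _ _ _).trans ((congrArg (fun t => (G ◁ inv f.1.top) ≫ t) f.1.eqv).trans
      ((MonoidalCategory.whiskerLeft_comp_assoc _ _ _ _).symm.trans
        (by rw [IsIso.inv_hom_id, MonoidalCategory.whiskerLeft_id, Category.id_comp])))).symm)
    (by rw [IsIso.inv_comp_eq, f.1.wφ])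
  exact ⟨g, hom_ext (IsIso.hom_inv_id f.1.top), hom_ext (IsIso.inv_hom_id f.1.top)⟩

/-- A frame of a rational point: a geometric point of its torsor and the element by which Frobenius moves it. -/
structure Frame (ξ : Obj aX) where
  p : SGA7.Pts kb ξ.1.P
  fin : IsFin p
  a : SGA7.Pts kb G
  eq : sm ξ.1.act a (frob k kb • p) = p

variable {kb}

/-- The point of `X` of a frame. -/
def Frame.x {ξ : Obj aX} (F : Frame kb ξ) : SGA7.Pts kb X := F.p ≫ ξ.1.φ

theorem Frame.x_eq {ξ : Obj aX} (F : Frame kb ξ) : sm aX F.a (frob k kb • F.x) = F.x := by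
  have h := congrArg (· ≫ ξ.1.φ) F.eq
  simp only [sm_comp _ _ _ aX ξ.1.eqv] at h
  exact h

theorem IsFin.sm' {Y : Over (Spec (CommRingCat.of k))} (aY : AlgGrp.Action G Y) (g : SGA7.Pts kb G)
    {y : SGA7.Pts kb Y} (hy : IsFin y) : IsFin (sm aY g y) := by
  haveI : Algebra.IsAlgebraic k kb := IsAlgClosure.isAlgebraic
  obtain ⟨E, hE, h⟩ := hy
  obtain ⟨E', hE', h'⟩ := isFin g
  obtain ⟨g', hg'⟩ := h'.mono (le_sup_right (a := E))
  obtain ⟨y', hy'⟩ := h.mono (le_sup_left (b := E'))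
  exact ⟨E ⊔ E', inferInstance, sm aY g' y', by rw [comp_sm, hg', hy']⟩

variable (kb) in
theorem exists_frame (ξ : Obj aX) : Nonempty (Frame kb ξ) := by
  haveI : Algebra.IsAlgebraic k kb := IsAlgClosure.isAlgebraic
  haveI : IsAlgClosed kb := IsAlgClosure.isAlgClosed k
  obtain ⟨R, hR, hsec⟩ := ξ.1.loc
  obtain ⟨𝒰, rfl⟩ := R.exists_eq_preZeroHypercover
  obtain ⟨hs, hP⟩ := (Scheme.ofArrows_mem_precoverage_iff _).1 hR
  haveI : IsIso ξ.1.base.hom := by
    have e : ξ.1.base = SGA7.pt (K := k) k := ξ.2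
    rw [e]
    show IsIso (Spec.map (CommRingCat.ofHom (RingHom.id k)))
    rw [CommRingCat.ofHom_id, Spec.map_id]
    infer_instance
  obtain ⟨z⟩ : Nonempty ↥ξ.1.base.left := ⟨(inv ξ.1.base.hom) (IsLocalRing.closedPoint k)⟩
  obtain ⟨i, w, -⟩ := hs z
  obtain ⟨t, ht⟩ := hsec (𝒰.f i) ⟨i⟩
  haveI : Etale (𝒰.f i) := hP i
  let U : Over (Spec (CommRingCat.of k)) := Over.mk (𝒰.f i ≫ ξ.1.base.hom)
  haveI : Nonempty ↥U.left := ⟨w⟩
  haveI : LocallyOfFiniteType U.hom := inferInstanceAs (LocallyOfFiniteType (𝒰.f i ≫ ξ.1.base.hom))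
  obtain ⟨x⟩ := Groth.L24.Lang.exists_geomPoint (k := k) kb U
  let t' : U ⟶ ξ.1.P := Over.homMk t (by
    show t ≫ ξ.1.P.hom = 𝒰.f i ≫ ξ.1.base.hom
    rw [← Over.w ξ.1.π, ← Category.assoc]
    exact congrArg (· ≫ ξ.1.base.hom) ht)
  let x' : SGA7.Pts kb U := x
  let p : SGA7.Pts kb ξ.1.P := x' ≫ t'
  exact ⟨⟨p, (isFin x').comp t', tdiv (isTors ξ) (frob k kb • p) p, sm_tdiv _ _ _⟩⟩

variable {ξ ξ' : Obj aX}

/-- The element attached to a morphism of framed objects. -/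
def elt (F : Frame kb ξ) (F' : Frame kb ξ') (f : ξ ⟶ ξ') : SGA7.Pts kb G := tdiv (isTors ξ') (F.p ≫ f.1.top) F'.p

theorem comp_top (F : Frame kb ξ) (F' : Frame kb ξ') (f : ξ ⟶ ξ') : F.p ≫ f.1.top = sm ξ'.1.act (elt F F' f)⁻¹ F'.p := by
  conv_rhs => rw [← sm_tdiv (isTors ξ') (F.p ≫ f.1.top) F'.p]
  exact (inv_sm _ _ _).symm

theorem elt_spec (F : Frame kb ξ) (F' : Frame kb ξ') (f : ξ ⟶ ξ') :
    elt F F' f * F.a * (frob k kb • elt F F' f)⁻¹ = F'.a ∧ sm aX (elt F F' f) F.x = F'.x := by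
  let g := elt F F' f
  have h1 : sm ξ'.1.act g (F.p ≫ f.1.top) = F'.p := sm_tdiv _ _ _
  constructor
  · refine (isTors ξ').inj (p := frob k kb • F'.p) ?_
    rw [F'.eq]
    have h2 := congrArg (· ≫ f.1.top) F.eq
    simp only [sm_comp _ _ _ ξ'.1.act f.1.eqv] at h2
    have h3 : frob k kb • F'.p = sm ξ'.1.act (frob k kb • g) ((frob k kb • F.p) ≫ f.1.top) := by
      rw [← h1, smul_sm]
      exact congrArg (sm ξ'.1.act _) (Category.assoc (SGA7.specAut (frob k kb)) F.p f.1.top).symm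
    rw [h3, sm_mul, inv_sm, sm_mul, h2, h1]
  · have h2 := congrArg (· ≫ ξ'.1.φ) h1
    simp only [sm_comp _ _ _ aX ξ'.1.eqv, Category.assoc, f.1.wφ] at h2
    exact h2

theorem elt_injective (F : Frame kb ξ) (F' : Frame kb ξ') : Function.Injective (elt F F') := fun f f' h =>
  hom_ext (equivariant_ext (isTors ξ) F.fin f.1.eqv f'.1.eqv (by rw [comp_top F F' f, comp_top F F' f', h]))

theorem exists_top (F : Frame kb ξ) (F' : Frame kb ξ') (g : SGA7.Pts kb G)
    (ha : g * F.a * (frob k kb • g)⁻¹ = F'.a) :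
    ∃ f : ξ.1.P ⟶ ξ'.1.P, (ξ.1.act.act ≫ f = (G ◁ f) ≫ ξ'.1.act.act) ∧ F.p ≫ f = sm ξ'.1.act g⁻¹ F'.p := by
  refine exists_equivariant (isTors ξ) F.fin (IsFin.sm' _ _ F'.fin) F.a F.eq ?_
  rw [smul_sm, smul_inv', ← sm_mul]
  conv_rhs => rw [← F'.eq, ← sm_mul, ← ha]
  congr 1
  group

theorem exists_elt_eq (F : Frame kb ξ) (F' : Frame kb ξ') (g : SGA7.Pts kb G)
    (ha : g * F.a * (frob k kb • g)⁻¹ = F'.a) (hx : sm aX g F.x = F'.x) : ∃ f, elt F F' f = g := by
  obtain ⟨f, hf, hfp⟩ := exists_top F F' g ha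
  obtain ⟨f', hf', hfp'⟩ := exists_top F' F g⁻¹ (by rw [← ha, smul_inv']; group)
  haveI : IsIso f := by
    refine ⟨f', equivariant_ext (aY := ξ.1.act) (isTors ξ) F.fin ?_ (by simp) ?_,
      equivariant_ext (aY := ξ'.1.act) (isTors ξ') F'.fin ?_ (by simp) ?_⟩
    · rw [MonoidalCategory.whiskerLeft_comp, Category.assoc, ← hf', reassoc_of% hf]
    · rw [← Category.assoc, hfp, sm_comp _ _ _ ξ.1.act hf', hfp', inv_inv, inv_sm, Category.comp_id]
    · rw [MonoidalCategory.whiskerLeft_comp, Category.assoc, ← hf, reassoc_of% hf']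
    · rw [← Category.assoc, hfp', inv_inv, sm_comp _ _ _ ξ'.1.act hf, hfp, sm_inv, Category.comp_id]
  refine ⟨mkHom f hf ?_, ?_⟩
  · refine equivariant_ext (aY := aX) (isTors ξ) F.fin ?_ ξ.1.eqv ?_
    · rw [MonoidalCategory.whiskerLeft_comp, Category.assoc, ← ξ'.1.eqv, reassoc_of% hf]
    · rw [← Category.assoc, hfp, sm_comp _ _ _ aX ξ'.1.eqv]
      show sm aX g⁻¹ F'.x = F.x
      rw [← hx, inv_sm]
  · exact (eq_tdiv (isTors ξ') (show sm ξ'.1.act g (F.p ≫ f) = F'.p by rw [hfp, sm_inv])).symm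

/-- Morphisms of framed rational points are the elements conjugating one frame to the other. -/
def homEquiv (F : Frame kb ξ) (F' : Frame kb ξ') :
    (ξ ⟶ ξ') ≃ {g : SGA7.Pts kb G // g * F.a * (frob k kb • g)⁻¹ = F'.a ∧ sm aX g F.x = F'.x} :=
  Equiv.ofBijective (fun f => ⟨elt F F' f, elt_spec F F' f⟩)
    ⟨fun _ _ h => elt_injective F F' (congrArg Subtype.val h), fun g => by
      obtain ⟨f, hf⟩ := exists_elt_eq F F' g.1 g.2.1 g.2.2
      exact ⟨f, Subtype.ext hf⟩⟩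

theorem nat_card_aut (ξ : Obj aX) : Nat.card (Aut ξ) = Nat.card (ξ ⟶ ξ) :=
  Nat.card_congr (Equiv.ofBijective (fun e => e.hom) ⟨fun _ _ h => Iso.ext h,
    fun f => haveI := isIso_hom f; ⟨asIso f, rfl⟩⟩)

variable (aX) in
/-- The pairs `(a, x)` come from rational points. -/
def HasObj (a : SGA7.Pts kb G) (x : SGA7.Pts kb X) : Prop := ∃ (ξ : Obj aX) (F : Frame kb ξ), F.a = a ∧ F.x = x

/-- The twisted fixed points of `X`. -/
abbrev XFix (aX : AlgGrp.Action G X) (a : SGA7.Pts kb G) : Type u :=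
  {x : SGA7.Pts kb X // sm aX a (frob k kb • x) = x}

/-- The twisted centraliser. -/
abbrev GFix (a : SGA7.Pts kb G) : Type u := {g : SGA7.Pts kb G // g * a * (frob k kb • g)⁻¹ = a}

/-- Twisted conjugacy. -/
def Conj (a b : SGA7.Pts kb G) : Prop := ∃ g : SGA7.Pts kb G, g * a * (frob k kb • g)⁻¹ = b

theorem count_eq (h : StkCnt.IsEssFinite (Obj aX)) {J : Type*} [Fintype J] (a : J → SGA7.Pts kb G)
    (hdis : ∀ i j, Conj (a i) (a j) → i = j) (hall : ∀ b, Nonempty (XFix aX b) → ∃ j, Conj b (a j))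
    (hobj : ∀ j (x : XFix aX (a j)), HasObj aX (a j) x.1) [∀ j, Finite (XFix aX (a j))]
    [∀ j, Finite (GFix (a j))] :
    StkCnt.count (Obj aX) h = ∑ j, (Nat.card (XFix aX (a j)) : ℚ) / (Nat.card (GFix (a j)) : ℚ) := by
  classical
  choose O F hFa hFx using hobj
  let Q := Σ j, XFix aX (a j)
  letI : ∀ j, Fintype (XFix aX (a j)) := fun j => Fintype.ofFinite _
  letI : Fintype Q := inferInstanceAs (Fintype (Σ j, XFix aX (a j)))
  let cls : Q → StkCnt.IsoCl (Obj aX) := fun q => StkCnt.IsoCl.mk (O q.1 q.2)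
  have hsurj : Function.Surjective cls := Quotient.ind fun ξ => by
    obtain ⟨F₀⟩ := exists_frame kb ξ
    obtain ⟨j, g, hg⟩ := hall F₀.a ⟨⟨F₀.x, F₀.x_eq⟩⟩
    have hx : sm aX (a j) (frob k kb • sm aX g F₀.x) = sm aX g F₀.x := by
      rw [smul_sm, ← sm_mul, ← hg, inv_mul_cancel_right, sm_mul, F₀.x_eq]
    let q : Q := ⟨j, sm aX g F₀.x, hx⟩
    obtain ⟨f, -⟩ := exists_elt_eq F₀ (F q.1 q.2) g (by rw [hg, hFa]) (by rw [hFx])
    haveI := isIso_hom f
    exact ⟨q, Quotient.sound (s := isIsomorphicSetoid _) ⟨(asIso f).symm⟩⟩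
  letI : Fintype (StkCnt.IsoCl (Obj aX)) := Fintype.ofSurjective cls hsurj
  rw [StkCnt.count_eq_sum]
  calc ∑ c, ((StkCnt.autCard (Obj aX) c : ℕ) : ℚ)⁻¹
      = ∑ c, ∑ q ∈ Finset.univ.filter (fun q : Q => cls q = c), ((Nat.card (GFix (a q.1)) : ℚ))⁻¹ := by
        refine Finset.sum_congr rfl fun c _ => ?_
        obtain ⟨q₀, rfl⟩ := hsurj c
        rw [show cls q₀ = StkCnt.IsoCl.mk (O q₀.1 q₀.2) from rfl, StkCnt.autCard_mk, nat_card_aut]
        let S : Finset Q := Finset.univ.filter (fun q : Q => cls q = cls q₀)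
        have hmem : ∀ q : S, Nonempty (O q₀.1 q₀.2 ≅ O q.1.1 q.1.2) := fun q =>
          Quotient.exact (s := isIsomorphicSetoid _) ((Finset.mem_filter.1 q.2).2.symm)
        have hfst : ∀ q : S, q.1.1 = q₀.1 := fun q => by
          obtain ⟨e⟩ := hmem q
          refine (hdis _ _ ⟨elt (F q₀.1 q₀.2) (F q.1.1 q.1.2) e.hom, ?_⟩).symm
          have := (elt_spec (F q₀.1 q₀.2) (F q.1.1 q.1.2) e.hom).1
          rwa [hFa, hFa] at this
        let i : ∀ q : S, O q₀.1 q₀.2 ≅ O q.1.1 q.1.2 := fun q => (hmem q).some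
        let Φ : S × (O q₀.1 q₀.2 ⟶ O q₀.1 q₀.2) → GFix (a q₀.1) := fun z =>
          ⟨elt (F q₀.1 q₀.2) (F z.1.1.1 z.1.1.2) (z.2 ≫ (i z.1).hom), by
            have := (elt_spec (F q₀.1 q₀.2) (F z.1.1.1 z.1.1.2) (z.2 ≫ (i z.1).hom)).1
            rw [hFa, hFa] at this
            exact this.trans (congrArg a (hfst z.1))⟩
        have hΦ : Function.Bijective Φ := by
          constructor
          · rintro ⟨⟨⟨j, x⟩, hq⟩, f⟩ ⟨⟨⟨j', x'⟩, hq'⟩, f'⟩ e
            have e' := congrArg Subtype.val e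
            obtain rfl : j = j' := (hfst ⟨_, hq⟩).trans (hfst ⟨_, hq'⟩).symm
            obtain rfl : x = x' := by
              apply Subtype.ext
              have h1 := (elt_spec (F q₀.1 q₀.2) (F j x) (f ≫ (i ⟨_, hq⟩).hom)).2
              have h2 := (elt_spec (F q₀.1 q₀.2) (F j x') (f' ≫ (i ⟨_, hq'⟩).hom)).2
              rw [hFx, hFx] at h1 h2
              simp only [Φ] at e'
              rw [← h1, ← h2, e']
            exact Prod.ext rfl ((cancel_mono (i ⟨_, hq⟩).hom).1 (elt_injective _ _ e'))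
          · intro g
            have hx : sm aX (a q₀.1) (frob k kb • sm aX g.1 q₀.2.1) = sm aX g.1 q₀.2.1 := by
              conv_rhs => rw [← q₀.2.2, ← sm_mul]
              rw [smul_sm, ← sm_mul]
              congr 1
              exact (mul_inv_eq_iff_eq_mul.1 g.2).symm
            let q : Q := ⟨q₀.1, sm aX g.1 q₀.2.1, hx⟩
            obtain ⟨f, hf⟩ := exists_elt_eq (F q₀.1 q₀.2) (F q.1 q.2) g.1 (by rw [hFa, hFa]; exact g.2)
              (by rw [hFx, hFx])
            haveI := isIso_hom f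
            let qs : S := ⟨q, Finset.mem_filter.2 ⟨Finset.mem_univ _,
              Quotient.sound (s := isIsomorphicSetoid _) ⟨(asIso f).symm⟩⟩⟩
            refine ⟨(qs, f ≫ (i qs).inv), Subtype.ext ?_⟩
            show elt _ _ ((f ≫ (i qs).inv) ≫ (i qs).hom) = g.1
            rw [Category.assoc, Iso.inv_hom_id, Category.comp_id]
            exact hf
        have hc := Nat.card_congr (Equiv.ofBijective Φ hΦ)
        rw [Nat.card_prod, Nat.card_eq_fintype_card, Fintype.card_coe] at hc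
        have hne : (S.card : ℚ) ≠ 0 := Nat.cast_ne_zero.2 (Finset.card_ne_zero.2 ⟨q₀, by simp [S]⟩)
        rw [Finset.sum_congr rfl (g := fun _ => ((Nat.card (GFix (a q₀.1)) : ℚ))⁻¹)
          (fun q hq => by rw [hfst ⟨q, hq⟩]), Finset.sum_const, nsmul_eq_mul, ← hc, Nat.cast_mul, mul_inv,
          mul_inv_cancel_left₀ hne]
    _ = ∑ q : Q, ((Nat.card (GFix (a q.1)) : ℚ))⁻¹ := Finset.sum_fiberwise _ _ _
    _ = ∑ j, (Nat.card (XFix aX (a j)) : ℚ) / (Nat.card (GFix (a j)) : ℚ) := by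
        rw [Fintype.sum_sigma]
        refine Finset.sum_congr rfl fun j _ => ?_
        show (∑ _y : XFix aX (a j), ((Nat.card (GFix (a j)) : ℚ))⁻¹) = _
        rw [Finset.sum_const, nsmul_eq_mul, Finset.card_univ, ← Nat.card_eq_fintype_card, div_eq_mul_inv]

end Groth.L24.Count
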