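import Groth.Agent.L24.Count.BaseFieldFun
import Groth.Agent.L24.Count.Fibre

/-! The rational points of a quotient stack over a finite extension. -/

set_option autoImplicit false
set_option linter.style.haveILetI false
set_option backward.isDefEq.respectTransparency false
set_option backward.isDefEq.respectTransparency.types false

universe u

open CategoryTheory CategoryTheory.Limits MonoidalCategory CartesianMonoidalCategory MonObj AlgebraicGeometry

noncomputable section

namespace Groth.L24.Count

variable (k : Type u) [Field k] (k' : Type u) [Field k'] [Algebra k k']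

/-- The structure morphism of an extension. -/
abbrev extHom : Spec (CommRingCat.of k') ⟶ Spec (CommRingCat.of k) :=
  Spec.map (CommRingCat.ofHom (algebraMap k k'))

/-- The point of an extension, over the base. -/
def ptIso : (Over.map (extHom k k')).obj (SGA7.pt (K := k') k') ≅ SGA7.pt (K := k) k' :=
  Over.isoMk (Iso.refl _) (by
    show 𝟙 _ ≫ Spec.map (CommRingCat.ofHom (algebraMap k k')) =
      Spec.map (CommRingCat.ofHom (algebraMap k' k')) ≫ extHom k k'
    rw [Algebra.algebraMap_self, CommRingCat.ofHom_id, Spec.map_id])

variable {k} {G X : Over (Spec (CommRingCat.of k))} [GrpObj G] (aX : AlgGrp.Action G X)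

theorem ptCount_ext (h : StkCnt.IsEssFinite (StkCnt.pts (AlgSt.QuotSt Scheme.etalePrecoverage G aX) k')) :
    ∃ h' : StkCnt.IsEssFinite (Obj (aX.bc (extHom k k'))),
      StkCnt.count (Obj (aX.bc (extHom k k'))) h' =
        StkCnt.ptCount (AlgSt.QuotSt Scheme.etalePrecoverage G aX) k' h :=
  BaseField.count_eq (f := extHom k k') (K := Scheme.etalePrecoverage) (aX := aX) (ptIso k k') h

end Groth.L24.Count
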