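import Groth.Prelude.Def_Frob
import Groth.Prelude.Def_W4c3convisocdirimgFrobIter
import Groth.Agent.L24.Count.Equivariant

/-! The Frobenius of points is composition with the absolute Frobenius of the scheme. -/

set_option autoImplicit false
set_option linter.style.haveILetI false
set_option linter.unusedSectionVars false
set_option backward.isDefEq.respectTransparency false
set_option backward.isDefEq.respectTransparency.types false

universe u

open CategoryTheory AlgebraicGeometry

noncomputable section

namespace Groth.L24.Count

theorem frobIter_comp {X Y : Scheme.{u}} (p : ℕ) [Fact p.Prime] [FrobSch.IsCharP X p] [FrobSch.IsCharP Y p]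
    (f : X ⟶ Y) (n : ℕ) : FrobSch.frobIter X p n ≫ f = f ≫ FrobSch.frobIter Y p n := by
  induction n with
  | zero => simp
  | succ n ih =>
    rw [FrobSch.frobIter_succ, FrobSch.frobIter_succ, Category.assoc, ih, ← Category.assoc, FrobSch.frob_comp,
      Category.assoc]

theorem frobIter_spec (p : ℕ) [Fact p.Prime] (A : Type u) [CommRing A] [CharP A p] (n : ℕ) :
    FrobSch.frobIter (Spec (CommRingCat.of A)) p n = Spec.map (CommRingCat.ofHom (iterateFrobenius A p n)) := by
  induction n with
  | zero =>
    rw [iterateFrobenius_zero]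
    exact (Spec.map_id _).symm
  | succ n ih =>
    have h1 : FrobSch.frob (Spec (CommRingCat.of A)) p = Spec.map (CommRingCat.ofHom (frobenius A p)) := by
      refine ext_of_isAffine (CommRingCat.hom_ext (RingHom.ext fun s => ?_))
      obtain ⟨a, rfl⟩ := (Scheme.ΓSpecIso (CommRingCat.of A)).commRingCatIsoToRingEquiv.symm.surjective s
      refine Eq.trans ?_ congr($(Scheme.ΓSpecIso_inv_naturality (CommRingCat.ofHom (frobenius A p))) a)
      exact (map_pow (Scheme.ΓSpecIso (CommRingCat.of A)).inv.hom a p).symm
    rw [FrobSch.frobIter_succ, ih, h1, ← Spec.map_comp]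
    congr 1
    ext x
    simp [iterateFrobenius_def, frobenius_def, ← pow_mul, pow_succ]

variable {k : Type u} [Field k] [Finite k] {kb : Type u} [Field kb] [Algebra k kb] [IsAlgClosure k kb]

/-- The Frobenius endomorphism of a scheme over a finite field. -/
theorem exists_frobenius (Y : Over (Spec (CommRingCat.of k))) :
    ∃ F : Y ⟶ Y, ∀ y : SGA7.Pts kb Y, frob k kb • y = y ≫ F := by
  classical
  letI := Fintype.ofFinite k
  obtain ⟨n, hp, hc⟩ := FiniteField.card k (ringChar k)
  haveI : Fact (ringChar k).Prime := ⟨hp⟩
  haveI : CharP kb (ringChar k) := charP_of_injective_algebraMap (algebraMap k kb).injective _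
  haveI : FrobSch.IsCharP Y.left (ringChar k) := FrobSch.IsCharP.of_hom Y.hom _
  have hk : FrobSch.frobIter (Spec (CommRingCat.of k)) (ringChar k) n = 𝟙 _ := by
    rw [frobIter_spec, show iterateFrobenius k (ringChar k) n = RingHom.id k from RingHom.ext fun x => by
      rw [iterateFrobenius_def, ← hc, FiniteField.pow_card]; rfl]
    exact Spec.map_id _
  refine ⟨Over.homMk (FrobSch.frobIter Y.left (ringChar k) n) (by rw [frobIter_comp, hk, Category.comp_id]), fun y => ?_⟩
  haveI : FrobSch.IsCharP (SGA7.pt (K := k) kb).left (ringChar k) := FrobSch.isCharP_Spec kb _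
  apply Over.OverMorphism.ext
  show Spec.map _ ≫ y.left = y.left ≫ FrobSch.frobIter Y.left (ringChar k) n
  refine Eq.trans ?_ (frobIter_comp (ringChar k) y.left n)
  refine congrArg (· ≫ y.left) ?_
  refine Eq.trans ?_ (frobIter_spec (ringChar k) kb n).symm
  exact congrArg (fun t => Spec.map (CommRingCat.ofHom t)) (RingHom.ext fun x => by
    rw [iterateFrobenius_def, ← hc, ← Nat.card_eq_fintype_card]; exact frob_apply x)

end Groth.L24.Count
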