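import Groth.Agent.L24.Count.BGFinite
import Groth.Agent.L24.Count.CountPairs
import Groth.Agent.L24.Count.BaseFieldFun
import Groth.Agent.S14276
import Groth.Agent.L24.Tors.QuotEtale
import Groth.Prelude.Def_NonAbH2
import Mathlib.Algebra.BigOperators.Finprod

/-! Torsors over a finite field as rational points of the classifying stack. -/

set_option autoImplicit false
set_option linter.style.haveILetI false
set_option backward.isDefEq.respectTransparency false
set_option backward.isDefEq.respectTransparency.types false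

universe u

open CategoryTheory CategoryTheory.Limits MonoidalCategory CartesianMonoidalCategory MonObj AlgebraicGeometry

noncomputable section

namespace Groth.L24.Count

variable {k : Type u} [Field k] {G : Over (Spec (CommRingCat.of k))} [GrpObj G]

instance : LocallyOfFiniteType (𝟙_ (Over (Spec (CommRingCat.of k)))).hom :=
  inferInstanceAs (LocallyOfFiniteType (𝟙 (Spec (CommRingCat.of k))))

theorem isEssFinite_of_finite [Finite k] [IsFinite G.hom] :
    StkCnt.IsEssFinite (Obj (AlgSt.trivAction G)) := by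
  classical
  let kb := AlgebraicClosure k
  let aX := AlgSt.trivAction G
  haveI : IsAlgClosed kb := IsAlgClosure.isAlgClosed k
  haveI : LocallyOfFiniteType G.hom := inferInstance
  haveI : LocallyOfFiniteType (𝟙_ (Over (Spec (CommRingCat.of k)))).hom :=
    inferInstanceAs (LocallyOfFiniteType (𝟙 (Spec (CommRingCat.of k))))
  haveI := finite_pts_of_isFinite kb G
  haveI : ∀ T : Over (Spec (CommRingCat.of k)), Subsingleton (T ⟶ 𝟙_ (Over (Spec (CommRingCat.of k)))) :=
    fun T => ⟨fun a b => toUnit_unique a b⟩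
  choose O F hFa hFx using fun a : SGA7.Pts kb G =>
    hasObj aX a ⟨toUnit _, Subsingleton.elim _ _⟩
  refine ⟨Finite.of_surjective (fun a => StkCnt.IsoCl.mk (O a)) (Quotient.ind fun ξ => ?_), fun ξ ξ' => ?_⟩
  · obtain ⟨F₀⟩ := exists_frame kb ξ
    obtain ⟨f, -⟩ := exists_elt_eq F₀ (F F₀.a) 1 (by rw [hFa, smul_one, inv_one, _root_.mul_one, _root_.one_mul])
      (Subsingleton.elim _ _)
    haveI := isIso_hom f
    exact ⟨F₀.a, Quotient.sound (s := isIsomorphicSetoid _) ⟨(asIso f).symm⟩⟩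
  · obtain ⟨F₀⟩ := exists_frame kb ξ
    obtain ⟨F₁⟩ := exists_frame kb ξ'
    exact Finite.of_equiv _ (homEquiv F₀ F₁).symm

theorem finsum_eq_one [Finite k] [IsFinite G.hom] [Etale G.hom] :
    Finite (NonAbH1.H1Sch G Scheme.fppfPrecoverage) ∧
      ∑ᶠ ξ : NonAbH1.H1Sch G Scheme.fppfPrecoverage,
        ((Nat.card (NonAbH1.EquivIso (Quot.out ξ).act (Quot.out ξ).act) : ℚ))⁻¹ = 1 := by
  classical
  let W := NonAbH1.TorsorSch G Scheme.fppfPrecoverage
  let aX := AlgSt.trivAction G
  let T := SGA7.pt (K := k) k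
  haveI hT : IsIso T.hom := by
    show IsIso (Spec.map (CommRingCat.ofHom (RingHom.id k)))
    rw [CommRingCat.ofHom_id, Spec.map_id]
    infer_instance
  let π : ∀ P : W, P.X ⟶ T := fun P => Over.homMk (P.X.hom ≫ inv T.hom) (by simp)
  let Φ : W → Obj aX := fun P =>
    ⟨{ base := T, P := P.X, act := P.act, π := π P
       cart := (show IsTors P.act from P.isTorsor.1).cart (π P) fun _ => to_pt_eq
       loc := BaseField.loc_of_comp Scheme.etalePrecoverage P.X.hom (asIso T.hom).symm
        (Groth.Agent.S14276.result G P.X P.act P.isTorsor)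
       φ := toUnit _
       eqv := toUnit_unique _ _ }, rfl⟩
  have hiff : ∀ P Q : W, ∀ (i : P.X ≅ Q.X), (P.act.act ≫ i.hom = (G ◁ i.hom) ≫ Q.act.act) →
      ∃ f : Φ P ⟶ Φ Q, f.1.top = i.hom := fun P Q i hi => by
    let t : (Φ P).1.P ⟶ (Φ Q).1.P := i.hom
    haveI : IsIso t := inferInstanceAs (IsIso i.hom)
    exact ⟨mkHom t hi (toUnit_unique _ _), rfl⟩
  have hEquiv : ∀ P Q : W, Nonempty (NonAbH1.EquivIso P.act Q.act ≃ (Φ P ≅ Φ Q)) := fun P Q => by
    choose m hm using fun e : NonAbH1.EquivIso P.act Q.act => hiff P Q e.iso e.comm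
    refine ⟨Equiv.ofBijective (fun e => haveI := isIso_hom (m e); asIso (m e)) ⟨fun e e' h => ?_, fun i => ?_⟩⟩
    · have h1 := congrArg (fun j : Φ P ≅ Φ Q => j.hom.1.top) h
      simp only [asIso_hom, hm] at h1
      cases e; cases e'
      simp only [NonAbH1.EquivIso.mk.injEq]
      exact Iso.ext h1
    · haveI := isIso_top i.hom
      let j : P.X ≅ Q.X := @asIso _ _ P.X Q.X i.hom.1.top ‹_›
      exact ⟨⟨j, i.hom.1.eqv⟩, Iso.ext (hom_ext (hm _))⟩
  let cls : NonAbH1.H1Sch G Scheme.fppfPrecoverage → StkCnt.IsoCl (Obj aX) :=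
    Quot.lift (fun P => StkCnt.IsoCl.mk (Φ P)) fun P Q ⟨e⟩ =>
      Quotient.sound (s := isIsomorphicSetoid _) ⟨(hEquiv P Q).some e⟩
  have hcls : Function.Bijective cls := by
    refine ⟨fun x y h => ?_, Quotient.ind fun ξ => ?_⟩
    · induction x using Quot.ind with | _ P => induction y using Quot.ind with | _ Q =>
      obtain ⟨i⟩ := Quotient.exact (s := isIsomorphicSetoid _) h
      exact Quot.sound ⟨(hEquiv P Q).some.symm i⟩
    · have hb : ξ.1.base = T := ξ.2
      haveI : IsIso ξ.1.base.hom := hb ▸ hT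
      have hl := BaseField.loc_of_comp Scheme.etalePrecoverage ξ.1.π.left (asIso ξ.1.base.hom) ξ.1.loc
      have hl' : NonAbH1.IsLocallyTrivialFor Scheme.fppfPrecoverage ξ.1.P := by
        obtain ⟨R, hR, hs⟩ := hl
        refine ⟨R, BigSite.etalePrecoverage_le_fppfPrecoverage _ hR, fun S' g hg => ?_⟩
        obtain ⟨s, hs'⟩ := hs g hg
        refine ⟨s, ?_⟩
        rw [← Over.w ξ.1.π]
        exact hs'
      let P : W := ⟨ξ.1.P, ξ.1.act, isTors ξ, hl'⟩
      let t : (Φ P).1.P ⟶ ξ.1.P := 𝟙 _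
      haveI : IsIso t := inferInstanceAs (IsIso (𝟙 ξ.1.P))
      let f : Φ P ⟶ ξ := mkHom t (by
        show P.act.act ≫ 𝟙 _ = (G ◁ 𝟙 _) ≫ ξ.1.act.act
        rw [Category.comp_id, MonoidalCategory.whiskerLeft_id, Category.id_comp]) (toUnit_unique _ _)
      haveI := isIso_hom f
      exact ⟨Quot.mk _ P, Quotient.sound (s := isIsomorphicSetoid _) ⟨asIso f⟩⟩
  have hess := isEssFinite_of_finite (G := G)
  haveI := hess.finite_isoCl
  haveI := Finite.of_injective cls hcls.1
  refine ⟨inferInstance, ?_⟩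
  haveI : IsIso (𝟙_ (Over (Spec (CommRingCat.of k)))).hom := inferInstanceAs (IsIso (𝟙 (Spec (CommRingCat.of k))))
  letI := Fintype.ofFinite (NonAbH1.H1Sch G Scheme.fppfPrecoverage)
  letI := Fintype.ofFinite (StkCnt.IsoCl (Obj aX))
  rw [← count_eq_one_of_finite aX hess, StkCnt.count_eq_sum, finsum_eq_sum_of_fintype, ← hcls.sum_comp]
  refine Finset.sum_congr rfl fun x _ => ?_
  conv_rhs => rw [← Quot.out_eq x]
  show _ = ((Nat.card (Aut (Φ x.out)) : ℕ) : ℚ)⁻¹
  rw [Nat.card_congr (hEquiv x.out x.out).some]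
  rfl

end Groth.L24.Count
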