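import Groth.Agent.L24.Count.Fibre
import Groth.Agent.L24.Lang.FinitePts
import Groth.Prelude.Def_GalTw2

/-! Levels of a twisting element: finiteness of twisted fixed points and the cocycle of an element. -/

set_option autoImplicit false
set_option linter.style.haveILetI false
set_option linter.unusedSectionVars false
set_option backward.isDefEq.respectTransparency false
set_option backward.isDefEq.respectTransparency.types false

universe u

open CategoryTheory MonoidalCategory CartesianMonoidalCategory MonObj AlgebraicGeometry Limits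
open Groth.L14.Stack (iter iter_add exists_level exists_eq_pow_on pow_apply_frob)

noncomputable section

namespace Groth.L24.Count

variable {k : Type u} [Field k] [Finite k] {kb : Type u} [Field kb] [Algebra k kb] [IsAlgClosure k kb]
  {G X : Over (Spec (CommRingCat.of k))} [GrpObj G] [LocallyOfFiniteType G.hom] [QuasiCompact G.hom]

theorem finite_pts (E : Type u) [Field E] [Finite E] [Algebra k E] (Y : Over (Spec (CommRingCat.of k)))
    [LocallyOfFiniteType Y.hom] [QuasiCompact Y.hom] : Finite (SGA7.Pts (K := k) E Y) := by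
  haveI : LocallyOfFiniteType (GalTw.bcK E Y).hom :=
    inferInstanceAs (LocallyOfFiniteType (pullback.snd Y.hom (SGA7.pt (K := k) E).hom))
  haveI : QuasiCompact (GalTw.bcK E Y).hom :=
    inferInstanceAs (QuasiCompact (pullback.snd Y.hom (SGA7.pt (K := k) E).hom))
  haveI := Groth.L24.Lang.finite_rational_points E (GalTw.bcK E Y)
  refine Finite.of_injective (β := Over.mk (𝟙 (Spec (CommRingCat.of E))) ⟶ GalTw.bcK E Y)
    (fun q => GalTw.secOfPt E q) fun q q' h => ?_
  have := congrArg (fun s => s.left ≫ pullback.fst Y.hom (SGA7.pt (K := k) E).hom) h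
  simp only [GalTw.secOfPt_left, pullback.lift_fst] at this
  exact Over.OverMorphism.ext this

theorem finite_defOver (E : IntermediateField k kb) [FiniteDimensional k E] (Y : Over (Spec (CommRingCat.of k)))
    [LocallyOfFiniteType Y.hom] [QuasiCompact Y.hom] : Finite {y : SGA7.Pts kb Y // DefOver E y} := by
  haveI : Finite E := Module.finite_of_finite k
  haveI := finite_pts (k := k) E Y
  exact Finite.of_surjective (fun q => ⟨inc E ≫ q, q, rfl⟩) fun ⟨y, q, hq⟩ => ⟨q, Subtype.ext hq⟩

variable (G) in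
/-- The subgroup of points defined over an intermediate field. -/
def ptsOver (E : IntermediateField k kb) : Subgroup (SGA7.Pts kb G) where
  carrier := {g | DefOver E g}
  one_mem' := ⟨1, MonObj.comp_one _⟩
  mul_mem' := by
    rintro _ _ ⟨g, rfl⟩ ⟨h, rfl⟩
    exact ⟨g * h, MonObj.comp_mul _ _ _⟩
  inv_mem' := by
    rintro _ ⟨g, rfl⟩
    exact ⟨g⁻¹, GrpObj.comp_inv _ _⟩

theorem smul_ptsOver (E : IntermediateField k kb) [FiniteDimensional k E] (σ : kb ≃ₐ[k] kb) {g : SGA7.Pts kb G}
    (hg : g ∈ ptsOver G E) : σ • g ∈ ptsOver G E := by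
  haveI : Finite E := Module.finite_of_finite k
  haveI : IsGalois k E := GaloisField.instIsGaloisOfFinite
  obtain ⟨q, rfl⟩ := hg
  exact ⟨_, (smul_defOver E σ q).symm⟩

theorem isOpen_stab (a : SGA7.Pts kb G) : IsOpen {σ : kb ≃ₐ[k] kb | σ • a = a} := by
  haveI : Algebra.IsAlgebraic k kb := IsAlgClosure.isAlgebraic
  obtain ⟨E, hE, ha⟩ := isFin a
  refine Subgroup.isOpen_mono (H₁ := E.fixingSubgroup) (H₂ := MulAction.stabilizer (kb ≃ₐ[k] kb) a) (fun σ hσ => ?_)
    (IntermediateField.fixingSubgroup_isOpen E)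
  rw [MulAction.mem_stabilizer_iff]
  conv_rhs => rw [← one_smul (kb ≃ₐ[k] kb) a]
  exact ha.smul_eq fun x hx => (IntermediateField.mem_fixingSubgroup_iff _ _).1 hσ x hx

theorem exists_stable (a : SGA7.Pts kb G) : ∃ H : Subgroup (SGA7.Pts kb G), (H : Set (SGA7.Pts kb G)).Finite ∧
    a ∈ H ∧ ∀ (σ : kb ≃ₐ[k] kb) (x : SGA7.Pts kb G), x ∈ H → σ • x ∈ H := by
  haveI : Algebra.IsAlgebraic k kb := IsAlgClosure.isAlgebraic
  obtain ⟨E, hE, ha⟩ := isFin a
  exact ⟨ptsOver G E, @Set.toFinite _ _ (finite_defOver E G), ha, fun σ x hx => smul_ptsOver E σ hx⟩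

/-- A finite level of a twisting element. -/
structure Level (a : SGA7.Pts kb G) where
  E : IntermediateField k kb
  fd : FiniteDimensional k E
  N : ℕ
  def_a : DefOver E a
  mem : ∀ x, (frob k kb ^ N) x = x → x ∈ E
  one : iter (frob k kb) a N = 1
  periodic : ∀ m, iter (frob k kb) a (N + m) = iter (frob k kb) a m
  mod : ∀ m n : ℕ, (∀ x ∈ E, (frob k kb ^ m) x = (frob k kb ^ n) x) → m % N = n % N

theorem exists_levelOf (a : SGA7.Pts kb G) : Nonempty (Level a) := by
  classical
  haveI : Algebra.IsAlgebraic k kb := IsAlgClosure.isAlgebraic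
  haveI : IsAlgClosed kb := IsAlgClosure.isAlgClosed k
  letI := Fintype.ofFinite k
  obtain ⟨E₀, hE₀, ha⟩ := isFin a
  haveI : Finite (ptsOver G E₀) := finite_defOver E₀ G
  haveI : Finite E₀ := Module.finite_of_finite k
  letI := Fintype.ofFinite E₀
  let π := frob k kb
  set d := Module.finrank k E₀ with hd
  have hd0 : 0 < d := Module.finrank_pos
  have hπd : ∀ x ∈ E₀, (π ^ d) x = x := fun x hx => by
    rw [pow_apply_frob π frob_apply, Nat.card_eq_fintype_card, hd, ← Module.card_eq_pow_finrank (K := k) (V := E₀)]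
    exact congrArg Subtype.val (FiniteField.pow_card (⟨x, hx⟩ : E₀))
  have hiter : ∀ m, iter π a m ∈ ptsOver G E₀ := fun m => by
    induction m with
    | zero => exact (ptsOver G E₀).one_mem
    | succ m ih => exact (ptsOver G E₀).mul_mem ha (smul_ptsOver E₀ π ih)
  have hfix : ∀ (σ : kb ≃ₐ[k] kb), (∀ x ∈ E₀, σ x = x) → ∀ h ∈ ptsOver G E₀, σ • h = h := fun σ hσ h hh => by
    conv_rhs => rw [← one_smul (kb ≃ₐ[k] kb) h]
    exact DefOver.smul_eq hh hσ
  let g : ptsOver G E₀ := ⟨iter π a d, hiter d⟩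
  have hjd : ∀ j : ℕ, iter π a (d * j) = (g ^ j : ptsOver G E₀).1 := fun j => by
    induction j with
    | zero => simp [iter]
    | succ j ih => rw [Nat.mul_succ, add_comm, iter_add, hfix _ hπd _ (hiter _), ih, pow_succ', Subgroup.coe_mul]
  set N := d * orderOf g with hNdef
  have hπN : ∀ x ∈ E₀, (π ^ N) x = x := fun x hx => by
    rw [hNdef, pow_mul]
    induction orderOf g with
    | zero => simp
    | succ j ih => rw [pow_succ, AlgEquiv.mul_apply, hπd x hx, ih]
  have hsN : iter π a N = 1 := by rw [hNdef, hjd, pow_orderOf_eq_one]; rfl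
  obtain ⟨E, hE, hmem, hmod⟩ := exists_level π frob_apply N (Nat.mul_pos hd0 (orderOf_pos g))
  exact ⟨⟨E, hE, N, ha.mono fun x hx => hmem x (hπN x hx), hmem, hsN,
    fun m => by rw [iter_add, hfix _ hπN _ (hiter _), hsN, _root_.one_mul], hmod⟩⟩

variable {a : SGA7.Pts kb G}

theorem Level.iter_mod (L : Level a) (m : ℕ) : iter (frob k kb) a m = iter (frob k kb) a (m % L.N) := by
  conv_lhs => rw [← Nat.mod_add_div m L.N]
  induction m / L.N with
  | zero => simp
  | succ j ih => rw [Nat.mul_succ, ← add_assoc, Nat.add_comm (m % L.N + L.N * j), L.periodic, ih]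

theorem Level.iter_mem (L : Level a) (m : ℕ) : iter (frob k kb) a m ∈ ptsOver G L.E := by
  haveI := L.fd
  induction m with
  | zero => exact (ptsOver G L.E).one_mem
  | succ m ih => exact (ptsOver G L.E).mul_mem L.def_a (smul_ptsOver L.E (frob k kb) ih)

theorem finite_xFix {X : Over (Spec (CommRingCat.of k))} [LocallyOfFiniteType X.hom] [QuasiCompact X.hom]
    (aX : AlgGrp.Action G X) (a : SGA7.Pts kb G) : Finite (XFix aX a) := by
  obtain ⟨L⟩ := exists_levelOf a
  haveI := L.fd
  haveI := finite_defOver L.E X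
  refine Finite.of_injective (β := {y : SGA7.Pts kb X // DefOver L.E y})
    (fun x => ⟨x.1, defOver_of_fixed L.E _ L.mem _ ?_⟩) fun x x' h => Subtype.ext (Subtype.mk.inj h)
  have key : ∀ m, sm aX (iter (frob k kb) a m) ((frob k kb ^ m) • x.1) = x.1 := fun m => by
    induction m with
    | zero => rw [pow_zero, one_smul]; exact sm_one aX x.1
    | succ m ih => rw [iter, sm_mul, pow_succ', mul_smul, ← smul_sm, ih, x.2]
  simpa [L.one, sm_one] using key L.N

theorem finite_gFix (a : SGA7.Pts kb G) : Finite (GFix a) := by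
  obtain ⟨L⟩ := exists_levelOf a
  haveI := L.fd
  haveI := finite_defOver L.E G
  refine Finite.of_injective (β := {y : SGA7.Pts kb G // DefOver L.E y})
    (fun g => ⟨g.1, defOver_of_fixed L.E _ L.mem _ ?_⟩) fun x x' h => Subtype.ext (Subtype.mk.inj h)
  have h0 : a * (frob k kb • g.1) = g.1 * a := (mul_inv_eq_iff_eq_mul.1 g.2).symm
  have key : ∀ m, iter (frob k kb) a m * ((frob k kb ^ m) • g.1) = g.1 * iter (frob k kb) a m := fun m => by
    induction m with
    | zero => rw [pow_zero, one_smul, iter, _root_.one_mul, _root_.mul_one]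
    | succ m ih =>
      rw [iter, pow_succ', mul_smul, _root_.mul_assoc, ← smul_mul', ih, smul_mul', ← _root_.mul_assoc, h0, _root_.mul_assoc]
  simpa [L.one] using key L.N

/-- The cocycle of an element on a finite level, with values in the points of that level. -/
theorem Level.exists_cocycle (L : Level a) [IsGalois k L.E] :
    ∃ z : GpH1.OneCocycle (L.E ≃ₐ[k] L.E) (SGA7.Pts L.E G),
      (inc L.E ≫ z ((frob k kb).restrictNormal L.E) : SGA7.Pts kb G) = a := by
  haveI := L.fd
  haveI : Algebra.IsAlgebraic k kb := IsAlgClosure.isAlgebraic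
  let π := frob k kb
  choose l hl using AlgEquiv.restrictNormalHom_surjective (F := k) (K₁ := L.E) kb
  choose m hm using fun σ : L.E ≃ₐ[k] L.E => exists_eq_pow_on π frob_apply L.E (l σ)
  choose z hz using fun σ : L.E ≃ₐ[k] L.E => L.iter_mem (m σ)
  have hlift : ∀ (σ : L.E ≃ₐ[k] L.E) (x : kb) (hx : x ∈ L.E), ((σ ⟨x, hx⟩ : L.E) : kb) = (π ^ m σ) x :=
    fun σ x hx => by
      rw [← hm σ x hx]
      conv_lhs => rw [← hl σ]
      exact (l σ).restrictNormal_commutes L.E ⟨x, hx⟩
  have huniq : ∀ (σ : L.E ≃ₐ[k] L.E) (n : ℕ), (∀ x (hx : x ∈ L.E), ((σ ⟨x, hx⟩ : L.E) : kb) = (π ^ n) x) →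
      iter π a (m σ) = iter π a n := fun σ n h => by
    rw [L.iter_mod (m σ), L.iter_mod n, L.mod (m σ) n fun x hx => (hlift σ x hx).symm.trans (h x hx)]
  refine ⟨⟨z, fun σ τ => inc_cancel L.E ?_⟩, ?_⟩
  · rw [MonObj.comp_mul, hz, hz]
    have e : (inc L.E ≫ (σ • z τ) : SGA7.Pts kb G) = (π ^ m σ) • iter π a (m τ) := by
      conv_lhs => rw [← hl σ]
      refine (smul_defOver L.E (l σ) (z τ)).symm.trans ?_
      rw [hz]
      exact DefOver.smul_eq (L.iter_mem _) (hm σ)
    rw [e, ← iter_add]
    exact huniq _ _ fun x hx => by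
      rw [AlgEquiv.mul_apply, pow_add, AlgEquiv.mul_apply, ← hlift τ x hx]
      exact hlift σ _ _
  · show inc L.E ≫ z (π.restrictNormal L.E) = a
    rw [hz, huniq _ 1 fun x hx => by rw [pow_one]; exact π.restrictNormal_commutes L.E ⟨x, hx⟩]
    simp [iter]

end Groth.L24.Count
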