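import Groth.Agent.L24.Count.Const
import Groth.Agent.L24.Count.Level
import Mathlib.AlgebraicGeometry.Sites.Etale
import Mathlib.RingTheory.Etale.Field

/-! Torsors attached to cocycles, and rational points of a quotient stack attached to twisted fixed points. -/

set_option autoImplicit false
set_option linter.style.haveILetI false
set_option linter.unusedSectionVars false
set_option backward.isDefEq.respectTransparency false
set_option backward.isDefEq.respectTransparency.types false

universe u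

open CategoryTheory CategoryTheory.Limits MonoidalCategory CartesianMonoidalCategory MonObj AlgebraicGeometry
open GalTw Groth.L11.GalTwist

noncomputable section

namespace Groth.L24.Count

section Galois

variable {k : Type u} [Field k] {E : Type u} [Field E] [Algebra k E] [FiniteDimensional k E] [IsGalois k E]
  {G : Over (Spec (CommRingCat.of k))} [GrpObj G] [IsAffineHom G.hom]

/-- Right translation by a point. -/
def rightTr (g : SGA7.Pts E G) : Aut (bcK E G) where
  hom := 𝟙 (bcK E G) * cst G g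
  inv := 𝟙 (bcK E G) * cst G g⁻¹
  hom_inv_id := by
    rw [MonObj.comp_mul, comp_cst, Category.comp_id, _root_.mul_assoc, ← cst_mul, mul_inv_cancel, cst_one,
      _root_.mul_one]
  inv_hom_id := by
    rw [MonObj.comp_mul, comp_cst, Category.comp_id, _root_.mul_assoc, ← cst_mul, inv_mul_cancel, cst_one,
      _root_.mul_one]

theorem exists_torsor (z : GpH1.OneCocycle (E ≃ₐ[k] E) (SGA7.Pts E G)) :
    ∃ (P : Over (Spec (CommRingCat.of k))) (aP : AlgGrp.Action G P), IsTors aP ∧
      ∃ pE : SGA7.Pts E P, ∀ σ : E ≃ₐ[k] E, σ • pE = sm aP (z σ)⁻¹ pE := by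
  let t : (E ≃ₐ[k] E) → SGA7.Pts E G := fun σ => (z σ)⁻¹
  have htr : ∀ (T : Over (Spec (CommRingCat.of k))) (u : bcK E T ⟶ bcK E G) (g : SGA7.Pts E G),
      u ≫ (𝟙 (bcK E G) * cst G g) = u * cst T g := fun T u g => by
    rw [MonObj.comp_mul, Category.comp_id, comp_cst]
  let a : GpH1.OneCocycle (E ≃ₐ[k] E) (Aut (bcK E G)) := ⟨fun σ => rightTr (t σ), fun σ τ => by
    apply Iso.ext
    show 𝟙 _ * cst G (t (σ * τ)) = twHom σ (𝟙 _ * cst G (t τ)) ≫ (𝟙 _ * cst G (t σ))
    rw [twHom_mul_hom, twHom_id, twHom_cst, htr, _root_.mul_assoc, ← cst_mul]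
    simp only [t, z.2 σ τ, _root_.mul_inv_rev, smul_inv']⟩
  haveI : IsAffine (bcK E G).left := by
    haveI : IsAffineHom (bcK E G).hom :=
      MorphismProperty.pullback_snd (P := @IsAffineHom) G.hom (SGA7.pt (K := k) E).hom ‹IsAffineHom G.hom›
    exact isAffine_of_isAffineHom (bcK E G).hom
  obtain ⟨P, ⟨φ, hφ⟩, -⟩ := exists_isTwist_of_orbit a fun _ => ⟨⊤, isAffineOpen_top _, fun _ => trivial⟩
  have hw : ∀ σ (T : Over (Spec (CommRingCat.of k))) (v : bcK E T ⟶ bcK E P),
      twHom σ (v ≫ φ.hom) * cst T (t σ) = twHom σ v ≫ φ.hom := fun σ T v => by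
    rw [← htr, twHom_comp, Category.assoc]
    exact congrArg (twHom σ v ≫ ·) (cocycle_spec hφ σ)
  have hi : ∀ σ (T : Over (Spec (CommRingCat.of k))) (v : bcK E T ⟶ bcK E G),
      twHom σ (v ≫ φ.inv) = (twHom σ v * cst T (t σ)) ≫ φ.inv := fun σ T v => by
    rw [twHom_comp, ← cocycle_spec_inv hφ σ, ← Category.assoc]
    exact congrArg (· ≫ φ.inv) (htr T (twHom σ v) (t σ))
  let A : bcK E (G ⊗ P) ⟶ bcK E G := bcMap (fst G P) * (bcMap (snd G P) ≫ φ.hom)
  obtain ⟨act, hact⟩ := exists_bcMap_eq (A ≫ φ.inv) fun σ => by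
    rw [hi, twHom_mul_hom, twHom_bcMap, _root_.mul_assoc, hw, twHom_bcMap]
  have hφact : ∀ (T : Over (Spec (CommRingCat.of k))) (g : T ⟶ G) (p : T ⟶ P),
      bcMap (K := E) (lift g p ≫ act) ≫ φ.hom = bcMap g * (bcMap p ≫ φ.hom) := fun T g p => by
    rw [bcMap_comp, hact, Category.assoc, Category.assoc, φ.inv_hom_id, Category.comp_id, MonObj.comp_mul,
      ← Category.assoc, ← bcMap_comp, ← bcMap_comp, lift_fst, lift_snd]
  have hext : ∀ {T : Over (Spec (CommRingCat.of k))} {p q : T ⟶ P},
      bcMap (K := E) p ≫ φ.hom = bcMap q ≫ φ.hom → p = q := fun h =>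
    bcMap_injective (K := E) ((cancel_mono φ.hom).1 h)
  let aP : AlgGrp.Action G P :=
    { act := act
      one_act := by
        apply hext
        rw [show (η[G] ▷ P) = lift (1 : 𝟙_ _ ⊗ P ⟶ G) (λ_ P).hom from by
          apply CartesianMonoidalCategory.hom_ext
          · rw [whiskerRight_fst, lift_fst, Hom.one_def, toUnit_unique (fst _ _) (toUnit _)]
          · rw [whiskerRight_snd, lift_snd, leftUnitor_hom],
          hφact, bcMap_one, _root_.one_mul]
      mul_act := by
        apply hext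
        have e1 : μ[G] ▷ P = lift ((fst (G ⊗ G) P ≫ fst G G) * (fst (G ⊗ G) P ≫ snd G G)) (snd (G ⊗ G) P) := by
          apply CartesianMonoidalCategory.hom_ext
          · rw [whiskerRight_fst, lift_fst, Hom.mul_def, ← comp_lift, lift_fst_snd, Category.comp_id]
          · rw [whiskerRight_snd, lift_snd]
        have e2 : (α_ G G P).hom ≫ (G ◁ act) ≫ act = lift (fst (G ⊗ G) P ≫ fst G G)
            (lift (fst (G ⊗ G) P ≫ snd G G) (snd (G ⊗ G) P) ≫ act) ≫ act := by
          rw [← Category.assoc]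
          congr 1
          apply CartesianMonoidalCategory.hom_ext
          · simp
          · simp only [Category.assoc, whiskerLeft_snd, lift_snd]
            rw [← Category.assoc]
            congr 1
            apply CartesianMonoidalCategory.hom_ext <;> simp
        rw [e1, e2, hφact, hφact, hφact, bcMap_mul, _root_.mul_assoc] }
  have hP : IsTors aP := by
    obtain ⟨d, hd⟩ := exists_bcMap_eq ((bcMap (fst P P) ≫ φ.hom) * (bcMap (snd P P) ≫ φ.hom)⁻¹) fun σ => by
      rw [twHom_mul_hom, twHom_hom_inv]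
      have h1 := hw σ _ (bcMap (fst P P))
      have h2 := hw σ _ (bcMap (snd P P))
      rw [twHom_bcMap] at h1 h2
      conv_rhs => rw [← h1, ← h2, _root_.mul_inv_rev, _root_.mul_assoc, mul_inv_cancel_left]
    refine ⟨lift d (snd P P), ?_, ?_⟩
    · apply CartesianMonoidalCategory.hom_ext
      · rw [Category.assoc, lift_fst, Category.id_comp]
        apply bcMap_injective (K := E)
        rw [bcMap_comp, hd, MonObj.comp_mul, GrpObj.comp_inv, ← Category.assoc, ← Category.assoc, ← bcMap_comp,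
          ← bcMap_comp, lift_fst, lift_snd]
        show bcMap act ≫ φ.hom * _ = _
        rw [hact, Category.assoc, φ.inv_hom_id, Category.comp_id, mul_inv_cancel_right]
      · simp
    · apply CartesianMonoidalCategory.hom_ext
      · rw [Category.assoc, lift_fst, Category.id_comp]
        apply hext
        show bcMap (lift d (snd P P) ≫ act) ≫ φ.hom = _
        rw [hφact, hd, inv_mul_cancel_right]
      · simp
  obtain ⟨pE, hpE⟩ := exists_secOfPt_eq ((1 : 𝟙_ _ ⟶ bcK E G) ≫ φ.inv)
  refine ⟨P, aP, hP, pE, fun σ => ?_⟩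
  have hp1 : cst (𝟙_ _) pE ≫ φ.hom = 1 := by
    rw [cst, hpE, Category.assoc, Category.assoc, φ.inv_hom_id, Category.comp_id, MonObj.comp_one]
  apply cst_injective
  rw [← cancel_mono φ.hom]
  have h1 := hw σ _ (cst (𝟙_ _) pE)
  rw [hp1, twHom_cst, ← cst_one (T := 𝟙_ _) (G := G), twHom_cst, smul_one, cst_one, _root_.one_mul] at h1
  rw [← h1]
  refine Eq.symm ?_
  show cst (𝟙_ _) (lift (t σ) pE ≫ act) ≫ φ.hom = _
  rw [cst, ← diag_bcMap, Category.assoc, Category.assoc, hφact, MonObj.comp_mul, MonObj.comp_mul,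
    diag_bcMap, ← Category.assoc (diag k E), diag_bcMap, ← Category.assoc]
  show cst (𝟙_ _) (t σ) * (cst (𝟙_ _) pE ≫ φ.hom) = _
  rw [hp1, _root_.mul_one]

theorem etale_pt : Etale (SGA7.pt (K := k) E).hom := by
  show Etale (Spec.map (CommRingCat.ofHom (algebraMap k E)))
  rw [HasRingHomProperty.Spec_iff (P := @Etale), CommRingCat.hom_ofHom, RingHom.etale_algebraMap]
  haveI := Algebra.FormallyEtale.of_isSeparable k E
  exact ⟨inferInstance, (Algebra.FinitePresentation.of_finiteType (R := k) (A := E)).1 inferInstance⟩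

end Galois

section Objects

variable {k : Type u} [Field k] [Finite k] {kb : Type u} [Field kb] [Algebra k kb] [IsAlgClosure k kb]
  {G X : Over (Spec (CommRingCat.of k))} [GrpObj G] [LocallyOfFiniteType G.hom] [IsAffineHom G.hom]
  [LocallyOfFiniteType X.hom] (aX : AlgGrp.Action G X)

theorem hasObj (a : SGA7.Pts kb G) (x : XFix aX a) : HasObj aX a x.1 := by
  haveI : Algebra.IsAlgebraic k kb := IsAlgClosure.isAlgebraic
  haveI : QuasiCompact G.hom := inferInstance
  obtain ⟨L⟩ := exists_levelOf a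
  haveI := L.fd
  haveI : Finite L.E := Module.finite_of_finite k
  haveI : IsGalois k L.E := GaloisField.instIsGaloisOfFinite
  obtain ⟨z, hz⟩ := L.exists_cocycle
  obtain ⟨P, aP, hP, pE, hp⟩ := exists_torsor z
  let p : SGA7.Pts kb P := inc L.E ≫ pE
  have hfin : IsFin p := ⟨L.E, inferInstance, pE, rfl⟩
  have hπ : frob k kb • p = sm aP a⁻¹ p := by
    rw [smul_defOver, hp, comp_sm, GrpObj.comp_inv, hz]
  have hap : sm aP a (frob k kb • p) = p := by rw [hπ, sm_inv]
  obtain ⟨φ, hφ, hφp⟩ := exists_equivariant (aY := aX) hP hfin (isFin x.1) a hap x.2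
  let π : P ⟶ SGA7.pt (K := k) k := Over.homMk P.hom (by
    show P.hom ≫ Spec.map (CommRingCat.ofHom (RingHom.id k)) = P.hom
    rw [CommRingCat.ofHom_id, Spec.map_id]
    exact Category.comp_id _)
  have loc : NonAbH1.IsLocallyTrivialFor Scheme.etalePrecoverage (Over.mk π.left : Over (SGA7.pt (K := k) k).left) := by
    let f : (SGA7.pt (K := k) L.E).left ⟶ (SGA7.pt (K := k) k).left := (SGA7.pt (K := k) L.E).hom
    have hf : Etale f := etale_pt
    have hs : Surjective f := ⟨fun x => ⟨Classical.arbitrary (PrimeSpectrum L.E), Subsingleton.elim (α := PrimeSpectrum k) _ _⟩⟩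
    refine ⟨Presieve.singleton f, (Scheme.singleton_mem_precoverage_iff (P := @Etale) f).2 ⟨hs.surj, hf⟩, ?_⟩
    rintro T g ⟨⟩
    exact ⟨pE.left, Over.w pE⟩
  let ξ : Obj aX := ⟨⟨SGA7.pt (K := k) k, P, aP, π, hP.cart π (fun _ => to_pt_eq), loc, φ, hφ⟩, rfl⟩
  exact ⟨ξ, ⟨p, hfin, a, hap⟩, rfl, hφp⟩

/-- The point count of a quotient stack as a sum over twisted conjugacy classes. -/
theorem count_eq_sum [QuasiCompact X.hom] (h : StkCnt.IsEssFinite (Obj aX)) {J : Type*} [Fintype J]
    (a : J → SGA7.Pts kb G) (hdis : ∀ i j, Conj (a i) (a j) → i = j) (hall : ∀ b, ∃ j, Conj b (a j)) :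
    StkCnt.count (Obj aX) h = ∑ j, (Nat.card (XFix aX (a j)) : ℚ) / (Nat.card (GFix (a j)) : ℚ) := by
  haveI : QuasiCompact G.hom := inferInstance
  haveI : ∀ j, Finite (XFix aX (a j)) := fun j => finite_xFix aX (a j)
  haveI : ∀ j, Finite (GFix (a j)) := fun j => finite_gFix (a j)
  exact count_eq h a hdis (fun b _ => hall b) fun j x => hasObj aX (a j) x

end Objects

end Groth.L24.Count
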