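import Groth.Agent.L24.Count.Sections
import Groth.Agent.L24.Count.FieldPoint
import Groth.Agent.L24.Count.Twist
import Groth.Agent.L24.Count.Rational

/-! Models of geometric points of a quotient stack over finite extensions. -/

set_option autoImplicit false
set_option linter.style.haveILetI false
set_option backward.isDefEq.respectTransparency false
set_option backward.isDefEq.respectTransparency.types false
set_option maxHeartbeats 1000000

universe u

open CategoryTheory CategoryTheory.Limits MonoidalCategory CartesianMonoidalCategory MonObj AlgebraicGeometry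

noncomputable section

namespace Groth.L24.Count

/-- A point of a torsor gives a cartesian morphism from the trivial torsor. -/
theorem exists_hom_of_point {S : Scheme.{u}} {K : Precoverage Scheme.{u}} [K.HasIsos] {G : Over S} [GrpObj G]
    {X : Over S} {aX : AlgGrp.Action G X} (ξ : AlgSt.QuotObj K G aX) {T : Over S} (jm : T ⟶ ξ.base) (p : T ⟶ ξ.P)
    (hp : p ≫ ξ.π = jm) : ∃ f : trivObj K aX (p ≫ ξ.φ) ⟶ ξ, f.base = jm := by
  let top : G ⊗ T ⟶ ξ.P := sm ξ.act (fst G T) (snd G T ≫ p)
  have hπ : ∀ {Z : Over S} (g : Z ⟶ G) (z : Z ⟶ ξ.P), sm ξ.act g z ≫ ξ.π = z ≫ ξ.π := fun g z => by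
    rw [sm, Category.assoc, ξ.cart.w, lift_snd_assoc]
  have htop : top ≫ ξ.π = snd G T ≫ jm := by rw [hπ, Category.assoc, hp]
  have hcart : IsPullback top (snd G T) ξ.π jm := by
    refine IsPullback.of_isLimit' ⟨htop⟩ (PullbackCone.IsLimit.mk _ (fun s => lift
      (ξ.cart.lift s.fst (s.snd ≫ p) (by rw [Category.assoc, hp, s.condition]) ≫ fst G ξ.P) s.snd)
      (fun s => ?_) (fun s => lift_snd _ _) fun s m h1 h2 => ?_)
    · show _ ≫ top = _
      simp only [top, comp_sm, lift_fst, lift_snd_assoc]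
      conv_lhs => arg 3; rw [← ξ.cart.lift_snd s.fst (s.snd ≫ p) (by rw [Category.assoc, hp, s.condition])]
      rw [← comp_sm, ← act_eq_sm, ξ.cart.lift_fst]
    · change m ≫ top = s.fst at h1
      change m ≫ snd G T = s.snd at h2
      apply CartesianMonoidalCategory.hom_ext
      · rw [lift_fst]
        have e : ξ.cart.lift s.fst (s.snd ≫ p) (by rw [Category.assoc, hp, s.condition]) =
            lift (m ≫ fst G T) (s.snd ≫ p) := by
          apply ξ.cart.hom_ext
          · rw [ξ.cart.lift_fst, ← h1, ← h2]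
            simp only [top, comp_sm, Category.assoc]
            rfl
          · rw [ξ.cart.lift_snd, lift_snd]
        rw [e, lift_fst]
      · rw [lift_snd, h2]
  exact ⟨{ base := jm
           top := top
           eqv := by
            show (AlgSt.leftMul G T).act ≫ top = (G ◁ top) ≫ ξ.act.act
            rw [act_eq_sm ξ.act]
            simp only [top, comp_sm, whiskerLeft_fst, whiskerLeft_snd, AlgSt.leftMul, lift_fst, lift_snd_assoc,
              ← Category.assoc, ← sm_mul]
            simp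
           cart := hcart
           wφ := by
            rw [sm_comp _ _ _ aX ξ.eqv]
            show sm aX (fst G T) ((snd G T ≫ p) ≫ ξ.φ) = (G ◁ (p ≫ ξ.φ)) ≫ aX.act
            rw [act_eq_sm aX, comp_sm, whiskerLeft_fst, whiskerLeft_snd, Category.assoc] }, rfl⟩

variable {k : Type u} [Field k] {k' : Type u} [Field k'] [Algebra k k'] [Finite k'] {kb : Type u} [Field kb]
  [Algebra k kb] [Algebra k' kb] [IsScalarTower k k' kb] [IsAlgClosure k' kb]
  {G X : Over (Spec (CommRingCat.of k))} [GrpObj G] [LocallyOfFiniteType G.hom] [IsAffineHom G.hom]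
  [LocallyOfFiniteType X.hom] (aX : AlgGrp.Action G X)

/-- A geometric point with orbit stable under the Galois group of the extension lies on a torsor over it. -/
theorem exists_model (jm : SGA7.pt (K := k) kb ⟶ SGA7.pt k') (hj : jm.left = Spec.map (CommRingCat.ofHom (algebraMap k' kb)))
    (x : SGA7.Pts (K := k) kb X)
    (hx : ∀ (σ : kb ≃ₐ[k'] kb) (s : SGA7.pt (K := k) kb ⟶ SGA7.pt kb),
      s.left = Spec.map (CommRingCat.ofHom σ.toRingEquiv.toRingHom) → ∃ g : SGA7.Pts (K := k) kb G, sm aX g x = s ≫ x) :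
    ∃ (B : AlgSt.QuotObj Scheme.etalePrecoverage G aX) (hB : B.base = SGA7.pt (K := k) k') (p : SGA7.Pts (K := k) kb B.P),
      p ≫ B.π = jm ≫ eqToHom hB.symm ∧ p ≫ B.φ = x := by
  let f := extHom k k'
  let ε : (Over.map f).obj (SGA7.pt (K := k') kb) ≅ SGA7.pt (K := k) kb := Over.isoMk (Iso.refl _) (by
    show 𝟙 _ ≫ Spec.map (CommRingCat.ofHom (algebraMap k kb)) =
      Spec.map (CommRingCat.ofHom (algebraMap k' kb)) ≫ Spec.map (CommRingCat.ofHom (algebraMap k k'))
    rw [Category.id_comp, ← Spec.map_comp, ← CommRingCat.ofHom_comp, ← IsScalarTower.algebraMap_eq])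
  let he := fun Y => (Over.mapPullbackAdj f).homEquiv (SGA7.pt (K := k') kb) Y
  haveI : LocallyOfFiniteType (Red.bc f G).hom :=
    inferInstanceAs (LocallyOfFiniteType (pullback.snd G.hom f))
  haveI : IsAffineHom (Red.bc f G).hom :=
    MorphismProperty.pullback_snd (P := @IsAffineHom) G.hom f ‹IsAffineHom G.hom›
  haveI : LocallyOfFiniteType (Red.bc f X).hom :=
    inferInstanceAs (LocallyOfFiniteType (pullback.snd X.hom f))
  let π := frob k' kb
  let s : SGA7.pt (K := k) kb ⟶ SGA7.pt kb := ε.inv ≫ (Over.map f).map (SGA7.specAut π) ≫ ε.hom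
  obtain ⟨g, hg⟩ := hx π s (by
    show 𝟙 _ ≫ Spec.map _ ≫ 𝟙 _ = _
    rw [Category.id_comp, Category.comp_id]
    rfl)
  let x' : SGA7.Pts kb (Red.bc f X) := he X (ε.hom ≫ x)
  let a : SGA7.Pts kb (Red.bc f G) := he G (ε.hom ≫ g⁻¹)
  have hfix : sm (aX.bc f) a (π • x') = x' := by
    have e : (π • x' : SGA7.Pts kb (Red.bc f X)) = he X ((Over.map f).map (SGA7.specAut π) ≫ ε.hom ≫ x) :=
      ((Over.mapPullbackAdj f).homEquiv_naturality_left _ _).symm
    have e2 : (Over.map f).map (SGA7.specAut π) ≫ ε.hom ≫ x = ε.hom ≫ s ≫ x := by simp [s]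
    rw [e, e2]
    refine (AlgGrp.Action.lift_homEquiv_bc_act f aX _ _).trans (congrArg (he X) ?_)
    show sm aX (ε.hom ≫ g⁻¹) (ε.hom ≫ s ≫ x) = ε.hom ≫ x
    rw [← comp_sm, ← hg, inv_sm]
  obtain ⟨ξ, F, -, hFx⟩ := hasObj (aX.bc f) a ⟨x', hfix⟩
  let B := BaseField.D (ptIso k k') ξ
  refine ⟨B.1, B.2, ε.inv ≫ (Over.map f).map F.p, ?_, ?_⟩
  · apply Over.OverMorphism.ext
    show (ε.inv ≫ (Over.map f).map F.p).left ≫ ((Over.map f).map (BaseField.πB ξ) ≫ (ptIso k k').hom).left =
      jm.left ≫ 𝟙 _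
    have h1 : F.p ≫ BaseField.πB ξ = base k' kb := to_pt_eq _ _
    have h2 := congrArg (fun m => m.left) h1
    show (𝟙 _ ≫ F.p.left) ≫ (BaseField.πB ξ).left ≫ 𝟙 _ = _
    rw [Category.id_comp, Category.comp_id, Category.comp_id, hj]
    exact h2
  · show (ε.inv ≫ (Over.map f).map F.p) ≫ ((Over.mapPullbackAdj f).homEquiv ξ.1.P X).symm ξ.1.φ = x
    rw [Category.assoc, ← (Over.mapPullbackAdj f).homEquiv_naturality_left_symm]
    rw [show F.p ≫ ξ.1.φ = he X (ε.hom ≫ x) from hFx]
    rw [Equiv.symm_apply_apply, Iso.inv_hom_id_assoc]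

end Groth.L24.Count
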