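import Groth.Agent.L24.Count.Twist

/-! Representatives of the twisted conjugacy classes which carry rational points. -/

set_option autoImplicit false
set_option linter.style.haveILetI false
set_option linter.unusedSectionVars false

universe u

open CategoryTheory AlgebraicGeometry MonoidalCategory CartesianMonoidalCategory MonObj

noncomputable section

namespace Groth.L24.Count

variable {k : Type u} [Field k] [Finite k] {kb : Type u} [Field kb] [Algebra k kb] [IsAlgClosure k kb]
  {G X : Over (Spec (CommRingCat.of k))} [GrpObj G] [LocallyOfFiniteType G.hom] [IsAffineHom G.hom]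
  [LocallyOfFiniteType X.hom] [QuasiCompact X.hom] (aX : AlgGrp.Action G X)

theorem Conj.refl (a : SGA7.Pts kb G) : Conj a a := ⟨1, by simp⟩

theorem Conj.symm {a b : SGA7.Pts kb G} (h : Conj a b) : Conj b a := by
  obtain ⟨g, rfl⟩ := h
  exact ⟨g⁻¹, by rw [smul_inv']; group⟩

theorem Conj.trans {a b c : SGA7.Pts kb G} (h : Conj a b) (h' : Conj b c) : Conj a c := by
  obtain ⟨g, rfl⟩ := h
  obtain ⟨g', rfl⟩ := h'
  exact ⟨g' * g, by rw [smul_mul']; group⟩

theorem count_eq_sum' (h : StkCnt.IsEssFinite (Obj aX)) {J : Type*} [Fintype J]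
    (a : J → SGA7.Pts kb G) (hdis : ∀ i j, Conj (a i) (a j) → i = j)
    (hall : ∀ b, Nonempty (XFix aX b) → ∃ j, Conj b (a j)) :
    StkCnt.count (Obj aX) h = ∑ j, (Nat.card (XFix aX (a j)) : ℚ) / (Nat.card (GFix (a j)) : ℚ) := by
  haveI : QuasiCompact G.hom := inferInstance
  haveI : ∀ j, Finite (XFix aX (a j)) := fun j => finite_xFix aX (a j)
  haveI : ∀ j, Finite (GFix (a j)) := fun j => finite_gFix (a j)
  exact count_eq h a hdis hall fun j x => hasObj aX (a j) x

variable (kb) in
/-- An essentially finite groupoid of rational points has finitely many classes carrying points. -/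
theorem exists_reps (h : StkCnt.IsEssFinite (Obj aX)) :
    ∃ (n : ℕ) (a : Fin n → SGA7.Pts kb G), (∀ i j, Conj (a i) (a j) → i = j) ∧
      (∀ b, Nonempty (XFix aX b) → ∃ j, Conj b (a j)) ∧ ∀ j, Nonempty (XFix aX (a j)) := by
  classical
  let s : Setoid {b : SGA7.Pts kb G // Nonempty (XFix aX b)} :=
    ⟨fun b c => Conj b.1 c.1, fun b => Conj.refl b.1, Conj.symm, Conj.trans⟩
  choose O F hFa hFx using fun b : {b : SGA7.Pts kb G // Nonempty (XFix aX b)} => hasObj aX b.1 b.2.some
  haveI : Finite (StkCnt.IsoCl (Obj aX)) := h.finite_isoCl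
  let f : Quotient s → StkCnt.IsoCl (Obj aX) := fun q => StkCnt.IsoCl.mk (O q.out)
  have hf : Function.Injective f := fun q q' e => by
    obtain ⟨e'⟩ := Quotient.exact (s := isIsomorphicSetoid _) e
    rw [← q.out_eq, ← q'.out_eq]
    refine Quotient.sound (s := s) ⟨elt (F q.out) (F q'.out) e'.hom, ?_⟩
    have := (elt_spec (F q.out) (F q'.out) e'.hom).1
    rwa [hFa, hFa] at this
  haveI : Finite (Quotient s) := Finite.of_injective f hf
  obtain ⟨n, ⟨e⟩⟩ := Finite.exists_equiv_fin (Quotient s)
  refine ⟨n, fun j => (e.symm j).out.1, fun i j hij => ?_, fun b hb => ⟨e (Quotient.mk s ⟨b, hb⟩), ?_⟩,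
    fun j => (e.symm j).out.2⟩
  · refine e.symm.injective ?_
    rw [← (e.symm i).out_eq, ← (e.symm j).out_eq]
    exact Quotient.sound (s := s) hij
  · show Conj b (e.symm (e (Quotient.mk s ⟨b, hb⟩))).out.1
    rw [e.symm_apply_apply]
    exact Conj.symm (Quotient.mk_out (s := s) ⟨b, hb⟩)

end Groth.L24.Count
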