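import Groth.Prelude.Def_AlgSt5
import Groth.Agent.L24.Count.Tors
import Mathlib.CategoryTheory.FiberedCategory.Fiber

/-! Objects of a quotient stack with a section of their torsor. -/

set_option autoImplicit false
set_option linter.style.haveILetI false
set_option backward.isDefEq.respectTransparency false
set_option backward.isDefEq.respectTransparency.types false

universe u

open CategoryTheory Limits MonoidalCategory CartesianMonoidalCategory MonObj GrpObj AlgebraicGeometry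

noncomputable section

namespace Groth.L24.Count

variable {S : Scheme.{u}} {K : Precoverage Scheme.{u}} [K.HasIsos] {G : Over S} [GrpObj G] {X : Over S}
  {aX : AlgGrp.Action G X}

/-- The trivial torsor at a point. -/
abbrev trivObj (K : Precoverage Scheme.{u}) [K.HasIsos] (aX : AlgGrp.Action G X) {T : Over S} (x : T ⟶ X) :
    AlgSt.QuotObj K G aX :=
  (AlgSt.quotMap K G aX).obj ⟨T, ⟨x⟩⟩

theorem exists_hom_trivObj (ξ : AlgSt.QuotObj K G aX) {T : Over S} (h : ξ.base = T) (p : T ⟶ ξ.P)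
    (hp : p ≫ ξ.π = eqToHom h.symm) :
    ∃ (f : trivObj K aX (p ≫ ξ.φ) ⟶ ξ) (g : ξ ⟶ trivObj K aX (p ≫ ξ.φ)),
      f.base = eqToHom h.symm ∧ g.base = eqToHom h ∧ f ≫ g = 𝟙 _ ∧ g ≫ f = 𝟙 _ ∧
        lift (1 : T ⟶ G) (𝟙 T) ≫ f.top = p := by
  subst h
  simp only [eqToHom_refl] at hp ⊢
  let T := ξ.base
  let top : G ⊗ T ⟶ ξ.P := sm ξ.act (fst G T) (snd G T ≫ p)
  have hπ : ∀ {Z : Over S} (g : Z ⟶ G) (z : Z ⟶ ξ.P), sm ξ.act g z ≫ ξ.π = z ≫ ξ.π := fun g z => by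
    rw [sm, Category.assoc, ξ.cart.w, lift_snd_assoc]
  have htopπ : top ≫ ξ.π = snd G T := by
    rw [hπ, Category.assoc, hp, Category.comp_id]
  let c : ξ.P ⟶ G ⊗ ξ.P := ξ.cart.lift (𝟙 _) (ξ.π ≫ p) (by rw [Category.id_comp, Category.assoc, hp, Category.comp_id])
  have hc : c ≫ ξ.act.act = 𝟙 _ := ξ.cart.lift_fst _ _ _
  have hc' : c ≫ snd G ξ.P = ξ.π ≫ p := ξ.cart.lift_snd _ _ _
  let inv : ξ.P ⟶ G ⊗ T := lift (c ≫ fst G ξ.P) ξ.π
  have h1 : inv ≫ top = 𝟙 _ := by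
    simp only [top, inv, comp_sm, lift_fst, lift_snd_assoc, ← hc']
    rw [← comp_sm, ← act_eq_sm, hc]
  have h2 : top ≫ inv = 𝟙 _ := by
    have e : top ≫ c = lift (fst G T) (snd G T ≫ p) := ξ.cart.hom_ext
      (by rw [Category.assoc, hc, Category.comp_id]; rfl)
      (by rw [Category.assoc, hc', lift_snd, ← Category.assoc, htopπ])
    apply CartesianMonoidalCategory.hom_ext
    · rw [Category.assoc, lift_fst, ← Category.assoc, e, lift_fst, Category.id_comp]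
    · rw [Category.assoc, lift_snd, htopπ, Category.id_comp]
  haveI : IsIso top := ⟨inv, h2, h1⟩
  have heqv : (AlgSt.leftMul G T).act ≫ top = (G ◁ top) ≫ ξ.act.act := by
    rw [act_eq_sm ξ.act]
    simp only [top, comp_sm, whiskerLeft_fst, whiskerLeft_snd, AlgSt.leftMul, lift_fst, lift_snd_assoc,
      ← Category.assoc, ← sm_mul]
    simp
  have hφ : top ≫ ξ.φ = (G ◁ (p ≫ ξ.φ)) ≫ aX.act := by
    rw [sm_comp _ _ _ aX ξ.eqv, act_eq_sm aX, comp_sm, whiskerLeft_fst, whiskerLeft_snd, Category.assoc]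
  have hinv : ξ.act.act ≫ inv = (G ◁ inv) ≫ (AlgSt.leftMul G T).act := by
    rw [← cancel_mono top, Category.assoc, Category.assoc, h1, Category.comp_id, heqv,
      ← MonoidalCategory.whiskerLeft_comp_assoc, h1, MonoidalCategory.whiskerLeft_id, Category.id_comp]
  haveI : IsIso inv := ⟨top, h1, h2⟩
  haveI : IsIso (𝟙 T) := IsIso.id T
  let f : trivObj K aX (p ≫ ξ.φ) ⟶ ξ :=
    { base := 𝟙 T, top := top, eqv := heqv, cart := IsPullback.of_horiz_isIso ⟨htopπ.trans (Category.comp_id _).symm⟩, wφ := hφ }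
  let g : ξ ⟶ trivObj K aX (p ≫ ξ.φ) :=
    { base := 𝟙 T, top := inv, eqv := hinv
      cart := IsPullback.of_horiz_isIso ⟨(lift_snd _ _).trans (Category.comp_id _).symm⟩
      wφ := by
        show inv ≫ (G ◁ (p ≫ ξ.φ)) ≫ aX.act = ξ.φ
        rw [← hφ, ← Category.assoc, h1, Category.id_comp] }
  refine ⟨f, g, rfl, rfl, AlgSt.QuotObj.hom_ext (Category.id_comp _) h2, AlgSt.QuotObj.hom_ext (Category.id_comp _) h1, ?_⟩
  show lift (1 : T ⟶ G) (𝟙 T) ≫ top = p
  simp only [top, comp_sm, lift_fst, lift_snd_assoc, Category.id_comp, sm_one]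

theorem nonempty_iso_triv {T : Over S} (A : (AlgSt.QuotObj.forget K G aX).Fiber T) (p : T ⟶ A.1.P)
    (hp : p ≫ A.1.π = eqToHom A.2.symm) :
    Nonempty ((Functor.Fiber.mk (p := AlgSt.QuotObj.forget K G aX) (a := trivObj K aX (p ≫ A.1.φ)) rfl :
      (AlgSt.QuotObj.forget K G aX).Fiber T) ≅ A) := by
  obtain ⟨f, g, hf, hg, h1, h2, -⟩ := exists_hom_trivObj A.1 A.2 p hp
  exact ⟨{ hom := ⟨f, IsHomLift.of_fac _ _ _ rfl A.2 (by
             show 𝟙 T = eqToHom _ ≫ f.base ≫ eqToHom _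
             rw [hf]; simp)⟩
           inv := ⟨g, IsHomLift.of_fac _ _ _ A.2 rfl (by
             show 𝟙 T = eqToHom _ ≫ g.base ≫ eqToHom _
             rw [hg]; simp)⟩
           hom_inv_id := Subtype.ext h1
           inv_hom_id := Subtype.ext h2 }⟩

theorem iso_iff_orbit {T : Over S} (A B : (AlgSt.QuotObj.forget K G aX).Fiber T) (tA : T ⟶ A.1.P) (tB : T ⟶ B.1.P)
    (hA : tA ≫ A.1.π = eqToHom A.2.symm) (hB : tB ≫ B.1.π = eqToHom B.2.symm) :
    Nonempty (A ≅ B) ↔ ∃ g : T ⟶ G, lift g (tA ≫ A.1.φ) ≫ aX.act = tB ≫ B.1.φ := by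
  constructor
  · rintro ⟨f⟩
    haveI : Functor.IsHomLift (AlgSt.QuotObj.forget K G aX) (𝟙 T) f.hom.1 := f.hom.2
    have hbase : (AlgSt.QuotObj.forget K G aX).map f.hom.1 = eqToHom (A.2.trans B.2.symm) := by
      have := IsHomLift.fac' (AlgSt.QuotObj.forget K G aX) (𝟙 T) f.hom.1
      simpa using this
    have hπ : (tA ≫ f.hom.1.top) ≫ B.1.π = tB ≫ B.1.π := by
      refine ((Category.assoc _ _ _).trans ((congrArg (tA ≫ ·) f.hom.1.cart.w).trans ?_))
      refine (Category.assoc _ _ _).symm.trans ?_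
      refine (congrArg (· ≫ f.hom.1.base) hA).trans ?_
      refine (congrArg (eqToHom A.2.symm ≫ ·) hbase).trans ?_
      exact (eqToHom_trans _ _).trans hB.symm
    let d := B.1.cart.lift tB (tA ≫ f.hom.1.top) hπ.symm
    refine ⟨d ≫ fst G B.1.P, ?_⟩
    have h1 : lift (d ≫ fst G B.1.P) (tA ≫ f.hom.1.top) = d := by
      conv_lhs => arg 2; rw [← B.1.cart.lift_snd tB (tA ≫ f.hom.1.top) hπ.symm]
      rw [← comp_lift, lift_fst_snd, Category.comp_id]
    have h2 := sm_comp B.1.act (d ≫ fst G B.1.P) (tA ≫ f.hom.1.top) aX B.1.eqv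
    rw [Category.assoc tA, f.hom.1.wφ] at h2
    rw [sm, sm, h1, B.1.cart.lift_fst tB (tA ≫ f.hom.1.top) hπ.symm] at h2
    exact h2.symm
  · rintro ⟨g, hg⟩
    let t' := sm B.1.act g⁻¹ tB
    have ht' : t' ≫ B.1.π = eqToHom B.2.symm := by
      rw [show t' ≫ B.1.π = tB ≫ B.1.π from by
        simp only [t', sm, Category.assoc, B.1.cart.w, lift_snd_assoc]]
      exact hB
    have hx : t' ≫ B.1.φ = tA ≫ A.1.φ := by
      rw [sm_comp _ _ _ aX B.1.eqv, ← hg]
      exact inv_sm aX g _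
    obtain ⟨iA⟩ := nonempty_iso_triv A tA hA
    obtain ⟨iB⟩ := nonempty_iso_triv B t' ht'
    rw [hx] at iB
    exact ⟨iA.symm ≪≫ iB⟩

theorem exists_section_of_point {T : Over S} (x : T ⟶ X) :
    ∃ (A : (AlgSt.QuotObj.forget K G aX).Fiber T) (t : T ⟶ A.1.P), t ≫ A.1.π = eqToHom A.2.symm ∧ t ≫ A.1.φ = x := by
  refine ⟨Functor.Fiber.mk (p := AlgSt.QuotObj.forget K G aX) (a := trivObj K aX x) rfl, lift (1 : T ⟶ G) (𝟙 T), ?_, ?_⟩
  · exact lift_snd _ _
  · show lift (1 : T ⟶ G) (𝟙 T) ≫ (G ◁ x) ≫ aX.act = x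
    rw [← Category.assoc, lift_whiskerLeft, Category.id_comp]
    exact sm_one aX x

end Groth.L24.Count
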