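import Groth.Agent.L24.Count.Dominant
import Groth.Agent.L24.Count.Frobenius
import Groth.Agent.L24.Count.Level
import Groth.Agent.L25.ConnIrred
import Groth.Agent.L25.RatConn
import Mathlib.AlgebraicGeometry.AlgClosed.Basic
import Mathlib.AlgebraicGeometry.Morphisms.FinitePresentation

/-! Lang's theorem for a Frobenius twisted by conjugation, for an arbitrary connected group of finite type. -/

set_option autoImplicit false
set_option linter.style.haveILetI false
set_option linter.unusedSectionVars false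
set_option backward.isDefEq.respectTransparency false
set_option backward.isDefEq.respectTransparency.types false

universe u

open CategoryTheory CategoryTheory.Limits MonoidalCategory CartesianMonoidalCategory MonObj AlgebraicGeometry
open Topology

noncomputable section

namespace Groth.L24.Count

theorem exists_open_of_constructible {T : Type*} [TopologicalSpace T] {gp : T} (hgp : ∀ U : Set T, IsOpen U → U.Nonempty → gp ∈ U)
    {s : Set T} (hs : IsConstructible s) : ∃ U : Set T, IsOpen U ∧ gp ∈ U ∧ (U ⊆ s ∨ U ⊆ sᶜ) := by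
  induction hs using IsConstructible.empty_union_induction with
  | open_retrocompact U hU hUc =>
    by_cases h : gp ∈ U
    · exact ⟨U, hU, h, Or.inl subset_rfl⟩
    · exact ⟨Set.univ, isOpen_univ, trivial, Or.inr fun x _ hx => h (hgp U hU ⟨x, hx⟩)⟩
  | union s hs t ht h1 h2 =>
    obtain ⟨U, hU, hgU, hUs⟩ := h1
    obtain ⟨V, hV, hgV, hVt⟩ := h2
    refine ⟨U ∩ V, hU.inter hV, ⟨hgU, hgV⟩, ?_⟩
    rcases hUs with hUs | hUs
    · exact Or.inl fun x hx => Or.inl (hUs hx.1)
    rcases hVt with hVt | hVt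
    · exact Or.inl fun x hx => Or.inr (hVt hx.2)
    · exact Or.inr fun x hx h => h.elim (hUs hx.1) (hVt hx.2)
  | compl s hs h1 =>
    obtain ⟨U, hU, hgU, hUs⟩ := h1
    exact ⟨U, hU, hgU, hUs.symm.imp id fun h => by rwa [compl_compl]⟩

variable {k : Type u} [Field k] [Finite k] {kb : Type u} [Field kb] [Algebra k kb] [IsAlgClosure k kb]
  {A B : Over (Spec (CommRingCat.of k))} [GrpObj A] [GrpObj B]
  [LocallyOfFiniteType A.hom] [QuasiCompact A.hom] [LocallyOfFiniteType B.hom] [QuasiCompact B.hom]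
  [ConnectedSpace A.left]

/-- Every element of the coset `A b` is twisted conjugate to `b` under `A`. -/
theorem exists_twisted_lang (i : A ⟶ B) [IsMonHom i] (hi : ∀ g h : SGA7.Pts kb A, g ≫ i = h ≫ i → g = h)
    (c : B ⊗ A ⟶ A) (hc : c ≫ i = fst B A * (snd B A ≫ i) * (fst B A)⁻¹) (b : SGA7.Pts kb B) (x : SGA7.Pts kb A) :
    ∃ g : SGA7.Pts kb A, (g ≫ i) * b * (frob k kb • (g ≫ i))⁻¹ = (x ≫ i) * b := by
  classical
  haveI : IsAlgClosed kb := IsAlgClosure.isAlgClosed k
  haveI : Algebra.IsAlgebraic k kb := IsAlgClosure.isAlgebraic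
  let P := SGA7.pt (K := k) kb
  obtain ⟨F, hF⟩ := exists_frobenius (kb := kb) A
  let s : (A ⊗ P).left ⟶ Spec (CommRingCat.of kb) := (snd A P).left
  haveI : LocallyOfFiniteType s := inferInstanceAs (LocallyOfFiniteType (pullback.snd A.hom P.hom))
  haveI : QuasiCompact s := inferInstanceAs (QuasiCompact (pullback.snd A.hom P.hom))
  haveI : JacobsonSpace (A ⊗ P).left := LocallyOfFiniteType.jacobsonSpace s
  haveI : IrreducibleSpace (A ⊗ P).left := by
    haveI : GeometricallyConnected A.hom :=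
      Groth.L25.RatConn.geometricallyConnected_of_section A.hom η[A].left (Over.w η[A])
    haveI : ConnectedSpace (GalTw.bcK kb A).left :=
      GeometricallyConnected.geometrically_connectedSpace _ _ _ (IsPullback.of_hasPullback A.hom P.hom)
    exact Groth.L25.ConnIrred.irreducibleSpace (GalTw.bcK kb A)
  let cp := IsLocalRing.closedPoint kb
  -- points
  let pt : SGA7.Pts kb A → (A ⊗ P).left := fun g => (lift g (𝟙 P)).left cp
  have hpt : ∀ y : (A ⊗ P).left, IsClosed ({y} : Set (A ⊗ P).left) → ∃ g, pt g = y := fun y hy => by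
    let sec := pointOfClosedPoint s y hy
    have hsec : sec ≫ s = 𝟙 _ := pointOfClosedPoint_comp s y hy
    let g : SGA7.Pts kb A := Over.homMk (sec ≫ (fst A P).left) (by
      rw [Category.assoc, Over.w (fst A P), ← Over.w (snd A P), ← Category.assoc]
      exact (congrArg (· ≫ P.hom) hsec).trans (Category.id_comp _))
    refine ⟨g, ?_⟩
    have e : (lift g (𝟙 P)).left = sec := by
      apply pullback.hom_ext
      · exact congrArg (fun t => t.left) (lift_fst g (𝟙 P))
      · exact (congrArg (fun t => t.left) (lift_snd g (𝟙 P))).trans hsec.symm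
    show (lift g (𝟙 P)).left cp = y
    rw [e]
    exact pointOfClosedPoint_apply s y hy cp
  have hpt_inj : ∀ g h : SGA7.Pts kb A, pt g = pt h → g = h := fun g h e => by
    have hs : ∀ g : SGA7.Pts kb A, (lift g (𝟙 P)).left ≫ s = 𝟙 _ := fun g => congrArg (fun t => t.left) (lift_snd g (𝟙 P))
    have e' : (lift g (𝟙 P)).left = (lift h (𝟙 P)).left := by
      refine congrArg Subtype.val ((pointEquivClosedPoint s).injective (a₁ := ⟨_, hs g⟩) (a₂ := ⟨_, hs h⟩) (Subtype.ext ?_))
      exact e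
    have := congrArg (· ≫ fst A P) (Over.OverMorphism.ext e' : lift g (𝟙 P) = lift h (𝟙 P))
    simpa using this
  -- the map
  let m : SGA7.Pts kb A → (A ⊗ P ⟶ A) := fun x =>
    fst A P * (snd A P ≫ x) * (lift (snd A P ≫ b) (fst A P ≫ F) ≫ c)⁻¹
  let f : SGA7.Pts kb A → (A ⊗ P ⟶ A ⊗ P) := fun x => lift (m x) (snd A P)
  have hm : ∀ x g : SGA7.Pts kb A, (lift g (𝟙 P) ≫ m x) ≫ i =
      (g ≫ i) * (x ≫ i) * (b * (frob k kb • (g ≫ i)) * b⁻¹)⁻¹ := fun x g => by
    simp only [m, MonObj.comp_mul, GrpObj.comp_inv, lift_fst, lift_snd_assoc, Category.id_comp, MonObj.mul_comp,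
      GrpObj.inv_comp]
    congr 2
    rw [← Category.assoc (lift g (𝟙 P)), comp_lift, lift_snd_assoc, Category.id_comp, lift_fst_assoc,
      Category.assoc (lift b (g ≫ F)), hc, MonObj.comp_mul, MonObj.comp_mul, GrpObj.comp_inv, lift_fst,
      lift_snd_assoc]
    congr 2
    rw [← hF]
    exact Category.assoc _ _ _
  have himg : ∀ x g : SGA7.Pts kb A, (f x).left (pt g) = pt (lift g (𝟙 P) ≫ m x) := fun x g => by
    show (lift g (𝟙 P) ≫ f x).left cp = _
    rw [show lift g (𝟙 P) ≫ f x = lift (lift g (𝟙 P) ≫ m x) (𝟙 P) from by rw [comp_lift, lift_snd]]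
  have hdom : ∀ x, IsDominant (f x).left := fun x => by
    refine isDominant_of_finite_closed_fibres s (f x).left (congrArg (fun t => t.left) (lift_snd (m x) (snd A P))) fun y hy => ?_
    obtain ⟨v, rfl⟩ := hpt y hy
    by_cases hne : ∃ g₀, pt (lift g₀ (𝟙 P) ≫ m x) = pt v
    · obtain ⟨g₀, hg₀⟩ := hne
      haveI := finite_gFix (k := k) ((x ≫ i) * b)
      let φ : GFix (G := B) ((x ≫ i) * b) → Set (A ⊗ P).left := fun h => pt '' {g | (g₀ ≫ i)⁻¹ * (g ≫ i) = h.1}
      refine Set.Finite.subset (Set.finite_iUnion (f := φ) fun h => Set.Subsingleton.finite ?_) ?_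
      · rintro _ ⟨g, hg, rfl⟩ _ ⟨g', hg', rfl⟩
        exact congrArg pt (hi g g' (mul_left_cancel (hg.trans hg'.symm)))
      · rintro z ⟨hz, hfz⟩
        obtain ⟨g, rfl⟩ := hpt z hz
        rw [himg, ← hg₀] at hfz
        have e : (lift g (𝟙 P) ≫ m x) ≫ i = (lift g₀ (𝟙 P) ≫ m x) ≫ i := by rw [hpt_inj _ _ hfz]
        rw [hm, hm] at e
        refine Set.mem_iUnion.2 ⟨⟨(g₀ ≫ i)⁻¹ * (g ≫ i), ?_⟩, g, rfl, rfl⟩
        rw [smul_mul', smul_inv']
        have e2 : (g ≫ i) * ((x ≫ i) * b) * (frob k kb • (g ≫ i))⁻¹ = (g₀ ≫ i) * ((x ≫ i) * b) * (frob k kb • (g₀ ≫ i))⁻¹ := by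
          have := congrArg (· * b) e
          simp only [_root_.mul_inv_rev, _root_.inv_inv, _root_.mul_assoc, inv_mul_cancel, _root_.mul_one] at this ⊢
          exact this
        calc (g₀ ≫ i)⁻¹ * (g ≫ i) * ((x ≫ i) * b) * ((frob k kb • (g₀ ≫ i))⁻¹ * (frob k kb • (g ≫ i)))⁻¹
            = (g₀ ≫ i)⁻¹ * ((g ≫ i) * ((x ≫ i) * b) * (frob k kb • (g ≫ i))⁻¹) * (frob k kb • (g₀ ≫ i)) := by group
          _ = (x ≫ i) * b := by rw [e2]; group
    · refine Set.Finite.subset Set.finite_empty ?_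
      rintro z ⟨hz, hfz⟩
      obtain ⟨g, rfl⟩ := hpt z hz
      exact hne ⟨g, (himg x g).symm.trans hfz⟩
  haveI : CompactSpace (A ⊗ P).left := QuasiCompact.compactSpace_of_compactSpace s
  haveI : IsLocallyNoetherian (A ⊗ P).left := LocallyOfFiniteType.isLocallyNoetherian s
  have hopen : ∀ x, ∃ U : Set (A ⊗ P).left, IsOpen U ∧ U.Nonempty ∧ U ⊆ Set.range (f x).left := fun x => by
    haveI := hdom x
    have hw : (f x).left ≫ s = s := congrArg (fun t => t.left) (lift_snd (m x) (snd A P))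
    haveI : QuasiCompact s := ‹QuasiCompact s›
    haveI : QuasiSeparated s := inferInstance
    haveI : LocallyOfFiniteType ((f x).left ≫ s) := by rw [hw]; infer_instance
    haveI : QuasiCompact ((f x).left ≫ s) := by rw [hw]; infer_instance
    haveI : LocallyOfFiniteType (f x).left := locallyOfFiniteType_of_comp (f x).left s
    haveI : QuasiCompact (f x).left := QuasiCompact.of_comp (f x).left s
    haveI : LocallyOfFinitePresentation (f x).left := inferInstance
    have hC : IsConstructible (Set.range (f x).left) := by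
      rw [← Set.image_univ]
      exact (f x).left.isConstructible_image IsConstructible.univ
    obtain ⟨U, hU, hgU, hUs⟩ := exists_open_of_constructible (gp := genericPoint (A ⊗ P).left)
      (fun U hU hne => ((genericPoint_spec _).mem_open_set_iff hU).2 (by simpa using hne)) hC
    refine ⟨U, hU, ⟨_, hgU⟩, hUs.resolve_right fun h => ?_⟩
    obtain ⟨w, hw⟩ := (f x).left.denseRange.exists_mem_open hU ⟨_, hgU⟩
    exact h hw ⟨w, rfl⟩
  obtain ⟨U, hU, hUne, hUs⟩ := hopen x
  obtain ⟨V, hV, hVne, hVs⟩ := hopen 1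
  obtain ⟨y, hy, hyc⟩ := nonempty_inter_closedPoints (X := (A ⊗ P).left) (Z := U ∩ V)
    ((genericPoint_spec (A ⊗ P).left).mem_open_set_iff hU |>.2 (by simpa using hUne) |> fun h1 =>
      ⟨_, h1, ((genericPoint_spec (A ⊗ P).left).mem_open_set_iff hV).2 (by simpa using hVne)⟩)
    (hU.inter hV).isLocallyClosed
  have hpre : ∀ x, y ∈ Set.range (f x).left → ∃ g, pt (lift g (𝟙 P) ≫ m x) = y := fun x hyx => by
    haveI : LocallyOfFiniteType ((f x).left ≫ s) := by
      rw [show (f x).left ≫ s = s from congrArg (fun t => t.left) (lift_snd (m x) (snd A P))]; infer_instance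
    haveI : LocallyOfFiniteType (f x).left := locallyOfFiniteType_of_comp (f x).left s
    obtain ⟨w, hw, hwc⟩ := nonempty_inter_closedPoints (X := (A ⊗ P).left) (Z := (f x).left ⁻¹' {y})
      hyx (hyc.preimage (f x).left.continuous).isLocallyClosed
    obtain ⟨g, rfl⟩ := hpt w hwc
    exact ⟨g, (himg x g).symm.trans hw⟩
  obtain ⟨g, hg⟩ := hpre x (hUs hy.1)
  obtain ⟨g', hg'⟩ := hpre 1 (hVs hy.2)
  have e : (lift g (𝟙 P) ≫ m x) ≫ i = (lift g' (𝟙 P) ≫ m 1) ≫ i := by rw [hpt_inj _ _ (hg.trans hg'.symm)]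
  rw [hm, hm, MonObj.one_comp, _root_.mul_one] at e
  refine ⟨g⁻¹ * g', ?_⟩
  have e2 : (g ≫ i) * ((x ≫ i) * b) * (frob k kb • (g ≫ i))⁻¹ = (g' ≫ i) * b * (frob k kb • (g' ≫ i))⁻¹ := by
    have := congrArg (· * b) e
    simp only [_root_.mul_inv_rev, _root_.inv_inv, _root_.mul_assoc, inv_mul_cancel, _root_.mul_one] at this ⊢
    exact this
  rw [MonObj.mul_comp, GrpObj.inv_comp, smul_mul', smul_inv']
  calc (g ≫ i)⁻¹ * (g' ≫ i) * b * ((frob k kb • (g ≫ i))⁻¹ * (frob k kb • (g' ≫ i)))⁻¹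
      = (g ≫ i)⁻¹ * ((g' ≫ i) * b * (frob k kb • (g' ≫ i))⁻¹) * (frob k kb • (g ≫ i)) := by group
    _ = (x ≫ i) * b := by rw [← e2]; group

end Groth.L24.Count
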