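import Groth.Agent.L24.Count.UnipTwist
import Groth.Agent.L24.Count.TwistedLang
import Groth.Agent.L24.Count.Reps
import Groth.Agent.L24.Count.Rational
import Mathlib.AlgebraicGeometry.AffineSpace

/-! Twisted classes of a semidirect product, and twisted fixed points on an affine space. -/

set_option autoImplicit false
set_option backward.isDefEq.respectTransparency false
set_option backward.isDefEq.respectTransparency.types false
set_option linter.style.haveILetI false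
set_option linter.unusedSectionVars false
set_option maxHeartbeats 1000000

universe u

open CategoryTheory MonoidalCategory CartesianMonoidalCategory MonObj AlgebraicGeometry

noncomputable section

namespace Groth.L24.Count

variable {k : Type u} [Field k] [Finite k] {kb : Type u} [Field kb] [Algebra k kb] [IsAlgClosure k kb]

theorem smul_comp {Y Z : Over (Spec (CommRingCat.of k))} (σ : kb ≃ₐ[k] kb) (y : SGA7.Pts kb Y) (i : Y ⟶ Z) :
    σ • (y ≫ i : SGA7.Pts kb Z) = (σ • y) ≫ i := by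
  show SGA7.specAut σ ≫ y ≫ i = (SGA7.specAut σ ≫ y) ≫ i
  rw [Category.assoc]

/-- Lang's theorem for a connected group: every element is a twisted coboundary. -/
theorem exists_lang (H : Over (Spec (CommRingCat.of k))) [GrpObj H] [LocallyOfFiniteType H.hom]
    [QuasiCompact H.hom] [ConnectedSpace H.left] (h : SGA7.Pts kb H) :
    ∃ g : SGA7.Pts kb H, g * h * (frob k kb • g)⁻¹ = 1 := by
  obtain ⟨g, hg⟩ := exists_twisted_lang (kb := kb) (𝟙 H) (fun p q e => by simpa using e)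
    (fst H H * snd H H * (fst H H)⁻¹) (by simp) h h⁻¹
  simp only [Category.comp_id, inv_mul_cancel] at hg
  exact ⟨g, hg⟩

variable (G F H U : Over (Spec (CommRingCat.of k))) [GrpObj G] [GrpObj F] [GrpObj H] [GrpObj U]
  [LocallyOfFiniteType G.hom] [QuasiCompact G.hom] [IsAffineHom G.hom]
  [LocallyOfFiniteType H.hom] [QuasiCompact H.hom] [ConnectedSpace H.left]
  [AlgebraicGeometry.Smooth U.hom] [IsAffineHom U.hom] [ConnectedSpace U.left]
  (iF : F ⟶ G) (iH : H ⟶ G) (iU : U ⟶ G) [IsMonHom iF] [IsMonHom iH] [IsMonHom iU] [Mono iU]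

/-- The classes of a semidirect product meet the factor `F`; their centralisers. -/
theorem semidirect (hFH : (fst F H ≫ iF) * (snd F H ≫ iH) = (snd F H ≫ iH) * (fst F H ≫ iF))
    (hUn : AlgGrp.IsNormalHom iU)
    (hsd : IsIso ((fst (F ⊗ H) U ≫ fst F H ≫ iF) * (fst (F ⊗ H) U ≫ snd F H ≫ iH) * (snd (F ⊗ H) U ≫ iU)))
    (hUu : Red.HasNoSubtorus kb (GalTw.bcK kb U)) (dU : ℕ)
    (hdU : topologicalKrullDim ↥U.left = (dU : WithBot ℕ∞)) :
    (∀ a : SGA7.Pts kb G, ∃ f : SGA7.Pts kb F, Conj a (f ≫ iF)) ∧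
    (∀ f f' : SGA7.Pts kb F, Conj (f ≫ iF : SGA7.Pts kb G) (f' ≫ iF) → Conj f f') ∧
    ∀ f : SGA7.Pts kb F, Nat.card (GFix (f ≫ iF : SGA7.Pts kb G)) =
      Nat.card (GFix f) * (Nat.card (SGA7.Pts (K := k) k H) * Nat.card k ^ dU) := by
  classical
  haveI : IsAffine U.left := isAffine_of_isAffineHom U.hom
  let π := frob k kb
  let P := SGA7.pt (K := k) kb
  let m := (fst (F ⊗ H) U ≫ fst F H ≫ iF) * (fst (F ⊗ H) U ≫ snd F H ≫ iH) * (snd (F ⊗ H) U ≫ iU)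
  haveI : IsIso m := hsd
  have hm : ∀ (f : SGA7.Pts kb F) (h : SGA7.Pts kb H) (u : SGA7.Pts kb U),
      lift (lift f h) u ≫ m = (f ≫ iF) * (h ≫ iH) * (u ≫ iU) := fun f h u => by
    simp only [m, MonObj.comp_mul, lift_fst_assoc, lift_snd_assoc]
  have huniq : ∀ (f f' : SGA7.Pts kb F) (h h' : SGA7.Pts kb H) (u u' : SGA7.Pts kb U),
      (f ≫ iF) * (h ≫ iH) * (u ≫ iU) = (f' ≫ iF) * (h' ≫ iH) * (u' ≫ iU) → f = f' ∧ h = h' ∧ u = u' := by
    intro f f' h h' u u' e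
    rw [← hm, ← hm] at e
    have e' := (cancel_mono m).1 e
    refine ⟨?_, ?_, ?_⟩
    · simpa using congrArg (fun t => t ≫ fst (F ⊗ H) U ≫ fst F H) e'
    · simpa using congrArg (fun t => t ≫ fst (F ⊗ H) U ≫ snd F H) e'
    · simpa using congrArg (fun t => t ≫ snd (F ⊗ H) U) e'
  have hsplit : ∀ g : SGA7.Pts kb G, ∃ (f : SGA7.Pts kb F) (h : SGA7.Pts kb H) (u : SGA7.Pts kb U),
      (f ≫ iF) * (h ≫ iH) * (u ≫ iU) = g := fun g => by
    refine ⟨g ≫ inv m ≫ fst (F ⊗ H) U ≫ fst F H, g ≫ inv m ≫ fst (F ⊗ H) U ≫ snd F H,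
      g ≫ inv m ≫ snd (F ⊗ H) U, ?_⟩
    rw [← hm]
    have e : lift (lift (g ≫ inv m ≫ fst (F ⊗ H) U ≫ fst F H) (g ≫ inv m ≫ fst (F ⊗ H) U ≫ snd F H))
        (g ≫ inv m ≫ snd (F ⊗ H) U) = g ≫ inv m := by
      apply CartesianMonoidalCategory.hom_ext
      · apply CartesianMonoidalCategory.hom_ext <;> simp
      · simp
    rw [e, Category.assoc, IsIso.inv_hom_id, Category.comp_id]
  have hcomm : ∀ (f : SGA7.Pts kb F) (h : SGA7.Pts kb H), (f ≫ iF) * (h ≫ iH) = (h ≫ iH) * (f ≫ iF) := fun f h => by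
    simpa only [MonObj.comp_mul, lift_fst_assoc, lift_snd_assoc] using congrArg (lift f h ≫ ·) hFH
  obtain ⟨cU, hcU⟩ := hUn (G ⊗ U) (fst G U) (snd G U)
  replace hcU : cU ≫ iU = fst G U * (snd G U ≫ iU) * (fst G U)⁻¹ := hcU.symm
  have hconj : ∀ (g : SGA7.Pts kb G) (u : SGA7.Pts kb U), ∃ u' : SGA7.Pts kb U, g * (u ≫ iU) * g⁻¹ = u' ≫ iU :=
    fun g u => hUn P g u
  have key : ∀ (c c' f : SGA7.Pts kb F) (h : SGA7.Pts kb H) (u : SGA7.Pts kb U),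
      ((f ≫ iF) * (h ≫ iH) * (u ≫ iU)) * (c ≫ iF) * (π • ((f ≫ iF) * (h ≫ iH) * (u ≫ iU)))⁻¹ = (c' ≫ iF) ↔
        f * c * (π • f)⁻¹ = c' ∧ π • h = h ∧
          (u ≫ iU) * (c ≫ iF) * (π • (u ≫ iU : SGA7.Pts kb G))⁻¹ = c ≫ iF := by
    intro c c' f h u
    simp only [smul_mul', smul_comp]
    constructor
    · intro e
      rw [mul_inv_eq_iff_eq_mul] at e
      obtain ⟨u'', hu''⟩ := hconj (c ≫ iF)⁻¹ u
      rw [inv_inv] at hu''
      have e1 : ((f * c) ≫ iF) * (h ≫ iH) * (u'' ≫ iU) =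
          ((c' * (π • f)) ≫ iF) * ((π • h) ≫ iH) * ((π • u) ≫ iU) := by
        rw [MonObj.mul_comp, MonObj.mul_comp, ← hu'', _root_.mul_assoc (f ≫ iF) (c ≫ iF), hcomm c h]
        have : (f ≫ iF) * ((h ≫ iH) * (c ≫ iF)) * ((c ≫ iF)⁻¹ * (u ≫ iU) * (c ≫ iF)) =
            (f ≫ iF) * (h ≫ iH) * (u ≫ iU) * (c ≫ iF) := by group
        rw [this, e]
        group
      obtain ⟨hf, hh, hu⟩ := huniq _ _ _ _ _ _ e1
      refine ⟨mul_inv_eq_iff_eq_mul.2 hf, hh.symm, ?_⟩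
      rw [mul_inv_eq_iff_eq_mul, ← hu, ← hu'']
      group
    · rintro ⟨hf, hh, hu⟩
      rw [hh]
      calc _ = (f ≫ iF) * ((h ≫ iH) * ((u ≫ iU) * (c ≫ iF) * ((π • u) ≫ iU)⁻¹) * (h ≫ iH)⁻¹) *
            ((π • f) ≫ iF)⁻¹ := by group
        _ = (f ≫ iF) * (c ≫ iF) * ((π • f) ≫ iF)⁻¹ := by rw [hu, ← hcomm, mul_inv_cancel_right]
        _ = c' ≫ iF := by rw [← GrpObj.inv_comp, ← MonObj.mul_comp, ← MonObj.mul_comp, hf]
  refine ⟨fun a => ?_, fun f f' ⟨g, hg⟩ => ?_, fun c => ?_⟩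
  · obtain ⟨f, h, u, rfl⟩ := hsplit a
    obtain ⟨h₀, hh₀⟩ := exists_lang H h
    obtain ⟨u', hu'⟩ := hconj (π • (h₀ ≫ iH : SGA7.Pts kb G)) u
    obtain ⟨x, hx⟩ := hconj (f ≫ iF) u'
    obtain ⟨g, hg⟩ := exists_twisted_lang (kb := kb) iU (fun p q e => (cancel_mono iU).1 e) cU hcU (f ≫ iF) x
    refine ⟨f, Conj.trans ⟨h₀ ≫ iH, ?_⟩ (Conj.symm ⟨g ≫ iU, hg⟩)⟩
    rw [← hx]
    have hh : (h₀ ≫ iH) * (h ≫ iH) * (π • (h₀ ≫ iH : SGA7.Pts kb G))⁻¹ = 1 := by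
      rw [smul_comp, ← GrpObj.inv_comp, ← MonObj.mul_comp, ← MonObj.mul_comp, hh₀, MonObj.one_comp]
    calc _ = ((h₀ ≫ iH) * (f ≫ iF)) * (h ≫ iH) * (u ≫ iU) * (π • (h₀ ≫ iH : SGA7.Pts kb G))⁻¹ := by group; rfl
      _ = (f ≫ iF) * ((h₀ ≫ iH) * (h ≫ iH) * (π • (h₀ ≫ iH : SGA7.Pts kb G))⁻¹) *
            ((π • (h₀ ≫ iH : SGA7.Pts kb G)) * (u ≫ iU) * (π • (h₀ ≫ iH : SGA7.Pts kb G))⁻¹) := by
          rw [← hcomm f h₀]; group
      _ = _ := by rw [hh, hu']; group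
  · obtain ⟨f₀, h₀, u₀, rfl⟩ := hsplit g
    exact ⟨f₀, ((key f f' f₀ h₀ u₀).1 hg).1⟩
  · rw [nat_card_rational kb, ← card_twisted U G hUu dU hdU iU cU hcU (c ≫ iF), ← Nat.card_prod, ← Nat.card_prod]
    refine (Nat.card_congr (Equiv.ofBijective (fun p : GFix c × ({h : SGA7.Pts kb H // π • h = h} ×
        {u : SGA7.Pts kb U // (u ≫ iU) * (c ≫ iF) * (π • (u ≫ iU : SGA7.Pts kb G))⁻¹ = c ≫ iF}) =>
      (⟨(p.1.1 ≫ iF) * (p.2.1.1 ≫ iH) * (p.2.2.1 ≫ iU), (key c c _ _ _).2 ⟨p.1.2, p.2.1.2, p.2.2.2⟩⟩ :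
        GFix (c ≫ iF : SGA7.Pts kb G))) ⟨?_, ?_⟩)).symm
    · intro p q e
      obtain ⟨a, b, d⟩ := huniq _ _ _ _ _ _ (congrArg Subtype.val e)
      exact Prod.ext (Subtype.ext a) (Prod.ext (Subtype.ext b) (Subtype.ext d))
    · rintro ⟨g, hg⟩
      obtain ⟨f, h, u, rfl⟩ := hsplit g
      obtain ⟨a, b, d⟩ := (key c c f h u).1 hg
      exact ⟨⟨⟨f, a⟩, ⟨h, b⟩, ⟨u, d⟩⟩, rfl⟩

/-- Points of an affine space. -/
theorem card_affineSpace (V : Over (Spec (CommRingCat.of k))) (n : ℕ)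
    (eV : V.left ≅ 𝔸(ULift.{u} (Fin n); Spec (CommRingCat.of k)))
    (heV : eV.hom ≫ (𝔸(ULift.{u} (Fin n); Spec (CommRingCat.of k)) ↘ Spec (CommRingCat.of k)) = V.hom) :
    Nat.card (SGA7.Pts (K := k) k V) = Nat.card k ^ n := by
  let S := Spec (CommRingCat.of k)
  letI : (SGA7.pt (K := k) k).left.Over S := ⟨(SGA7.pt (K := k) k).hom⟩
  let e : SGA7.Pts (K := k) k V ≃ {f : (SGA7.pt (K := k) k).left ⟶ 𝔸(ULift.{u} (Fin n); S) // f.IsOver S} :=
    { toFun := fun p => ⟨p.left ≫ eV.hom, ⟨by rw [Category.assoc, heV]; exact Over.w p⟩⟩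
      invFun := fun f => Over.homMk (f.1 ≫ eV.inv) (by
        rw [Category.assoc, ← heV, Iso.inv_hom_id_assoc]; exact f.2.1)
      left_inv := fun p => Over.OverMorphism.ext (by simp)
      right_inv := fun f => Subtype.ext (by simp) }
  rw [Nat.card_congr (e.trans (AffineSpace.homOverEquiv S)), Nat.card_fun]
  congr 1
  · exact Nat.card_congr ((Scheme.ΓSpecIso (CommRingCat.of k)).commRingCatIsoToRingEquiv.toEquiv)
  · simp

/-- Fixed points of an affine space twisted through a connected group. -/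
theorem card_vFix (V Fc : Over (Spec (CommRingCat.of k))) [GrpObj Fc] [LocallyOfFiniteType Fc.hom]
    [QuasiCompact Fc.hom] [ConnectedSpace Fc.left] (aVc : AlgGrp.Action Fc V) (n : ℕ)
    (eV : V.left ≅ 𝔸(ULift.{u} (Fin n); Spec (CommRingCat.of k)))
    (heV : eV.hom ≫ (𝔸(ULift.{u} (Fin n); Spec (CommRingCat.of k)) ↘ Spec (CommRingCat.of k)) = V.hom)
    (a : SGA7.Pts kb Fc) : Nat.card (XFix aVc a) = Nat.card k ^ n := by
  rw [← card_affineSpace V n eV heV, nat_card_rational kb]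
  let π := frob k kb
  obtain ⟨g, hg⟩ := exists_lang Fc a
  have hπg : π • g = g * a := (mul_inv_eq_one.1 hg).symm
  let e : SGA7.Pts kb V ≃ SGA7.Pts kb V :=
    ⟨fun v => sm aVc g v, fun v => sm aVc g⁻¹ v, fun v => inv_sm _ _ _, fun v => sm_inv _ _ _⟩
  refine Nat.card_congr (e.subtypeEquiv fun v => ?_)
  show _ ↔ π • sm aVc g v = sm aVc g v
  rw [smul_sm, hπg, sm_mul]
  exact ⟨fun h => congrArg _ h, fun h => by simpa only [inv_sm] using congrArg (sm aVc g⁻¹) h⟩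

end Groth.L24.Count
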