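import Groth.Agent.L25.GrpDeriv
import Mathlib.RingTheory.Jacobson.Ring
import Mathlib.RingTheory.TensorProduct.Free
import Mathlib.FieldTheory.IsAlgClosed.Basic
import Mathlib.FieldTheory.IsAlgClosed.AlgebraicClosure
import Mathlib.FieldTheory.Normal.Basic

/-! Points over the algebraic closure separate reduced algebras of finite type. -/

set_option autoImplicit false
set_option linter.style.haveILetI false

universe u

open TensorProduct

noncomputable section

namespace Groth.L24.Count

variable {k : Type u} [Field k] {L : Type u} [Field L] [Algebra k L] [IsAlgClosed L]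

theorem exists_point_of_maximal {R : Type u} [CommRing R] [Algebra k R] [Algebra.FiniteType k R]
    (m : Ideal R) [m.IsMaximal] : ∃ y : R →ₐ[k] L, RingHom.ker y = m := by
  letI := Ideal.Quotient.field m
  haveI : Module.Finite k (R ⧸ m) := finite_of_finite_type_of_isJacobsonRing k (R ⧸ m)
  let e : (R ⧸ m) →ₐ[k] L := IsAlgClosed.lift
  refine ⟨e.comp (Ideal.Quotient.mkₐ k m), Ideal.ext fun x => ?_⟩
  show e (Ideal.Quotient.mk m x) = 0 ↔ x ∈ m
  rw [map_eq_zero, Ideal.Quotient.eq_zero_iff_mem]

theorem eq_zero_of_forall_point {R : Type u} [CommRing R] [Algebra k R] [Algebra.FiniteType k R] [IsReduced R]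
    {x : R} (h : ∀ y : R →ₐ[k] L, y x = 0) : x = 0 := by
  haveI : IsJacobsonRing R := isJacobsonRing_of_finiteType (A := k)
  have hj : (⊥ : Ideal R).jacobson = ⊥ := by
    rw [← Ideal.radical_eq_jacobson]
    exact (nilradical_eq_zero R : nilradical R = ⊥)
  rw [← Ideal.mem_bot, ← hj, Ideal.jacobson, Submodule.mem_sInf]
  rintro m ⟨-, hm⟩
  haveI := hm
  obtain ⟨y, rfl⟩ := exists_point_of_maximal (k := k) (L := L) m
  exact h y

theorem isReduced_bc [PerfectField k] [Algebra.IsAlgebraic k L] (R : Type u) [CommRing R] [Algebra k R]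
    [IsReduced R] : IsReduced (L ⊗[k] R) := by
  haveI : IsReduced (TensorProduct k R L) := Groth.L25.GrpDeriv.isReduced_tensorProduct_of_perfectField
  exact isReduced_of_injective (Algebra.TensorProduct.comm k L R).toAlgHom (Algebra.TensorProduct.comm k L R).injective

/-- Pairs of points separate the tensor square. -/
theorem eq_zero_of_forall_pair [PerfectField k] [Algebra.IsAlgebraic k L] {R S : Type u} [CommRing R] [Algebra k R]
    [Algebra.FiniteType k R] [IsReduced R] [CommRing S] [Algebra k S] [Algebra.FiniteType k S] [IsReduced S]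
    {z : R ⊗[k] S}
    (h : ∀ (y : R →ₐ[k] L) (y' : S →ₐ[k] L), Algebra.TensorProduct.lift y y' (fun _ _ => Commute.all _ _) z = 0) :
    z = 0 := by
  classical
  let b := Module.Free.chooseBasis k S
  let e := TensorProduct.equivFinsuppOfBasisRight (M := R) b
  let bL := Algebra.TensorProduct.basis L b
  haveI : IsReduced (L ⊗[k] S) := isReduced_bc S
  refine e.injective ((Finsupp.ext fun i => ?_ : e z = 0).trans (map_zero e).symm)
  rw [Finsupp.zero_apply]
  refine eq_zero_of_forall_point (k := k) (L := L) fun y => ?_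
  let ev : R ⊗[k] S →ₐ[k] L ⊗[k] S := Algebra.TensorProduct.map y (AlgHom.id k S)
  have key : ∀ w : R ⊗[k] S, bL.repr (ev w) i = y (e w i) := fun w => by
    induction w with
    | zero => simp
    | add p q hp hq => simp only [map_add, Finsupp.add_apply, hp, hq]
    | tmul r s =>
      simp [ev, bL, e, Algebra.TensorProduct.basis_repr_tmul, Algebra.smul_def, mul_comm]
  rw [← key]
  suffices h0 : ev z = 0 by rw [h0, map_zero, Finsupp.zero_apply]
  refine eq_zero_of_forall_point (k := L) (L := L) fun w => ?_
  let y' : S →ₐ[k] L := (w.restrictScalars k).comp Algebra.TensorProduct.includeRight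
  have key2 : ∀ u : R ⊗[k] S, w (ev u) = Algebra.TensorProduct.lift y y' (fun _ _ => Commute.all _ _) u := fun u => by
    induction u with
    | zero => simp
    | add p q hp hq => simp only [map_add, hp, hq]
    | tmul r s =>
      have hd : y r ⊗ₜ[k] s = algebraMap L (L ⊗[k] S) (y r) * ((1 : L) ⊗ₜ[k] s) := by
        simp [Algebra.TensorProduct.algebraMap_apply]
      show w (y r ⊗ₜ[k] s) = y r * w ((1 : L) ⊗ₜ[k] s)
      rw [hd, map_mul, AlgHom.commutes]
      rfl
  rw [key2]
  exact h y y'

/-- Points with the same kernel are conjugate. -/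
theorem exists_conj_of_ker_eq [IsAlgClosure k L] {R : Type u} [CommRing R] [Algebra k R] [Algebra.FiniteType k R]
    (y y' : R →ₐ[k] L) (h : RingHom.ker y = RingHom.ker y') : ∃ σ : L ≃ₐ[k] L, (σ : L →ₐ[k] L).comp y = y' := by
  haveI : Algebra.IsAlgebraic k L := IsAlgClosure.isAlgebraic
  haveI : Normal k L := IsAlgClosure.normal k L
  let Q := R ⧸ RingHom.ker y
  haveI : (RingHom.ker y).IsPrime := RingHom.ker_isPrime y
  let f : Q →ₐ[k] L := Ideal.Quotient.liftₐ _ y fun _ ha => ha
  let g : Q →ₐ[k] L := Ideal.Quotient.liftₐ _ y' fun _ ha => by rwa [h] at ha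
  have hf : Function.Injective f := (injective_iff_map_eq_zero f).2 fun a ha => by
    obtain ⟨r, rfl⟩ := Ideal.Quotient.mk_surjective a
    exact Ideal.Quotient.eq_zero_iff_mem.2 ha
  haveI : Algebra.IsIntegral k Q := ⟨fun a => (isIntegral_algHom_iff f hf).1 (Algebra.IsIntegral.isIntegral _)⟩
  letI : Field Q := (isField_of_isIntegral_of_isField' (R := k) (S := Q) (Field.toIsField k)).toField
  letI : Algebra Q L := f.toRingHom.toAlgebra
  haveI : IsScalarTower k Q L := IsScalarTower.of_algebraMap_eq fun c => (f.commutes c).symm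
  let τ : L →ₐ[k] L := g.liftNormal L
  refine ⟨AlgEquiv.ofBijective τ (Algebra.IsAlgebraic.algHom_bijective τ), AlgHom.ext fun r => ?_⟩
  show τ (f (Ideal.Quotient.mk _ r)) = g (Ideal.Quotient.mk _ r)
  exact g.liftNormal_commutes L (Ideal.Quotient.mk _ r)

end Groth.L24.Count
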