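import Groth.Agent.L24.Count.SumInv
import Groth.Agent.L24.Count.FinAct
import Groth.Agent.L24.Count.CountPairs

/-! Twisted fixed points on a finite scheme, summed over the twisted classes. -/

set_option autoImplicit false
set_option backward.isDefEq.respectTransparency.types false
set_option linter.style.haveILetI false
set_option linter.unusedSectionVars false

universe u

open CategoryTheory MonoidalCategory CartesianMonoidalCategory MonObj AlgebraicGeometry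

noncomputable section

namespace Groth.L24.Count

variable {k : Type u} [Field k] [Finite k] {kb : Type u} [Field kb] [Algebra k kb] [IsAlgClosure k kb]

theorem exists_sum_fixed (F : Over (Spec (CommRingCat.of k))) [GrpObj F] [AlgebraicGeometry.Smooth F.hom]
    [IsAffineHom F.hom] (hF : Red.HasNoSubtorus kb (GalTw.bcK kb F)) (d : ℕ)
    (hd : topologicalKrullDim ↥F.left = (d : WithBot ℕ∞))
    (E : Over (Spec (CommRingCat.of k))) [IsFinite E.hom] (aE : AlgGrp.Action F E)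
    {J : Type} [Fintype J] (e : J → SGA7.Pts kb E)
    (hdis : ∀ j j' : J, (∃ g : SGA7.Pts kb F, sm aE g (e j) = e j') → j = j')
    (hfix : ∀ (j : J) (σ : kb ≃ₐ[k] kb), ∃ g : SGA7.Pts kb F, sm aE g (σ • e j) = e j)
    (hall : ∀ y : SGA7.Pts kb E, (∀ σ : kb ≃ₐ[k] kb, ∃ g : SGA7.Pts kb F, sm aE g (σ • y) = y) →
      ∃ (j : J) (g : SGA7.Pts kb F), sm aE g (e j) = y) :
    ∃ (n : ℕ) (c : Fin n → SGA7.Pts kb F), (∀ i j, Conj (c i) (c j) → i = j) ∧ (∀ b, ∃ j, Conj b (c j)) ∧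
      ∑ i, (Nat.card (XFix aE (c i)) : ℚ) * ((Nat.card (GFix (c i)) : ℚ))⁻¹ =
        (Fintype.card J : ℚ) * ((Nat.card k : ℚ) ^ d)⁻¹ := by
  classical
  haveI : IsAlgClosed kb := IsAlgClosure.isAlgClosed k
  obtain ⟨N, _, j, _, hNc, hNl, hNq, H, hn, hf, hlift, hst, hlang, hQ⟩ := exists_component F hF d hd
  haveI := hn
  haveI := hf
  haveI := hNc
  haveI := finite_pts_of_isFinite kb E
  letI : MulAction (SGA7.Pts kb F) (SGA7.Pts kb E) :=
    { smul := fun g y => sm aE g y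
      one_smul := fun y => sm_one aE y
      mul_smul := fun g h y => sm_mul aE g h y }
  have hker : H ≤ (MulAction.toPermHom (SGA7.Pts kb F) (SGA7.Pts kb E)).ker := fun h hh => by
    obtain ⟨m, rfl⟩ := hlift h hh
    exact Equiv.ext fun y => sm_eq_of_connected aE j m y
  let ρ := QuotientGroup.lift H (MulAction.toPermHom (SGA7.Pts kb F) (SGA7.Pts kb E)) hker
  letI : MulAction (SGA7.Pts kb F ⧸ H) (SGA7.Pts kb E) := MulAction.compHom _ ρ
  have hmk : ∀ (g : SGA7.Pts kb F) (y : SGA7.Pts kb E), (g : SGA7.Pts kb F ⧸ H) • y = sm aE g y := fun _ _ => rfl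
  let π := frob k kb
  let sig : SGA7.Pts kb F →* SGA7.Pts kb F := MonoidHom.mk' (fun y => π • y) fun a b => smul_mul' π a b
  let θ : (SGA7.Pts kb F ⧸ H) →* (SGA7.Pts kb F ⧸ H) := QuotientGroup.map H H sig fun x hx => hst x hx
  let τ : SGA7.Pts kb E → SGA7.Pts kb E := fun y => π • y
  have hτ : ∀ (f : SGA7.Pts kb F ⧸ H) y, τ (f • y) = θ f • τ y := fun f y => by
    obtain ⟨g, rfl⟩ := QuotientGroup.mk_surjective f
    rw [hmk, show θ (g : SGA7.Pts kb F ⧸ H) = ((sig g : SGA7.Pts kb F) : SGA7.Pts kb F ⧸ H) from rfl, hmk]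
    exact smul_sm π g y
  letI := Fintype.ofFinite (SGA7.Pts kb F ⧸ H)
  obtain ⟨n, c, h1, h2, h3⟩ := Mass.exists_mass_weighted sig H hst (Nat.card k ^ d) hlang hQ
  refine ⟨n, c, h1, h2, ?_⟩
  let φ : SGA7.Pts kb F ⧸ H → ℚ := fun f => (Nat.card {y : SGA7.Pts kb E // f • τ y = y} : ℚ)
  have hφ : ∀ g a : SGA7.Pts kb F, φ ((g * a * (sig g)⁻¹ : SGA7.Pts kb F) : SGA7.Pts kb F ⧸ H) = φ a := fun g a => by
    refine congrArg Nat.cast (Nat.card_congr ?_)
    refine ((MulAction.toPerm (g : SGA7.Pts kb F ⧸ H)).subtypeEquiv fun y => ?_).symm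
    show _ ↔ _ • τ ((g : SGA7.Pts kb F ⧸ H) • y) = (g : SGA7.Pts kb F ⧸ H) • y
    rw [hτ, show θ (g : SGA7.Pts kb F ⧸ H) = ((sig g : SGA7.Pts kb F) : SGA7.Pts kb F ⧸ H) from rfl,
      QuotientGroup.mk_mul, QuotientGroup.mk_mul, QuotientGroup.mk_inv, mul_smul, mul_smul, inv_smul_smul,
      smul_left_cancel_iff]
  have hsum := h3 φ hφ
  have hfx : ∀ j, ∃ b : SGA7.Pts kb F ⧸ H, b • τ (e j) = e j := fun j => by
    obtain ⟨b, hb⟩ := hfix j π
    exact ⟨b, hb⟩
  have hall' : ∀ y : SGA7.Pts kb E, (∃ b : SGA7.Pts kb F ⧸ H, b • τ y = y) →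
      ∃ (j : J) (g : SGA7.Pts kb F ⧸ H), g • e j = y := by
    rintro y ⟨b, hb⟩
    obtain ⟨b, rfl⟩ := QuotientGroup.mk_surjective b
    obtain ⟨j, g, hg⟩ := hall y (exists_sm_smul_eq aE hb)
    exact ⟨j, g, hg⟩
  rw [Mass.sum_fixed θ τ hτ e (fun i l ⟨g, hg⟩ => by
    obtain ⟨g, rfl⟩ := QuotientGroup.mk_surjective g
    exact hdis i l ⟨g, hg⟩) hfx hall'] at hsum
  refine Eq.trans ?_ (hsum.trans ?_)
  · rfl
  · rw [mul_comm (Fintype.card J : ℚ), inv_mul_cancel_left₀ (Nat.cast_ne_zero.2 Nat.card_pos.ne'), Nat.cast_pow]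
    exact mul_comm _ _

end Groth.L24.Count
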