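import Groth.Agent.L24.Count.UnipTwist
import Groth.Agent.L24.Count.TwistedLang
import Groth.Agent.L24.Count.ClosedPts
import Groth.Agent.L24.Count.Reps
import Groth.Agent.L24.Count.MassGroup
import Groth.Agent.L08.Chev.Comp
import Groth.Agent.L08.GrpDim

/-! The mass of the twisted conjugacy classes of a group with unipotent identity component. -/

set_option autoImplicit false
set_option backward.isDefEq.respectTransparency.types false
set_option linter.style.haveILetI false
set_option linter.unusedSectionVars false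

universe u

open CategoryTheory CategoryTheory.Limits MonoidalCategory CartesianMonoidalCategory MonObj AlgebraicGeometry
open Groth.L08.Chev (IdCompData exists_idComp)

noncomputable section

namespace Groth.L24.Count

variable {k : Type u} [Field k] [Finite k] {kb : Type u} [Field kb] [Algebra k kb] [IsAlgClosure k kb]

/-- The points of the identity component: a normal subgroup of finite index with a twisted Lang property. -/
theorem exists_component (M : Over (Spec (CommRingCat.of k))) [GrpObj M] [AlgebraicGeometry.Smooth M.hom]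
    [IsAffineHom M.hom] (hM : Red.HasNoSubtorus kb (GalTw.bcK kb M)) (d : ℕ)
    (hd : topologicalKrullDim ↥M.left = (d : WithBot ℕ∞)) :
    ∃ (N : Over (Spec (CommRingCat.of k))) (_ : GrpObj N) (j : N ⟶ M) (_ : IsMonHom j),
      ConnectedSpace N.left ∧ LocallyOfFiniteType N.hom ∧ QuasiCompact N.hom ∧
      ∃ H : Subgroup (SGA7.Pts kb M), H.Normal ∧ Finite (SGA7.Pts kb M ⧸ H) ∧
        (∀ y ∈ H, ∃ n : SGA7.Pts kb N, n ≫ j = y) ∧ (∀ y ∈ H, frob k kb • y ∈ H) ∧
        (∀ (a x : SGA7.Pts kb M), x ∈ H → ∃ g ∈ H, g * a * (frob k kb • g)⁻¹ = x * a) ∧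
        ∀ a : SGA7.Pts kb M, Nat.card {u : H // (u : SGA7.Pts kb M) * a * (frob k kb • (u : SGA7.Pts kb M))⁻¹ = a} =
          Nat.card k ^ d := by
  classical
  haveI : IsAlgClosed kb := IsAlgClosure.isAlgClosed k
  haveI : Algebra.IsAlgebraic k kb := IsAlgClosure.isAlgebraic
  haveI : IsAffine M.left := isAffine_of_isAffineHom M.hom
  haveI : QuasiCompact M.hom := inferInstance
  obtain ⟨N, gN, j, hj⟩ := exists_idComp M
  haveI := hj.hom
  haveI := hj.openImm
  haveI := hj.closedImm
  haveI : ConnectedSpace N.left := hj.connectedSpace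
  haveI : AlgebraicGeometry.Smooth N.hom := hj.smooth
  haveI : IsAffine N.left := hj.isAffine
  haveI : IsAffineHom N.hom := isAffineHom_of_isAffine _
  haveI : QuasiCompact N.hom := inferInstance
  haveI : Mono j := Groth.L08.mono_of_closedImmersion j
  let P := SGA7.pt (K := k) kb
  let cp := IsLocalRing.closedPoint kb
  let π := frob k kb
  let one := Groth.L25.Component.one M
  -- no subtorus, same dimension
  have hN : Red.HasNoSubtorus kb (GalTw.bcK kb N) := fun T _ z _ _ hT =>
    hM T (z ≫ Groth.L11.GalTwist.bcMap j) hT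
  have hdN : topologicalKrullDim ↥N.left = (d : WithBot ℕ∞) := by
    have hclM : IsClosed ({one} : Set M.left) := Groth.L08.GrpDim.isClosed_one (G := M)
    obtain ⟨z, hz⟩ : one ∈ Set.range j.left := hj.range ▸ mem_connectedComponent
    have hclN : IsClosed ({z} : Set N.left) := by
      have : ({z} : Set N.left) = j.left ⁻¹' {one} := by
        ext y
        refine ⟨fun h => by rw [Set.mem_singleton_iff.1 h]; exact hz, fun h => ?_⟩
        exact j.left.isOpenEmbedding.injective ((Set.mem_singleton_iff.1 h).trans hz.symm)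
      rw [this]
      exact hclM.preimage j.left.continuous
    rw [← Groth.L08.GrpDim.ringKrullDim_stalk (G := N) z hclN, ← hd,
      ← Groth.L08.GrpDim.ringKrullDim_stalk (G := M) one hclM, ← hz]
    exact (ringKrullDim_eq_of_ringEquiv (asIso (j.left.stalkMap z)).commRingCatIsoToRingEquiv).symm
  -- geometric points of the identity component
  let im : SGA7.Pts kb M → M.left := fun y => y.left cp
  have hlift : ∀ y : SGA7.Pts kb M, im y ∈ connectedComponent one → ∃ n : SGA7.Pts kb N, n ≫ j = y := fun y hy => by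
    have hsub : Set.range y.left ⊆ Set.range j.left := by
      rintro _ ⟨w, rfl⟩
      rw [Subsingleton.elim (α := PrimeSpectrum kb) w cp, hj.range]
      exact hy
    refine ⟨Over.homMk (IsOpenImmersion.lift j.left y.left hsub) ?_, Over.OverMorphism.ext (IsOpenImmersion.lift_fac _ _ _)⟩
    rw [← Over.w j, IsOpenImmersion.lift_fac_assoc]
    exact Over.w y
  have hmem : ∀ n : SGA7.Pts kb N, im (n ≫ j) ∈ connectedComponent one := fun n => hj.range ▸ ⟨n.left cp, rfl⟩
  have hnormal : ∀ (g : SGA7.Pts kb M) (n : SGA7.Pts kb N), im (g * (n ≫ j) * g⁻¹) ∈ connectedComponent one := by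
    intro g n
    haveI : GeometricallyConnected N.hom :=
      Groth.L25.RatConn.geometricallyConnected_of_section N.hom η[N].left (Over.w η[N])
    haveI : ConnectedSpace (GalTw.bcK kb N).left :=
      GeometricallyConnected.geometrically_connectedSpace _ _ _ (IsPullback.of_hasPullback N.hom P.hom)
    haveI : PreconnectedSpace (N ⊗ P).left := inferInstanceAs (PreconnectedSpace (GalTw.bcK kb N).left)
    let ψ : N ⊗ P ⟶ M := (snd N P ≫ g) * (fst N P ≫ j) * (snd N P ≫ g)⁻¹
    have hval : ∀ m : SGA7.Pts kb N, ψ.left ((lift m (𝟙 P)).left cp) = im (g * (m ≫ j) * g⁻¹) := fun m => by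
      show (lift m (𝟙 P) ≫ ψ).left cp = _
      simp only [ψ, MonObj.comp_mul, GrpObj.comp_inv, lift_fst_assoc, lift_snd_assoc, Category.id_comp]
      rfl
    have h1 : ψ.left ((lift (1 : SGA7.Pts kb N) (𝟙 P)).left cp) = one := by
      rw [hval, MonObj.one_comp, _root_.mul_one, mul_inv_cancel]
      show (toUnit P ≫ η[M]).left cp = one
      exact congrArg η[M].left (Subsingleton.elim (α := PrimeSpectrum k) _ _)
    rw [← hval]
    exact Groth.L08.IdComp.mem_component_of_preconnected ψ.left h1 _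
  obtain ⟨c, hc⟩ : ∃ c : M ⊗ N ⟶ N, c ≫ j = fst M N * (snd M N ≫ j) * (fst M N)⁻¹ := by
    haveI : LocallyOfFiniteType (M ⊗ N).hom :=
      inferInstanceAs (LocallyOfFiniteType (pullback.fst M.hom N.hom ≫ M.hom))
    let cM : M ⊗ N ⟶ M := fst M N * (snd M N ≫ j) * (fst M N)⁻¹
    have hsub := range_subset_of_pts kb cM (U := Set.range j.left) j.left.isOpenEmbedding.isOpen_range fun w => by
      rw [hj.range]
      have e : w ≫ cM = (w ≫ fst M N) * ((w ≫ snd M N) ≫ j) * (w ≫ fst M N)⁻¹ := by
        simp only [cM, MonObj.comp_mul, GrpObj.comp_inv, Category.assoc]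
      rw [e]
      exact hnormal _ _
    refine ⟨Over.homMk (IsOpenImmersion.lift j.left cM.left hsub) ?_, Over.OverMorphism.ext (IsOpenImmersion.lift_fac _ _ _)⟩
    rw [← Over.w j, IsOpenImmersion.lift_fac_assoc]
    exact Over.w cM
  -- the component group
  let φ : SGA7.Pts kb N →* SGA7.Pts kb M := MonoidHom.mk' (fun n => n ≫ j) fun a b => MonObj.mul_comp a b j
  haveI hnor : φ.range.Normal := ⟨by
    rintro _ ⟨n, rfl⟩ g
    obtain ⟨n', hn'⟩ := hlift _ (hnormal g n)
    exact ⟨n', hn'⟩⟩
  let F := SGA7.Pts kb M ⧸ φ.range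
  haveI : Finite F := by
    let sp : (M ⊗ P).left ⟶ Spec (CommRingCat.of kb) := (snd M P).left
    haveI : QuasiCompact sp := inferInstanceAs (QuasiCompact (pullback.snd M.hom P.hom))
    haveI : CompactSpace (M ⊗ P).left := QuasiCompact.compactSpace_of_compactSpace sp
    let U : SGA7.Pts kb M → Set (M ⊗ P).left := fun g =>
      ((snd M P ≫ g)⁻¹ * fst M P).left ⁻¹' Set.range j.left
    have hval : ∀ g y : SGA7.Pts kb M, ((snd M P ≫ g)⁻¹ * fst M P).left ((lift y (𝟙 P)).left cp) = im (g⁻¹ * y) :=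
      fun g y => by
        show (lift y (𝟙 P) ≫ ((snd M P ≫ g)⁻¹ * fst M P)).left cp = _
        simp only [MonObj.comp_mul, GrpObj.comp_inv, lift_fst, lift_snd_assoc, Category.id_comp]
        rfl
    have hUo : ∀ g, IsOpen (U g) := fun g =>
      j.left.isOpenEmbedding.isOpen_range.preimage ((snd M P ≫ g)⁻¹ * fst M P).left.continuous
    have hcov : (⋃ g, U g) = Set.univ := eq_univ_of_pts kb M (isOpen_iUnion hUo) fun y => by
      refine Set.mem_iUnion.2 ⟨y, ?_⟩
      show _ ∈ Set.range j.left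
      rw [hval, inv_mul_cancel, hj.range, show im (1 : SGA7.Pts kb M) = one from
        congrArg η[M].left (Subsingleton.elim (α := PrimeSpectrum k) _ _)]
      exact mem_connectedComponent
    obtain ⟨t, ht⟩ := isCompact_univ.elim_finite_subcover U hUo hcov.symm.subset
    refine Finite.of_surjective (fun g : t => (QuotientGroup.mk g.1 : F)) fun f => ?_
    obtain ⟨y, rfl⟩ := QuotientGroup.mk_surjective f
    obtain ⟨g, hg, hy⟩ : ∃ g ∈ t, (lift y (𝟙 P)).left cp ∈ U g := by simpa using ht (Set.mem_univ ((lift y (𝟙 P)).left cp))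
    refine ⟨⟨g, hg⟩, QuotientGroup.eq.2 ?_⟩
    have hy' : im (g⁻¹ * y) ∈ connectedComponent one := by rw [← hj.range, ← hval]; exact hy
    obtain ⟨n, hn⟩ := hlift _ hy'
    exact ⟨n, hn⟩
  have hst : ∀ (y : SGA7.Pts kb M), y ∈ φ.range → π • y ∈ φ.range := by
    rintro _ ⟨n, rfl⟩
    refine ⟨π • n, ?_⟩
    show (SGA7.specAut π ≫ n) ≫ j = SGA7.specAut π ≫ n ≫ j
    rw [Category.assoc]
  refine ⟨N, gN, j, inferInstance, inferInstance, inferInstance, inferInstance, φ.range, hnor, inferInstance,
    fun y hy => hy, hst, fun a x hx => ?_, fun a => ?_⟩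
  · obtain ⟨x', rfl⟩ := hx
    obtain ⟨g, hg⟩ := exists_twisted_lang (kb := kb) j (fun p q h => (cancel_mono j).1 h) c hc a x'
    exact ⟨g ≫ j, ⟨g, rfl⟩, hg⟩
  · rw [← card_twisted N M hN d hdN j c hc a]
    refine (Nat.card_congr (Equiv.ofBijective (fun u => ⟨⟨u.1 ≫ j, u.1, rfl⟩, u.2⟩) ⟨?_, ?_⟩)).symm
    · intro u u' h
      exact Subtype.ext ((cancel_mono j).1 (congrArg (fun v => v.1.1) h))
    · rintro ⟨⟨_, u, rfl⟩, hu⟩
      exact ⟨⟨u, hu⟩, rfl⟩

/-- Representatives of all twisted classes of a smooth affine group whose identity component has no subtorus,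
with their mass. -/
theorem exists_mass (M : Over (Spec (CommRingCat.of k))) [GrpObj M] [AlgebraicGeometry.Smooth M.hom]
    [IsAffineHom M.hom] (hM : Red.HasNoSubtorus kb (GalTw.bcK kb M)) (d : ℕ)
    (hd : topologicalKrullDim ↥M.left = (d : WithBot ℕ∞)) :
    ∃ (n : ℕ) (c : Fin n → SGA7.Pts kb M), (∀ i j, Conj (c i) (c j) → i = j) ∧ (∀ b, ∃ j, Conj b (c j)) ∧
      (∀ j, Finite (GFix (c j))) ∧ ∑ j, ((Nat.card (GFix (c j)) : ℚ))⁻¹ = ((Nat.card k : ℚ) ^ d)⁻¹ := by
  obtain ⟨N, _, j, _, -, -, -, H, hn, hf, -, hst, hlang, hQ⟩ := exists_component M hM d hd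
  haveI := hn
  haveI := hf
  haveI : IsAffine M.left := isAffine_of_isAffineHom M.hom
  haveI : QuasiCompact M.hom := inferInstance
  let sig : SGA7.Pts kb M →* SGA7.Pts kb M :=
    MonoidHom.mk' (fun y => frob k kb • y) fun a b => smul_mul' (frob k kb) a b
  obtain ⟨n, r, h1, h2, h3⟩ := Mass.exists_mass sig H hst (Nat.card k ^ d) hlang hQ
  refine ⟨n, r, h1, h2, fun i => finite_gFix (r i), ?_⟩
  rw [← Nat.cast_pow]
  exact h3

end Groth.L24.Count
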