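import Groth.Agent.L24.Count.Flat
import Groth.Agent.L24.Count.ConjTwist
import Groth.Agent.L24.Count.Level
import Groth.Agent.L25.Bridge.Spec
import Groth.Agent.L24.Count.UnipScheme
import Mathlib.RingTheory.Finiteness.Descent

/-! The inner twist of an affine group by a point, with its geometric points. -/

set_option autoImplicit false
set_option backward.isDefEq.respectTransparency false
set_option backward.isDefEq.respectTransparency.types false
set_option linter.style.haveILetI false
set_option linter.unusedSectionVars false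
set_option maxHeartbeats 1000000

universe u

open CategoryTheory MonoidalCategory CartesianMonoidalCategory MonObj AlgebraicGeometry Limits
open GalTw TensorProduct
open Groth.L11.GalTwist (bcMap)
open Groth.L25.Bridge (P bcIso exists_hopf)

noncomputable section

namespace Groth.L24.Count

variable {k : Type u} [Field k] [Finite k] {kb : Type u} [Field kb] [Algebra k kb] [IsAlgClosure k kb]

/-- The twist of an affine group by conjugation with a point, as a Hopf algebra with its geometric points. -/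
theorem exists_twistPts (G : Over (Spec (CommRingCat.of k))) [GrpObj G] [LocallyOfFiniteType G.hom]
    [IsAffineHom G.hom] (b : SGA7.Pts kb G) :
    ∃ (C : Type u) (_ : CommRing C) (_ : HopfAlgebra k C) (_ : Algebra.FiniteType k C)
      (Φ : bcK kb (P k C) ≅ bcK kb G) (e : SGA7.Pts kb (P k C) →* SGA7.Pts kb G),
      IsMonHom Φ.hom ∧ Function.Bijective e ∧ (∀ y, secOfPt kb y ≫ Φ.hom = secOfPt kb (e y)) ∧
      ∀ y, e (frob k kb • y) = b * (frob k kb • e y) * b⁻¹ := by
  haveI : Algebra.IsAlgebraic k kb := IsAlgClosure.isAlgebraic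
  haveI : QuasiCompact G.hom := inferInstance
  obtain ⟨L⟩ := exists_levelOf b
  haveI := L.fd
  haveI : Finite L.E := Module.finite_of_finite k
  haveI : IsGalois k L.E := GaloisField.instIsGaloisOfFinite
  obtain ⟨z, hz⟩ := L.exists_cocycle
  let c : G ⊗ G ⟶ G := fst G G * snd G G * (fst G G)⁻¹
  have hc : c ≫ 𝟙 G = fst G G * (snd G G ≫ 𝟙 G) * (fst G G)⁻¹ := by simp [c]
  obtain ⟨Y, gY, φ, hφm, hYaff, hφ, -⟩ := exists_conjTwist (i := 𝟙 G) hc z
  haveI : IsAffine Y.left := isAffine_of_isAffineHom Y.hom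
  obtain ⟨C, _, _, ⟨FY⟩⟩ := exists_hopf (R := k) Y
  let F := Over.pullback (SGA7.pt (K := k) L.E).hom
  haveI := hφm
  let ψ : Grp.mk (bcK L.E (P k C)) ≅ Grp.mk (bcK L.E G) := F.mapGrp.mapIso FY.symm ≪≫ Grp.mkIso' φ
  let φ' : bcK L.E (P k C) ≅ bcK L.E G := (Grp.forget _).mapIso ψ
  haveI : IsMonHom φ'.hom := ψ.hom.hom.isMonHom_hom
  have hφ' : ∀ σ, twHom σ φ'.hom ≫ cj c (z.1 σ) = φ'.hom := fun σ => by
    show twHom σ (bcMap FY.inv.hom.hom ≫ φ.hom) ≫ _ = bcMap FY.inv.hom.hom ≫ φ.hom
    rw [twHom_comp, Groth.L11.GalTwist.twHom_bcMap, Category.assoc, hφ σ]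
  -- finite type
  haveI hft : Algebra.FiniteType k C := by
    let B : Grp.mk (bcK L.E (P k C)) ≅ Grp.mk (P L.E (L.E ⊗[k] C)) := bcIso k C L.E
    let e' : P L.E (L.E ⊗[k] C) ≅ bcK L.E G := (Grp.forget _).mapIso (B.symm ≪≫ ψ)
    haveI : IsIso e'.hom.left := inferInstanceAs (IsIso ((Over.forget _).map e'.hom))
    haveI : LocallyOfFiniteType (bcK L.E G).hom :=
      inferInstanceAs (LocallyOfFiniteType (pullback.snd G.hom (SGA7.pt (K := k) L.E).hom))
    haveI : Algebra.FiniteType L.E (L.E ⊗[k] C) := by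
      have h : LocallyOfFiniteType (P L.E (L.E ⊗[k] C)).hom := by
        rw [← Over.w e'.hom]
        infer_instance
      change LocallyOfFiniteType (Spec.map (CommRingCat.ofHom (algebraMap L.E (L.E ⊗[k] C)))) at h
      rw [HasRingHomProperty.Spec_iff (P := @LocallyOfFiniteType), CommRingCat.hom_ofHom,
        RingHom.finiteType_algebraMap] at h
      exact h
    exact Algebra.FiniteType.of_finiteType_tensorProduct_of_faithfullyFlat L.E
  let j := inc L.E
  let Φ := upIso (K' := kb) j φ'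
  haveI : IsMonHom Φ.hom := isMonHom_up j φ'.hom
  have hsec : ∀ y, secOfPt kb y ≫ Φ.hom = secOfPt kb (ev Φ.hom y) := secOfPt_comp_hom Φ.hom
  let e : SGA7.Pts kb (P k C) →* SGA7.Pts kb G := MonoidHom.mk' (fun y => ev Φ.hom y) fun y y' =>
    secOfPt_injective (by rw [secOfPt_mul, ← hsec, ← hsec, ← hsec, ← MonObj.mul_comp, ← secOfPt_mul])
  have hbij : Function.Bijective e := by
    refine ⟨fun y y' h => ?_, fun g => ?_⟩
    · apply secOfPt_injective
      rw [← cancel_mono Φ.hom, hsec, hsec]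
      exact congrArg _ h
    · obtain ⟨y, hy⟩ := exists_secOfPt_eq (secOfPt kb g ≫ Φ.inv)
      refine ⟨y, secOfPt_injective (Eq.trans (hsec y).symm ?_)⟩
      rw [hy, Category.assoc, Φ.inv_hom_id, Category.comp_id]
  refine ⟨C, _, _, hft, Φ, e, ‹_›, hbij, hsec, fun y => ?_⟩
  show ev Φ.hom (frob k kb • y) = b * (frob k kb • ev Φ.hom y) * b⁻¹
  have hev : ∀ y, ev Φ.hom y = lift y j ≫ fl φ'.hom := fun y => ev_up j φ'.hom y
  rw [hev, hev]
  let π := frob k kb
  let σ := π.restrictNormal L.E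
  have key := congrArg (fun f => lift (π • y) j ≫ fl f) (hφ' σ)
  have hcj : fl (cj c (z.1 σ)) =
      (snd G _ ≫ z.1 σ) * fst G _ * (snd G (SGA7.pt (K := k) L.E) ≫ z.1 σ)⁻¹ := by
    have h := congrArg fl (cj_comp hc (z.1 σ))
    rw [fl_comp_bcMap, Category.comp_id, fl_mul, fl_mul, fl_inv, fl_cst, fl_bcMap, Category.comp_id] at h
    exact h
  simp only [fl_comp, hcj, fl_twHom, MonObj.comp_mul, GrpObj.comp_inv, lift_fst, lift_snd_assoc, lift_whiskerLeft,
    comp_lift_assoc, ← Category.assoc] at key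
  refine key.symm.trans ?_
  have hb : (inc L.E ≫ z.1 σ : SGA7.Pts kb G) = b := hz
  have hswap : j ≫ SGA7.specAut σ = SGA7.specAut π ≫ j := (specAut_inc L.E π).symm
  simp only [pts_smul_def, hswap, Category.assoc, lift_snd, lift_fst, lift_whiskerLeft_assoc, comp_lift,
    MonObj.comp_mul, GrpObj.comp_inv]
  rw [hb, comp_lift_assoc]

end Groth.L24.Count
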