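import Groth.Agent.L24.Count.UnipLang
import Groth.Agent.L24.Count.Rational
import Groth.Agent.L01.MultConj.Good
import Groth.Agent.L08.HopfDim
import Groth.Agent.L22.AffineDim
import Groth.Agent.S5422
import Mathlib.RingTheory.KrullDimension.Regular
import Mathlib.FieldTheory.Perfect

/-! Connected smooth unipotent groups over a finite field have `q ^ dim` rational points. -/

set_option autoImplicit false
set_option linter.style.haveILetI false
set_option linter.unusedSectionVars false

universe u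

open TensorProduct WithConv
open Groth.L01.SmoothKer (IsPrim)
open Groth.L01.MultConj (prim_mul prim_one prim_pinv isPrim_one_tmul isHopfIdeal_span_prim)
open Groth.L08 (pinv pinv_mul mul_pinv)
open Groth.L01.UnipSplit (post_mul pre_mul pre_one)

noncomputable section

namespace Groth.L24.Count

variable {k : Type u} [Field k] [Finite k] {kb : Type u} [Field kb] [Algebra k kb] [IsAlgClosure k kb]

/-- An additive function takes every value at a geometric point. -/
theorem exists_point_prim {C : Type u} [CommRing C] [HopfAlgebra k C] [Algebra.FiniteType k C] [IsDomain (kb ⊗[k] C)]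
    {f : C} (hf : IsPrim (k := k) f) (hf0 : f ≠ 0) (s : kb) : ∃ x : C →ₐ[k] kb, x f = s := by
  haveI : IsAlgClosed kb := IsAlgClosure.isAlgClosed k
  have hF : IsPrim (k := kb) ((1 : kb) ⊗ₜ[k] f) := isPrim_one_tmul hf
  have hF0 : (1 : kb) ⊗ₜ[k] f ≠ 0 := fun h =>
    hf0 (Algebra.TensorProduct.includeRight_injective (A := kb) (algebraMap k kb).injective
      (h.trans (TensorProduct.tmul_zero _ _).symm))
  obtain ⟨u, hu⟩ := Groth.L01.SmoothKer.exists_point hF s fun p hp => by
    by_cases hp0 : p = 0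
    · simp [hp0]
    exfalso
    have halg : IsAlgebraic kb ((1 : kb) ⊗ₜ[k] f) := ⟨p, hp0, hp⟩
    obtain ⟨c, hc⟩ : (1 : kb) ⊗ₜ[k] f ∈ Set.range (algebraMap kb (kb ⊗[k] C)) := by
      have hdeg := IsAlgClosed.degree_eq_one_of_irreducible kb (minpoly.irreducible halg.isIntegral)
      have hz := minpoly.aeval kb ((1 : kb) ⊗ₜ[k] f)
      rw [Polynomial.eq_X_add_C_of_degree_eq_one hdeg, (minpoly.monic halg.isIntegral).leadingCoeff, map_one,
        one_mul, map_add, Polynomial.aeval_X, Polynomial.aeval_C] at hz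
      exact ⟨-(minpoly kb ((1 : kb) ⊗ₜ[k] f)).coeff 0, by rw [map_neg]; exact (eq_neg_of_add_eq_zero_left hz).symm⟩
    have h0 := hF.counit
    rw [← hc, Bialgebra.counit_algebraMap] at h0
    exact hF0 (by rw [← hc, h0, map_zero])
  exact ⟨(u.restrictScalars k).comp Algebra.TensorProduct.includeRight, hu⟩

theorem mem_range_of_comp_eq {C : Type u} [CommRing C] [Algebra k C] (x : C →ₐ[k] kb)
    (hx : (frob k kb : kb →ₐ[k] kb).comp x = x) : ∃ y : C →ₐ[k] k, (Algebra.ofId k kb).comp y = x := by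
  have hmem : ∀ a, x a ∈ Set.range (algebraMap k kb) := fun a =>
    IntermediateField.mem_bot.1 (mem_bot_of_frob kb (AlgHom.congr_fun hx a))
  choose g hg using hmem
  have hinj := (algebraMap k kb).injective
  exact ⟨{ toFun := g
           map_one' := hinj (by rw [hg, map_one, map_one])
           map_mul' := fun a b => hinj (by rw [hg, map_mul, map_mul, hg, hg])
           map_zero' := hinj (by rw [hg, map_zero, map_zero])
           map_add' := fun a b => hinj (by rw [hg, map_add, map_add, hg, hg])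
           commutes' := fun r => hinj (by rw [hg, AlgHom.commutes]; rfl) }, AlgHom.ext hg⟩

/-- An additive function with connected smooth kernel takes every value at a rational point. -/
theorem exists_rational_prim {C : Type u} [CommRing C] [HopfAlgebra k C] [Algebra.FiniteType k C]
    [IsDomain (kb ⊗[k] C)] {f : C} (hf : IsPrim (k := k) f) (hf0 : f ≠ 0) [IsDomain (C ⧸ Ideal.span {f})]
    (c : k) : ∃ y : C →ₐ[k] k, y f = c := by
  haveI := isHopfIdeal_span_prim hf
  let π : C →ₐc[k] C ⧸ Ideal.span {f} := Bialgebra.Quotient.mkBialgHom (R := k) (Ideal.span {f})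
  haveI : Algebra.FiniteType k (C ⧸ Ideal.span {f}) :=
    Algebra.FiniteType.of_surjective (Ideal.Quotient.mkₐ k _) Ideal.Quotient.mk_surjective
  let σ : kb →ₐ[k] kb := (frob k kb : kb →ₐ[k] kb)
  obtain ⟨x₀, hx₀⟩ := exists_point_prim hf hf0 (algebraMap k kb c)
  let x : WithConv (C →ₐ[k] kb) := toConv x₀
  let σx : WithConv (C →ₐ[k] kb) := toConv (σ.comp x₀)
  let g₀ : WithConv (C →ₐ[k] kb) := pinv x * σx
  have hg₀ : g₀.ofConv f = 0 := by
    show (pinv x * σx).ofConv f = 0
    rw [prim_mul hf, prim_pinv hf]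
    show -(x₀ f) + σ (x₀ f) = 0
    rw [hx₀, AlgHom.commutes, neg_add_cancel]
  let g' : WithConv ((C ⧸ Ideal.span {f}) →ₐ[k] kb) :=
    toConv (Ideal.Quotient.liftₐ _ g₀.ofConv fun a ha => by
      obtain ⟨b, rfl⟩ := Ideal.mem_span_singleton'.1 ha
      rw [map_mul, hg₀, mul_zero])
  have hg' : toConv (g'.ofConv.comp (π : C →ₐ[k] C ⧸ Ideal.span {f})) = g₀ :=
    WithConv.ofConv_injective (AlgHom.ext fun a => rfl)
  obtain ⟨h', hh'⟩ := exists_lang_hopf (kb := kb) (C ⧸ Ideal.span {f}) g'
  let h : WithConv (C →ₐ[k] kb) := toConv (h'.ofConv.comp (π : C →ₐ[k] C ⧸ Ideal.span {f}))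
  have hh : g₀ * toConv (σ.comp h.ofConv) = h := by
    have e := congrArg (fun w : WithConv ((C ⧸ Ideal.span {f}) →ₐ[k] kb) =>
      toConv (w.ofConv.comp (π : C →ₐ[k] C ⧸ Ideal.span {f}))) hh'
    refine Eq.trans ?_ e
    show _ = toConv ((g' * toConv (σ.comp h'.ofConv)).ofConv.comp (π : C →ₐ[k] C ⧸ Ideal.span {f}))
    rw [pre_mul, hg']
    rfl
  have hfix : σ.comp (x * h).ofConv = (x * h).ofConv := by
    have e : toConv (σ.comp (x * h).ofConv) = σx * toConv (σ.comp h.ofConv) := post_mul σ x h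
    have e2 : x * h = σx * toConv (σ.comp h.ofConv) := by
      conv_lhs => rw [← hh]
      rw [← mul_assoc, ← mul_assoc, mul_pinv, one_mul]
    exact congrArg WithConv.ofConv (e.trans e2.symm)
  obtain ⟨y, hy⟩ := mem_range_of_comp_eq (x * h).ofConv hfix
  refine ⟨y, (algebraMap k kb).injective ?_⟩
  have e3 := AlgHom.congr_fun hy f
  refine e3.trans ?_
  rw [prim_mul hf]
  show x₀ f + h'.ofConv (Ideal.Quotient.mk _ f) = _
  rw [hx₀, Ideal.Quotient.eq_zero_iff_mem.2 (Ideal.mem_span_singleton_self f), map_zero, add_zero]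

/-- The points killed by an additive function. -/
def kerEquiv {C : Type u} [CommRing C] [HopfAlgebra k C] (f : C) (y : WithConv (C →ₐ[k] k)) (hf : IsPrim (k := k) f) :
    {w : WithConv (C →ₐ[k] k) // w.ofConv f = y.ofConv f} ≃ ((C ⧸ Ideal.span {f}) →ₐ[k] k) where
  toFun w := Ideal.Quotient.liftₐ _ (pinv y * w.1).ofConv fun a ha => by
    obtain ⟨b, rfl⟩ := Ideal.mem_span_singleton'.1 ha
    rw [map_mul, prim_mul hf, prim_pinv hf, w.2, neg_add_cancel, mul_zero]
  invFun n := ⟨y * toConv (n.comp (Ideal.Quotient.mkₐ k _)), by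
    rw [prim_mul hf]
    show y.ofConv f + n (Ideal.Quotient.mk _ f) = _
    rw [Ideal.Quotient.eq_zero_iff_mem.2 (Ideal.mem_span_singleton_self f), map_zero, add_zero]⟩
  left_inv w := by
    refine Subtype.ext ?_
    show y * toConv _ = w.1
    rw [show toConv ((Ideal.Quotient.liftₐ (Ideal.span {f}) (pinv y * w.1).ofConv _).comp
      (Ideal.Quotient.mkₐ k _)) = pinv y * w.1 from WithConv.ofConv_injective (AlgHom.ext fun _ => rfl),
      ← mul_assoc, mul_pinv, one_mul]
  right_inv n := by
    refine Ideal.Quotient.algHom_ext k (AlgHom.ext fun a => ?_)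
    show (pinv y * (y * toConv (n.comp (Ideal.Quotient.mkₐ k _)))).ofConv a = _
    rw [← mul_assoc, pinv_mul, one_mul]

/-- **Connected smooth unipotent groups over a finite field have `q ^ dim` points.** -/
theorem card_points_of_isUnipotent (d : ℕ) : ∀ (C : Type u) [CommRing C] [HopfAlgebra k C] [Algebra.FiniteType k C]
    [IsDomain (kb ⊗[k] C)], HopfRep.IsUnipotent k C → ringKrullDim C = d →
    Nat.card (C →ₐ[k] k) = Nat.card k ^ d := by
  induction d using Nat.strong_induction_on with
  | _ d IH =>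
  intro C _ _ _ _ hU hdim
  haveI : IsAlgClosed kb := IsAlgClosure.isAlgClosed k
  haveI : Normal k kb := IsAlgClosure.normal k kb
  haveI : IsDomain C := Function.Injective.isDomain (Algebra.TensorProduct.includeRight : C →ₐ[k] kb ⊗[k] C).toRingHom
    (Algebra.TensorProduct.includeRight_injective (algebraMap k kb).injective)
  by_cases hne : RingHom.ker (Bialgebra.counitAlgHom k C) = ⊥
  · have hbij : Function.Bijective (Bialgebra.counitAlgHom k C) :=
      ⟨(RingHom.injective_iff_ker_eq_bot _).2 hne, fun c => ⟨algebraMap k C c, (Bialgebra.counitAlgHom k C).commutes c⟩⟩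
    let e := AlgEquiv.ofBijective (Bialgebra.counitAlgHom k C) hbij
    obtain rfl : d = 0 := by
      rw [ringKrullDim_eq_of_ringEquiv e.toRingEquiv, ringKrullDim_eq_zero_of_field] at hdim
      exact_mod_cast hdim.symm
    rw [pow_zero, Nat.card_eq_one_iff_unique]
    refine ⟨⟨fun a b => AlgHom.ext fun x => ?_⟩, ⟨Bialgebra.counitAlgHom k C⟩⟩
    obtain ⟨c, rfl⟩ : ∃ c, algebraMap k C c = x :=
      ⟨e x, hbij.1 (((Bialgebra.counitAlgHom k C).commutes (e x)).trans rfl)⟩
    rw [AlgHom.commutes, AlgHom.commutes]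
  obtain ⟨f, hf, hf0, hdom⟩ := Groth.L01.MultConj.exists_good (K := kb) hU hne
  haveI := isHopfIdeal_span_prim hf
  haveI := hdom
  haveI : IsDomain (C ⧸ Ideal.span {f}) := Function.Injective.isDomain
    (Algebra.TensorProduct.includeRight : _ →ₐ[k] kb ⊗[k] (C ⧸ Ideal.span {f})).toRingHom
    (Algebra.TensorProduct.includeRight_injective (algebraMap k kb).injective)
  haveI : Algebra.FiniteType k (C ⧸ Ideal.span {f}) :=
    Algebra.FiniteType.of_surjective (Ideal.Quotient.mkₐ k _) Ideal.Quotient.mk_surjective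
  haveI : IsNoetherianRing C := Algebra.FiniteType.isNoetherianRing k C
  -- the dimension drops by one
  have hd : ringKrullDim (C ⧸ Ideal.span {f}) + 1 = d := by
    rw [← hdim]
    haveI : (RingHom.ker (Bialgebra.counitAlgHom k C)).IsMaximal :=
      RingHom.ker_isMaximal_of_surjective _ fun c => ⟨algebraMap k C c, (Bialgebra.counitAlgHom k C).commutes c⟩
    refine Module.ringKrullDim_quotient_add_one_of_mem_nonZeroDivisors (mem_nonZeroDivisors_of_ne_zero hf0)
      (p := RingHom.ker (Bialgebra.counitAlgHom k C)) ?_ hf.counit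
    obtain ⟨h, e, d', hh, he, hd', hhe⟩ := Groth.L22.AffineDim.dim_formula k C (RingHom.ker (Bialgebra.counitAlgHom k C))
    have he0 : e = 0 := by
      rw [ringKrullDim_eq_of_ringEquiv (Ideal.quotientKerAlgEquivOfSurjective (f := Bialgebra.counitAlgHom k C)
        fun c => ⟨algebraMap k C c, (Bialgebra.counitAlgHom k C).commutes c⟩).toRingEquiv,
        ringKrullDim_eq_zero_of_field] at he
      exact_mod_cast he.symm
    rw [hh, hd', ← hhe, he0, add_zero]
    rfl
  obtain ⟨m, hm, rfl⟩ : ∃ m : ℕ, ringKrullDim (C ⧸ Ideal.span {f}) = m ∧ d = m + 1 := by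
    obtain ⟨e, he⟩ := WithBot.ne_bot_iff_exists.1
      (ne_of_gt (lt_of_lt_of_le (WithBot.bot_lt_coe 0) (ringKrullDim_nonneg_of_nontrivial (R := C ⧸ Ideal.span {f}))))
    rw [← he] at hd ⊢
    have h2 : e + 1 = (d : ℕ∞) := by exact_mod_cast hd
    have hne' : e ≠ ⊤ := fun h => by simp [h] at h2
    obtain ⟨j, rfl⟩ := ENat.ne_top_iff_exists.1 hne'
    exact ⟨j, rfl, by exact_mod_cast h2.symm⟩
  have hU' : HopfRep.IsUnipotent k (C ⧸ Ideal.span {f}) :=
    (Groth.Agent.S5422.result k C).1 _ (Bialgebra.Quotient.mkBialgHom (R := k) (Ideal.span {f}))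
      Ideal.Quotient.mk_surjective hU
  have hcard := IH m (Nat.lt_succ_self m) (C ⧸ Ideal.span {f}) hU' hm
  -- fibrewise count
  let χ : WithConv (C →ₐ[k] k) → k := fun w => w.ofConv f
  have hfib : ∀ c : k, Nat.card {w : WithConv (C →ₐ[k] k) // χ w = c} = Nat.card k ^ m := by
    intro c
    obtain ⟨y, hy⟩ := exists_rational_prim (kb := kb) hf hf0 c
    subst hy
    rw [← hcard]
    exact Nat.card_congr (kerEquiv f (toConv y) hf)
  haveI : ∀ c : k, Finite {w : WithConv (C →ₐ[k] k) // χ w = c} := fun c => Nat.finite_of_card_ne_zero (by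
    rw [hfib]; exact pow_ne_zero _ Nat.card_pos.ne')
  haveI := Fintype.ofFinite k
  rw [Nat.card_congr ((WithConv.equiv (C →ₐ[k] k)).symm.trans (Equiv.sigmaFiberEquiv χ).symm), Nat.card_sigma]
  simp [hfib, Finset.card_univ, Nat.card_eq_fintype_card, pow_succ, mul_comm]

end Groth.L24.Count
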