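import Groth.Agent.L24.Count.TwistedLang
import Groth.Agent.L08.TorusQuot.Affine


/-! Lang's theorem on the points of a connected affine group in algebra form. -/

set_option autoImplicit false
set_option linter.style.haveILetI false
set_option linter.unusedSectionVars false
set_option backward.isDefEq.respectTransparency.types false

universe u

open CategoryTheory MonoidalCategory CartesianMonoidalCategory MonObj AlgebraicGeometry
open TensorProduct WithConv
open Groth.L25.Bridge (P)
open Groth.L08.TorusQuot (SP toPt ofPt toPt_post spA toPt_ofPt)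

noncomputable section

namespace Groth.L24.Count

variable {k : Type u} [Field k] [Finite k] {kb : Type u} [Field kb] [Algebra k kb] [IsAlgClosure k kb]

/-- Lang's theorem on the points with values in the algebraic closure. -/
theorem exists_lang_hopf (C : Type u) [CommRing C] [HopfAlgebra k C] [Algebra.FiniteType k C] [IsDomain C]
    (g : WithConv (C →ₐ[k] kb)) :
    ∃ h : WithConv (C →ₐ[k] kb), g * toConv ((frob k kb : kb →ₐ[k] kb).comp h.ofConv) = h := by
  haveI : LocallyOfFiniteType (P k C).hom := by
    show LocallyOfFiniteType (Spec.map (CommRingCat.ofHom (algebraMap k C)))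
    rw [HasRingHomProperty.Spec_iff (P := @LocallyOfFiniteType), CommRingCat.hom_ofHom,
      RingHom.finiteType_algebraMap]
    infer_instance
  haveI : IsAffine (P k C).left := inferInstanceAs (IsAffine (Spec (CommRingCat.of C)))
  haveI : IsAffineHom (P k C).hom := isAffineHom_of_isAffine _
  haveI : ConnectedSpace (P k C).left := inferInstanceAs (ConnectedSpace (PrimeSpectrum C))
  let c : P k C ⊗ P k C ⟶ P k C := fst _ _ * snd _ _ * (fst _ _)⁻¹
  obtain ⟨y, hy⟩ := exists_twisted_lang (kb := kb) (𝟙 (P k C)) (fun a b h => by simpa using h) c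
    (by simp [c]) 1 (toPt g : SGA7.Pts kb (P k C))
  simp only [Category.comp_id, _root_.mul_one] at hy
  let h : WithConv (C →ₐ[k] kb) := ofPt y
  refine ⟨h, (Spec.mapMulEquiv (R := k) (S := C) (T := kb)).injective ?_⟩
  rw [map_mul]
  have e1 : toPt h = y := toPt_ofPt y
  have e2 : toPt (toConv ((frob k kb : kb →ₐ[k] kb).comp h.ofConv)) = frob k kb • y := by
    refine (toPt_post (frob k kb : kb →ₐ[k] kb) h).trans ?_
    rw [e1]
    rfl
  show toPt g * toPt (toConv ((frob k kb : kb →ₐ[k] kb).comp h.ofConv)) = toPt h
  rw [e2, e1]
  exact (mul_inv_eq_iff_eq_mul.1 hy).symm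

end Groth.L24.Count
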