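import Groth.Agent.L24.Count.UnipScheme
import Groth.Agent.L24.Count.ConjTwist
import Groth.Agent.L24.Count.Level
import Groth.Agent.L21.CurvFib.DimExt
import Mathlib.RingTheory.Finiteness.Descent

/-! Twisted fixed points of a normal connected unipotent subgroup. -/

set_option autoImplicit false
set_option backward.isDefEq.respectTransparency.types false
set_option linter.style.haveILetI false
set_option linter.unusedSectionVars false

universe u

open CategoryTheory CategoryTheory.Limits MonoidalCategory CartesianMonoidalCategory MonObj AlgebraicGeometry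
open TensorProduct WithConv
open Groth.L25.Bridge (P bcIso exists_hopf exists_bialgEquiv)
open Groth.L14.Stack (iter exists_eq_pow_on)

noncomputable section

namespace Groth.L24.Count

variable {k : Type u} [Field k] {kb : Type u} [Field kb] [Algebra k kb]

/-- Forms of a unipotent group are unipotent. -/
theorem transfer_unipotent {E : Type u} [Field E] [Algebra k E] [Algebra E kb] [IsScalarTower k E kb]
    {A A' : Type u} [CommRing A] [HopfAlgebra k A] [Algebra.FiniteType k A] [CommRing A'] [HopfAlgebra k A']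
    (e : (E ⊗[k] A) ≃ₐc[E] (E ⊗[k] A')) (hU : HopfRep.IsUnipotent k A) [IsDomain (kb ⊗[k] A)] :
    Algebra.FiniteType k A' ∧ IsDomain (kb ⊗[k] A') ∧ HopfRep.IsUnipotent k A' ∧
      ringKrullDim A' = ringKrullDim A := by
  haveI : Algebra.FiniteType E (E ⊗[k] A) := inferInstance
  haveI : Algebra.FiniteType E (E ⊗[k] A') := Algebra.FiniteType.equiv ‹_› e.toAlgEquiv
  haveI hft : Algebra.FiniteType k A' := Algebra.FiniteType.of_finiteType_tensorProduct_of_faithfullyFlat E
  refine ⟨hft, ?_, ?_, ?_⟩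
  · let c : ∀ (B : Type u) [CommRing B] [Algebra k B], kb ⊗[E] (E ⊗[k] B) ≃ₐ[kb] kb ⊗[k] B := fun B _ _ =>
      Algebra.TensorProduct.cancelBaseChange k E kb kb B
    let f : kb ⊗[k] A' ≃ₐ[kb] kb ⊗[k] A :=
      (c A').symm.trans ((Algebra.TensorProduct.congr (AlgEquiv.refl (R := kb) (A₁ := kb)) e.toAlgEquiv.symm).trans (c A))
    exact MulEquiv.isDomain (kb ⊗[k] A) f.toMulEquiv
  · refine (Groth.Agent.S7951.result k E A').2 ?_
    exact (Groth.Agent.S5422.result E (E ⊗[k] A)).1 (E ⊗[k] A') (e : (E ⊗[k] A) →ₐc[E] E ⊗[k] A') e.surjective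
      ((Groth.Agent.S7951.result k E A).1 hU)
  · rw [← Groth.L21.CurvFib.ringKrullDim_tensor_field k E A', ← Groth.L21.CurvFib.ringKrullDim_tensor_field k E A,
      ringKrullDim_eq_of_ringEquiv (Algebra.TensorProduct.comm k A' E).toRingEquiv,
      ringKrullDim_eq_of_ringEquiv (Algebra.TensorProduct.comm k A E).toRingEquiv,
      ringKrullDim_eq_of_ringEquiv e.toAlgEquiv.toRingEquiv]

variable [Finite k] [IsAlgClosure k kb]

/-- Twisted rational points of a normal connected smooth unipotent subgroup. -/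
theorem card_twisted (A B : Over (Spec (CommRingCat.of k))) [GrpObj A] [GrpObj B] [AlgebraicGeometry.Smooth A.hom]
    [IsAffineHom A.hom] [ConnectedSpace A.left] [LocallyOfFiniteType B.hom] [QuasiCompact B.hom]
    (hA : Red.HasNoSubtorus kb (GalTw.bcK kb A)) (d : ℕ) (hd : topologicalKrullDim ↥A.left = (d : WithBot ℕ∞))
    (i : A ⟶ B) [IsMonHom i] [Mono i] (c : B ⊗ A ⟶ A) (hc : c ≫ i = fst B A * (snd B A ≫ i) * (fst B A)⁻¹)
    (b : SGA7.Pts kb B) :
    Nat.card {u : SGA7.Pts kb A // (u ≫ i) * b * (frob k kb • (u ≫ i : SGA7.Pts kb B))⁻¹ = b} = Nat.card k ^ d := by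
  haveI : Algebra.IsAlgebraic k kb := IsAlgClosure.isAlgebraic
  haveI : IsAlgClosed kb := IsAlgClosure.isAlgClosed k
  haveI : IsAffine A.left := isAffine_of_isAffineHom A.hom
  obtain ⟨L⟩ := exists_levelOf b
  haveI := L.fd
  haveI : Finite L.E := Module.finite_of_finite k
  haveI : IsGalois k L.E := GaloisField.instIsGaloisOfFinite
  obtain ⟨z, hz⟩ := L.exists_cocycle
  obtain ⟨Y, gY, φ, hφm, hYaff, -, ⟨eY⟩⟩ := exists_conjTwist (i := i) hc z
  obtain ⟨R, _, _, ⟨FA⟩, hft, hdom, hU, -⟩ := exists_hopf_unipotent (kb := kb) A hA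
  haveI : IsAffine Y.left := isAffine_of_isAffineHom Y.hom
  obtain ⟨R', _, _, ⟨FY⟩⟩ := exists_hopf (R := k) Y
  haveI := hφm
  let φG : Grp.mk (GalTw.bcK L.E Y) ≅ Grp.mk (GalTw.bcK L.E A) := Grp.mkIso' φ
  let F := (Over.pullback (SGA7.pt (K := k) L.E).hom).mapGrp
  let G₁ : Grp.mk (P L.E (L.E ⊗[k] R')) ≅ Grp.mk (P L.E (L.E ⊗[k] R)) :=
    (F.mapIso FY ≪≫ bcIso k R' L.E).symm ≪≫ φG ≪≫ F.mapIso FA ≪≫ bcIso k R L.E
  obtain ⟨eR⟩ := exists_bialgEquiv G₁
  haveI := hdom
  obtain ⟨hft', hdom', hU', hdim'⟩ := transfer_unipotent (kb := kb) eR hU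
  have hdimR : ringKrullDim R = (d : WithBot ℕ∞) := by
    rw [← hd, ← PrimeSpectrum.topologicalKrullDim_eq_ringKrullDim]
    exact ((Scheme.homeoOfIso ((Over.forget _).mapIso
      ((Grp.forget _).mapIso FA))).isHomeomorph.topologicalKrullDim_eq).symm
  haveI := hdom'
  rw [← card_points_of_isUnipotent (kb := kb) d R' hU' (hdim'.trans hdimR)]
  -- rational points of the twist
  let ept : SGA7.pt (K := k) k ≅ 𝟙_ (Over (Spec (CommRingCat.of k))) :=
    { hom := toUnit _
      inv := Over.homMk (𝟙 (Spec (CommRingCat.of k))) (by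
        show 𝟙 _ ≫ Spec.map (CommRingCat.ofHom (algebraMap k k)) = 𝟙 _
        rw [Algebra.algebraMap_self, CommRingCat.ofHom_id, Spec.map_id, Category.id_comp])
      hom_inv_id := to_pt_eq _ _
      inv_hom_id := toUnit_unique _ _ }
  let e₁ : (R' →ₐ[k] k) ≃ (SGA7.pt (K := k) k ⟶ Y) :=
    (WithConv.equiv (R' →ₐ[k] k)).symm.trans
      ((Spec.mapMulEquiv (R := k) (S := R') (T := k)).toEquiv.trans (Iso.homToEquiv ((Grp.forget _).mapIso FY).symm))
  refine Eq.trans ?_ (Nat.card_congr ((e₁.trans (Iso.homFromEquiv ept)).trans eY)).symm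
  -- fixed points are defined over the level
  let S := {u : SGA7.Pts L.E A // ∀ σ : L.E ≃ₐ[k] L.E, z.1 σ * ((σ • u : SGA7.Pts L.E A) ≫ i) * (z.1 σ)⁻¹ = u ≫ i}
  let π := frob k kb
  have hsmul : ∀ (σ : kb ≃ₐ[k] kb) (v : SGA7.Pts kb A), σ • (v ≫ i : SGA7.Pts kb B) = (σ • v) ≫ i := fun σ v => by
    show SGA7.specAut σ ≫ v ≫ i = (SGA7.specAut σ ≫ v) ≫ i
    rw [Category.assoc]
  have fwd : ∀ v : S, ((inc L.E ≫ v.1 : SGA7.Pts kb A) ≫ i) * b * (π • ((inc L.E ≫ v.1 : SGA7.Pts kb A) ≫ i))⁻¹ = b :=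
    fun v => by
      have h0 := congrArg (inc L.E ≫ ·) (v.2 (π.restrictNormal L.E))
      simp only [MonObj.comp_mul, GrpObj.comp_inv] at h0
      rw [show (inc L.E ≫ z.1 (π.restrictNormal L.E) : SGA7.Pts kb B) = b from hz] at h0
      rw [hsmul, smul_defOver, Category.assoc, Category.assoc, mul_inv_eq_iff_eq_mul]
      exact (mul_inv_eq_iff_eq_mul.1 h0).symm
  refine (Nat.card_congr (Equiv.ofBijective (fun v : S => (⟨inc L.E ≫ v.1, fwd v⟩ :
    {u : SGA7.Pts kb A // (u ≫ i) * b * (frob k kb • (u ≫ i : SGA7.Pts kb B))⁻¹ = b})) ⟨?_, ?_⟩)).symm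
  · exact fun v v' h => Subtype.ext (inc_cancel L.E (congrArg Subtype.val h))
  · rintro ⟨u, hu⟩
    have h0 : b * (π • (u ≫ i : SGA7.Pts kb B)) = (u ≫ i) * b := (mul_inv_eq_iff_eq_mul.1 hu).symm
    have key : ∀ m, iter π b m * ((π ^ m) • (u ≫ i : SGA7.Pts kb B)) = (u ≫ i) * iter π b m := fun m => by
      induction m with
      | zero => rw [pow_zero, one_smul, iter, _root_.one_mul, _root_.mul_one]
      | succ m ih =>
        rw [iter, pow_succ', mul_smul, _root_.mul_assoc, ← smul_mul', ih, smul_mul', ← _root_.mul_assoc, h0,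
          _root_.mul_assoc]
    have hN : (π ^ L.N) • u = u := by
      rw [← cancel_mono i, ← hsmul]
      have h1 := key L.N
      rw [show iter π b L.N = 1 from L.one, _root_.one_mul, _root_.mul_one] at h1
      exact h1
    obtain ⟨v, hv⟩ := defOver_of_fixed L.E _ L.mem u hN
    refine ⟨⟨v, fun σ => inc_cancel L.E ?_⟩, Subtype.ext hv⟩
    -- the condition propagates along powers of the Frobenius
    have hall : ∀ m : ℕ, ∀ τ : L.E ≃ₐ[k] L.E, τ = (π ^ m).restrictNormal L.E →
        (inc L.E ≫ z.1 τ : SGA7.Pts kb B) = iter π b m := by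
      intro m
      induction m with
      | zero =>
        intro τ hτ
        have h1 : τ = 1 := by
          rw [hτ, pow_zero]; exact map_one (AlgEquiv.restrictNormalHom L.E)
        rw [h1]
        have hz1 : z.1 (1 : L.E ≃ₐ[k] L.E) = 1 := by
          have := z.2 1 1
          rw [_root_.one_mul, one_smul] at this
          exact mul_eq_left.1 this.symm
        rw [hz1, MonObj.comp_one]; rfl
      | succ m ih =>
        intro τ hτ
        have h1 : τ = π.restrictNormal L.E * (π ^ m).restrictNormal L.E := by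
          rw [hτ, pow_succ']; exact map_mul (AlgEquiv.restrictNormalHom L.E) _ _
        rw [h1, z.2, MonObj.comp_mul, hz, ← smul_defOver, ih _ rfl]
        rfl
    obtain ⟨l, hl⟩ := AlgEquiv.restrictNormalHom_surjective (F := k) (K₁ := L.E) kb σ
    obtain ⟨m, hm⟩ := exists_eq_pow_on π frob_apply L.E l
    have hσ : σ = (π ^ m).restrictNormal L.E := by
      rw [← hl]
      refine AlgEquiv.ext fun x => Subtype.ext ?_
      exact ((l.restrictNormal_commutes L.E x).trans (hm x.1 x.2)).trans ((π ^ m).restrictNormal_commutes L.E x).symm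
    subst hσ
    simp only [MonObj.comp_mul, GrpObj.comp_inv, hall m _ rfl, ← Category.assoc, ← smul_defOver, hv]
    rw [← hsmul, key, mul_inv_cancel_right]

end Groth.L24.Count
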